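import Cfsg.Agent.Mrg.Omega.NO1.AB.Beta


/-!
# N1, one component: the output of the module theorem (bb OMEGA 20935 (C2), 20994, helper406)

`Fin V U T M` : a subgroup `L` with a member `A ≤ L ∩ T`, `L ≰ M`, `Loc0` in `L` with `L₁ = L ∩ M`, `C_V(L) = 0`, and
(BETA) `A ∩ O₂(L) ≠ 1` or (ALPHA+) `O₂(L) = 1` and (+).
`Loc0.congr` : transport along an isomorphism.  `Fin.of_sub` : from a subgroup to the whole group.
-/

set_option autoImplicit false
set_option linter.unusedSectionVars false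

namespace Cfsg.Agent.Omega.NO1.TH

open Subgroup Cfsg.Agent.Omega.NO1.AB
open scoped Pointwise

universe u

section congr

variable {L L' : Type u} [Group L] [Group L'] {V : Type u} [AddCommGroup V] [DistribMulAction L V]
  [DistribMulAction L' V] (e : L ≃* L') (he : ∀ (l : L) (v : V), e l • v = l • v)
include he

theorem fx_equiv (B : Subgroup L) : fx V (B.map e.toMonoidHom) = fx V B := by
  ext v
  constructor
  · intro h b hb
    rw [← he]
    exact h _ ⟨b, hb, rfl⟩
  · rintro h _ ⟨b, hb, rfl⟩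
    change e b • v = v
    rw [he]
    exact h b hb

theorem Ee_equiv (B : Subgroup L) : Ee V (B.map e.toMonoidHom) = Ee V B := by
  ext v
  constructor
  · intro h b hb
    have h1 := h _ ⟨b, hb, rfl⟩
    change e b • v + v ∈ _ at h1
    rwa [fx_equiv e he, he] at h1
  · rintro h _ ⟨b, hb, rfl⟩
    change e b • v + v ∈ _
    rw [fx_equiv e he, he]
    exact h b hb

theorem Mem.congr {A : Subgroup L} {E F : AddSubgroup V} (h : Mem A E F) : Mem (A.map e.toMonoidHom) E F where
  comm := by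
    rintro _ ⟨b, hb, rfl⟩ _ ⟨c, hc, rfl⟩
    change e b * e c = e c * e b
    rw [← map_mul, ← map_mul, h.comm b hb c hc]
  sq := by
    rintro _ ⟨b, hb, rfl⟩
    change e b * e b = 1
    rw [← map_mul, h.sq b hb, map_one]
  FE := h.FE
  VB := by
    rintro _ ⟨b, hb, rfl⟩ v
    change e b • v + v ∈ E
    rw [he]
    exact h.VB b hb v
  EB := by
    rintro _ ⟨b, hb, rfl⟩ v hv
    change e b • v + v ∈ F
    rw [he]
    exact h.EB b hb v hv
  FB := by
    rintro _ ⟨b, hb, rfl⟩ v hv
    change e b • v = v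
    rw [he]
    exact h.FB b hb v hv
  CB := fun v hv => h.CB v fun b hb => by
    rw [← he]
    exact hv _ ⟨b, hb, rfl⟩
  inj := by
    rintro w hw _ ⟨b, hb, rfl⟩ hbw
    change e b • w + w ∈ F at hbw
    rw [he] at hbw
    change e b = 1
    rw [h.inj w hw b hb hbw, map_one]
  surj := fun w hw x hx => by
    obtain ⟨b, hb, h1⟩ := h.surj w hw x hx
    refine ⟨e b, ⟨b, hb, rfl⟩, ?_⟩
    rwa [he]
  ne := h.ne

omit he in
theorem map_equiv_ne_top {B : Subgroup L} (h : B ≠ ⊤) : B.map e.toMonoidHom ≠ ⊤ := by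
  intro h1
  apply h
  rw [eq_top_iff]
  intro x _
  have h2 : e x ∈ B.map e.toMonoidHom := by rw [h1]; exact mem_top _
  obtain ⟨b, hb, hbx⟩ := h2
  have : b = x := e.injective hbx
  rwa [← this]

omit he in
theorem card_map_equiv (B : Subgroup L) : Nat.card ↥(B.map e.toMonoidHom) = Nat.card B :=
  (Nat.card_congr (B.equivMapOfInjective _ e.injective).toEquiv).symm

omit he in
theorem conj_map_equiv (x : L) (B : Subgroup L) :
    (MulAut.conj x • B).map e.toMonoidHom = MulAut.conj (e x) • B.map e.toMonoidHom := by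
  ext y
  rw [mem_conj]
  constructor
  · rintro ⟨b, hb, rfl⟩
    rw [SetLike.mem_coe, mem_conj] at hb
    refine ⟨_, hb, ?_⟩
    change e (x⁻¹ * b * x) = (e x)⁻¹ * e b * e x
    rw [map_mul, map_mul, map_inv]
  · rintro ⟨b, hb, hby⟩
    refine ⟨x * b * x⁻¹, conj_mem_conj hb, ?_⟩
    change e (x * b * x⁻¹) = y
    have hby' : e b = (e x)⁻¹ * y * e x := hby
    rw [map_mul, map_mul, map_inv, hby']
    group

/-- `Loc0` along an isomorphism -/
theorem Loc0.congr {A Q L₁ : Subgroup L} {E F : AddSubgroup V} {R : Sylow 2 L} (h : Loc0 A E F Q L₁ R)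
    {R' : Sylow 2 L'} (hR : (R' : Subgroup L') = (R : Subgroup L).map e.toMonoidHom) :
    Loc0 (A.map e.toMonoidHom) E F (Q.map e.toMonoidHom) (L₁.map e.toMonoidHom) R' := by
  have hcm : ∀ K : Subgroup L', (K.comap e.toMonoidHom).map e.toMonoidHom = K := fun K =>
    map_comap_eq_self_of_surjective e.surjective K
  refine ⟨h.two, Mem.congr e he h.mem, ?_, ?_, h.Q2.map _, ?_, ?_, ?_, map_equiv_ne_top e h.ne, ?_, ?_⟩
  · intro A₀ hA₀
    rw [← hcm A₀, card_map_equiv, fx_equiv e he]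
    apply h.mu
    intro x hx
    obtain ⟨y, hy, hyx⟩ := hA₀ hx
    have : y = x := e.injective hyx
    rwa [← this]
  · exact h.Qn.map _ e.surjective
  · intro N hN hN2
    rw [← hcm N]
    exact map_mono (h.core _ (hN.comap _) (hN2.comap_of_injective _ e.injective))
  · rw [hR]; exact map_mono h.AR
  · rw [hR]; exact map_equiv_ne_top e h.R_ne
  · intro K hK hne
    rw [← hcm K]
    apply map_mono
    apply h.uniq
    · exact map_le_iff_le_comap.1 hK
    · intro h1
      apply hne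
      rw [← hcm K, h1, ← MonoidHom.range_eq_map, MonoidHom.range_eq_top]
      exact e.surjective
  · obtain ⟨x, hx⟩ := h.gen
    refine ⟨e x, ?_⟩
    rw [← conj_map_equiv, ← Subgroup.map_sup, hx, ← MonoidHom.range_eq_map, MonoidHom.range_eq_top]
    exact e.surjective

end congr

variable {Y : Type u} [Group Y] {V : Type u} [AddCommGroup V] [DistribMulAction Y V]

/-- **The output of the module theorem of CARD N1-ONE.** -/
def Fin (V : Type u) [AddCommGroup V] [DistribMulAction Y V] (U : Set (Subgroup Y)) (T : Sylow 2 Y)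
    (M : Subgroup Y) : Prop :=
  ∃ (L A : Subgroup Y) (Q : Subgroup L) (R : Sylow 2 L), A ∈ U ∧ A ≤ L ∧ A ≤ (T : Subgroup Y) ∧ ¬ L ≤ M ∧
    (R : Subgroup L).map L.subtype ≤ (T : Subgroup Y) ∧
    Loc0 (A.subgroupOf L) (Ee V A) (fx V A) Q (M.subgroupOf L) R ∧ fx V L = ⊥ ∧
    (A.subgroupOf L ⊓ Q ≠ ⊥ ∨
      Q = ⊥ ∧ ∀ x : L, ∀ v ∈ Ee V A, v ≠ 0 → (∀ r ∈ R, (x * r * x⁻¹) • v = v) → (x : Y) ∈ M)

section sub

variable {H : Subgroup Y}

theorem subgroupOf_sub (L : Subgroup H) (K : Subgroup Y) :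
    ((K.subgroupOf H).subgroupOf L).map (L.equivMapOfInjective H.subtype H.subtype_injective).toMonoidHom =
      K.subgroupOf (L.map H.subtype) := by
  ext y
  constructor
  · rintro ⟨x, hx, rfl⟩
    exact hx
  · intro hy
    obtain ⟨x, hx, hxy⟩ := y.2
    refine ⟨⟨x, hx⟩, ?_, Subtype.ext hxy⟩
    change (H.subtype x : Y) ∈ K
    rw [hxy]
    exact hy

/-- **`Fin` for a subgroup gives `Fin`** -/
theorem Fin.of_sub [Finite Y] {U : Set (Subgroup Y)} {UH : Set (Subgroup H)} (hU : ∀ A ∈ UH, A.map H.subtype ∈ U)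
    {T : Sylow 2 Y} {P : Sylow 2 H} (hP : (P : Subgroup H).map H.subtype ≤ (T : Subgroup Y)) {M : Subgroup Y}
    (h : Fin V UH P (M.subgroupOf H)) : Fin V U T M := by
  have f2 : Fact (Nat.Prime 2) := ⟨Nat.prime_two⟩
  obtain ⟨L, A, Q, R, hA, hAL, hAP, hLM, hRP, h0, hfx, h1⟩ := h
  set e : L ≃* (L.map H.subtype : Subgroup Y) := L.equivMapOfInjective H.subtype H.subtype_injective with he
  have hev : ∀ (l : L) (v : V), e l • v = l • v := fun l v => rfl
  have hAm : (A.map H.subtype).subgroupOf H = A := comap_map_eq_self_of_injective H.subtype_injective A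
  have hE : Ee V (A.map H.subtype) = Ee V A := by
    ext v
    constructor
    · intro h b hb f hf
      exact h b ⟨b, hb, rfl⟩ f ⟨f, hf, rfl⟩
    · rintro h _ ⟨b, hb, rfl⟩ _ ⟨f, hf, rfl⟩
      exact h b hb f hf
  have hF : fx V (A.map H.subtype) = fx V A := by
    ext v
    constructor
    · intro h b hb
      exact h b ⟨b, hb, rfl⟩
    · rintro h _ ⟨b, hb, rfl⟩
      exact h b hb
  obtain ⟨R', hR'⟩ : ∃ R' : Sylow 2 (L.map H.subtype : Subgroup Y),
      (R' : Subgroup (L.map H.subtype : Subgroup Y)) = (R : Subgroup L).map e.toMonoidHom :=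
    ⟨Sylow.mapSurjective (f := e.toMonoidHom) e.surjective R,
      Sylow.coe_mapSurjective (f := e.toMonoidHom) e.surjective R⟩
  have hc := Loc0.congr e hev h0 hR'
  rw [show (M.subgroupOf H).subgroupOf L = (M.subgroupOf H).subgroupOf L from rfl, subgroupOf_sub] at hc
  have hA2 : (A.subgroupOf L).map e.toMonoidHom = (A.map H.subtype).subgroupOf (L.map H.subtype) := by
    rw [← subgroupOf_sub, hAm]
  rw [hA2] at hc
  refine ⟨L.map H.subtype, A.map H.subtype, Q.map e.toMonoidHom, R', hU A hA,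
    map_mono hAL, (map_mono hAP).trans hP, ?_, ?_, ?_, ?_, ?_⟩
  · intro h2
    apply hLM
    intro x hx
    exact h2 ⟨x, hx, rfl⟩
  · rw [hR']
    rintro _ ⟨_, ⟨r, hr, rfl⟩, rfl⟩
    exact hP ⟨_, hRP ⟨r, hr, rfl⟩, rfl⟩
  · rw [hE, hF]
    exact hc
  · rw [← hfx]
    ext v
    constructor
    · intro h b hb
      exact h b ⟨b, hb, rfl⟩
    · rintro h _ ⟨b, hb, rfl⟩
      exact h b hb
  · rcases h1 with h1 | ⟨h1, h2⟩
    · left
      rw [← hA2, ← Subgroup.map_inf _ _ _ e.injective]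
      intro h3
      apply h1
      exact (Subgroup.map_eq_bot_iff_of_injective _ e.injective).1 h3
    · right
      refine ⟨by rw [h1, Subgroup.map_bot], ?_⟩
      rintro ⟨_, x, hx, rfl⟩ v hv hv0 hfix
      rw [hE] at hv
      apply h2 ⟨x, hx⟩ v hv hv0
      intro r hr
      refine hfix (e r) ?_
      change e r ∈ (R' : Subgroup (L.map H.subtype : Subgroup Y))
      rw [hR']
      exact ⟨r, hr, rfl⟩

end sub

end Cfsg.Agent.Omega.NO1.TH
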