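import Cfsg.Agent.Mrg.Omega.NO1.Comp.Glue
import Cfsg.Agent.Mrg.Omega.NO1.Types
import Cfsg.Agent.Mrg.Omega.NO1.Comp.Dim
import Cfsg.Agent.Mrg.Omega.NO1.Fr
import Cfsg.Agent.MinSimple.EmptyE.Lift
import Cfsg.Agent.Mrg.Omega.NO1.AB.Beta
import Cfsg.Agent.Mrg.Omega.NO1.Field.FZero
import Cfsg.Agent.Mrg.Omega.NO1.Alpha.Trick
import Cfsg.Agent.Mrg.Omega.NO1.Alpha.Bridge
import Cfsg.Agent.Mrg.Omega.NO1.FrPlusMain
import Cfsg.Agent.Mrg.Omega.NOne.Flat.QC
import Cfsg.Agent.Mrg.Omega.NO1.TH.Empty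

-- merged: Cfsg.Agent.Mrg.Omega.NO1.Comp.PlusQ
section

/-!
# `PlusQ` from the tensor decomposition (project OMEGA, N1, THEOREM COMP #17539, (7); helper168)

* `toM b b'` : `W ⊗ W' ≃ M₂(K)`;
* `plusQ_of` : `V = W ⊗ W'`, `dim W = dim W' = 2`, all maps of determinant 1 of `W` and `W'` are induced, every
  element of `P` is pure or interchanges the factors, one interchanges : `PlusQ K P V`.
-/

set_option autoImplicit false
set_option linter.unusedSectionVars false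

namespace Cfsg.Agent.Omega.NO1.Comp

open Module TensorProduct Matrix

universe u

section coord

variable {K : Type*} [Field K] {W W' : Type*} [AddCommGroup W] [Module K W] [AddCommGroup W'] [Module K W']

/-- coordinates of `W ⊗ W'` -/
noncomputable def toM (b : Basis (Fin 2) K W) (b' : Basis (Fin 2) K W') (x : W ⊗[K] W') : Matrix (Fin 2) (Fin 2) K :=
  Matrix.of fun i j => (b.tensorProduct b').repr x (i, j)

variable (b : Basis (Fin 2) K W) (b' : Basis (Fin 2) K W')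

theorem toM_tmul (w : W) (w' : W') : toM b b' (w ⊗ₜ w') = vecMulVec (b.repr w) (b'.repr w') := by
  ext i j
  simp [toM, vecMulVec_apply, Basis.tensorProduct_repr_tmul_apply, mul_comm]

theorem toM_add (x y : W ⊗[K] W') : toM b b' (x + y) = toM b b' x + toM b b' y := by
  ext i j
  simp [toM]

theorem toM_zero : toM b b' (0 : W ⊗[K] W') = 0 := by
  ext i j
  simp [toM]

theorem toM_surj (X : Matrix (Fin 2) (Fin 2) K) : ∃ x, toM b b' x = X := by
  refine ⟨(b.tensorProduct b').repr.symm (Finsupp.equivFunOnFinite.symm fun p => X p.1 p.2), ?_⟩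
  ext i j
  simp [toM]

theorem toM_inj {x y : W ⊗[K] W'} (h : toM b b' x = toM b b' y) : x = y := by
  apply (b.tensorProduct b').repr.injective
  ext ⟨i, j⟩
  exact congrFun (congrFun h i) j

/-- the matrix of a semilinear map -/
theorem exists_mat {σ : K ≃+* K} {V₁ V₂ : Type*} [AddCommGroup V₁] [Module K V₁] [AddCommGroup V₂] [Module K V₂]
    (c : Basis (Fin 2) K V₁) (d : Basis (Fin 2) K V₂) (α : V₁ ≃+ V₂) (h : ∀ (k : K) v, α (k • v) = σ k • α v) :
    ∃ P : Matrix (Fin 2) (Fin 2) K, P.det ≠ 0 ∧ ∀ w, (d.repr (α w) : Fin 2 → K) = P *ᵥ (fun i => σ (c.repr w i)) := by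
  have h2 : ∀ w, (d.repr (α w) : Fin 2 → K) =
      (Matrix.of fun i j => d.repr (α (c j)) i) *ᵥ (fun i => σ (c.repr w i)) := by
    intro w
    have h1 : w = ∑ j, c.repr w j • c j := (c.sum_repr w).symm
    ext i
    conv_lhs => rw [h1]
    simp only [map_sum, h, map_smul, Finsupp.coe_finsetSum, Finset.sum_apply, Finsupp.smul_apply, smul_eq_mul,
      mulVec, dotProduct, Matrix.of_apply]
    exact Finset.sum_congr rfl fun j _ => mul_comm _ _
  refine ⟨Matrix.of fun i j => d.repr (α (c j)) i, fun h3 => ?_, h2⟩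
  obtain ⟨x, hx, hx0⟩ := Matrix.exists_mulVec_eq_zero_iff.2 h3
  apply hx
  have h4 : ∀ i, σ (c.repr (∑ j, σ.symm (x j) • c j) i) = x i := by
    intro i
    fin_cases i <;> simp
  have h5 := h2 (∑ j, σ.symm (x j) • c j)
  rw [show (fun i => σ (c.repr (∑ j, σ.symm (x j) • c j) i)) = x from funext h4, hx0] at h5
  have h6 : α (∑ j, σ.symm (x j) • c j) = 0 := by
    apply d.repr.injective
    ext i
    simpa using congrFun h5 i
  have h7 : ∑ j, σ.symm (x j) • c j = 0 := by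
    apply α.injective
    rw [h6, map_zero]
  ext i
  rw [← h4 i, h7]
  simp

theorem vmv (P Q : Matrix (Fin 2) (Fin 2) K) (x y : Fin 2 → K) :
    vecMulVec (P *ᵥ x) (Q *ᵥ y) = P * vecMulVec x y * Qᵀ := by
  ext i j
  simp only [vecMulVec_apply, mulVec, dotProduct, Matrix.mul_apply, Fin.sum_univ_two, transpose_apply]
  ring

theorem vmv_map (σ : K ≃+* K) (x y : Fin 2 → K) :
    vecMulVec (fun i => σ (x i)) (fun i => σ (y i)) = (vecMulVec x y).map σ := by
  ext i j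
  simp [vecMulVec_apply]

theorem vmv_tr (x y : Fin 2 → K) : (vecMulVec x y)ᵀ = vecMulVec y x := by
  ext i j
  simp [vecMulVec_apply, mul_comm]

end coord

section coord2

variable {K : Type*} [Field K] {W W' M : Type*} [AddCommGroup W] [Module K W] [AddCommGroup W'] [Module K W']
  [AddCommGroup M] [Module K M] (φ : W ⊗[K] W' ≃ₗ[K] M) (b : Basis (Fin 2) K W) (b' : Basis (Fin 2) K W')

/-- coordinates of `M` -/
noncomputable def cM (m : M) : Matrix (Fin 2) (Fin 2) K := toM b b' (φ.symm m)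

theorem cM_add (m n : M) : cM φ b b' (m + n) = cM φ b b' m + cM φ b b' n := by
  rw [cM, map_add, toM_add]; rfl

theorem cM_zero : cM φ b b' 0 = 0 := by
  rw [cM, map_zero, toM_zero]

theorem cM_tmul (w : W) (w' : W') : cM φ b b' (φ (w ⊗ₜ w')) = vecMulVec (b.repr w) (b'.repr w') := by
  rw [cM, φ.symm_apply_apply, toM_tmul]

theorem cM_surj (X : Matrix (Fin 2) (Fin 2) K) : ∃ m, cM φ b b' m = X := by
  obtain ⟨x, hx⟩ := toM_surj b b' X
  exact ⟨φ x, by rw [cM, φ.symm_apply_apply, hx]⟩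

theorem cM_inj {m n : M} (h : cM φ b b' m = cM φ b b' n) : m = n :=
  φ.symm.injective (toM_inj b b' h)

/-- a semilinear pure tensor in coordinates -/
theorem exists_pureM (σ : K ≃+* K) (g : M →+ M) (α : W ≃+ W) (β : W' ≃+ W')
    (hα : ∀ (k : K) v, α (k • v) = σ k • α v) (hβ : ∀ (k : K) v, β (k • v) = σ k • β v)
    (hg : ∀ w w', g (φ (w ⊗ₜ w')) = φ (α w ⊗ₜ β w')) :
    ∃ P Q : Matrix (Fin 2) (Fin 2) K, P.det ≠ 0 ∧ Q.det ≠ 0 ∧ ∀ m, cM φ b b' (g m) = P * (cM φ b b' m).map σ * Qᵀ := by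
  obtain ⟨P, hP, hP'⟩ := exists_mat b b α hα
  obtain ⟨Q, hQ, hQ'⟩ := exists_mat b' b' β hβ
  refine ⟨P, Q, hP, hQ, fun m => ?_⟩
  obtain ⟨x, rfl⟩ := φ.surjective m
  induction x with
  | zero => simp [cM_zero]
  | tmul w w' => rw [hg, cM_tmul, cM_tmul, hP', hQ', vmv, vmv_map]
  | add x y hx hy => rw [map_add, map_add, cM_add, hx, hy, cM_add, Matrix.map_add _ (fun a b => map_add σ a b), Matrix.mul_add, Matrix.add_mul]

/-- a semilinear swap in coordinates -/
theorem exists_swapM (σ : K ≃+* K) (g : M →+ M) (α : W ≃+ W') (β : W' ≃+ W)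
    (hα : ∀ (k : K) v, α (k • v) = σ k • α v) (hβ : ∀ (k : K) v, β (k • v) = σ k • β v)
    (hg : ∀ w w', g (φ (w ⊗ₜ w')) = φ (β w' ⊗ₜ α w)) :
    ∃ P Q : Matrix (Fin 2) (Fin 2) K, P.det ≠ 0 ∧ Q.det ≠ 0 ∧
      ∀ m, cM φ b b' (g m) = P * ((cM φ b b' m).map σ)ᵀ * Qᵀ := by
  obtain ⟨P, hP, hP'⟩ := exists_mat b' b β hβ
  obtain ⟨Q, hQ, hQ'⟩ := exists_mat b b' α hα
  refine ⟨P, Q, hP, hQ, fun m => ?_⟩
  obtain ⟨x, rfl⟩ := φ.surjective m
  induction x with
  | zero => simp [cM_zero]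
  | tmul w w' => rw [hg, cM_tmul, cM_tmul, hP', hQ', vmv, ← vmv_map, vmv_tr]
  | add x y hx hy =>
    rw [map_add, map_add, cM_add, hx, hy, cM_add, Matrix.map_add _ (fun a b => map_add σ a b), transpose_add,
      Matrix.mul_add, Matrix.add_mul]

/-- a linear pure tensor in coordinates -/
theorem cM_map (A : W →ₗ[K] W) (B : W' →ₗ[K] W') (x : W ⊗[K] W') :
    cM φ b b' (φ (TensorProduct.map A B x)) =
      LinearMap.toMatrix b b A * cM φ b b' (φ x) * (LinearMap.toMatrix b' b' B)ᵀ := by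
  induction x with
  | zero => simp [cM_zero]
  | tmul w w' =>
    rw [TensorProduct.map_tmul, cM_tmul, cM_tmul, ← vmv, LinearMap.toMatrix_mulVec_repr, LinearMap.toMatrix_mulVec_repr]
  | add x y hx hy => rw [map_add, map_add, cM_add, hx, hy, map_add, cM_add, Matrix.mul_add, Matrix.add_mul]

end coord2

section mat

variable {K : Type*} [Field K]

theorem det_map_ringEquiv (σ : K ≃+* K) (A : Matrix (Fin 2) (Fin 2) K) : (A.map σ).det = σ A.det := by
  rw [det_fin_two, det_fin_two]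
  simp

theorem map_mul_eq (σ : K ≃+* K) (A B : Matrix (Fin 2) (Fin 2) K) : (A * B).map σ = A.map σ * B.map σ := by
  rw [Matrix.map_mul]

/-- conjugate of a matrix of determinant 1 -/
theorem exists_conjM (σ : K ≃+* K) (P : Matrix (Fin 2) (Fin 2) K) (hP : P.det ≠ 0)
    (A : Matrix.SpecialLinearGroup (Fin 2) K) :
    ∃ A' : Matrix.SpecialLinearGroup (Fin 2) K, A'.1 * P = P * A.1.map σ := by
  refine ⟨⟨P * A.1.map σ * P⁻¹, ?_⟩, ?_⟩
  · rw [det_mul, det_mul, det_map_ringEquiv, A.2, map_one, mul_one, ← det_mul,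
      Matrix.mul_nonsing_inv _ (isUnit_iff_ne_zero.2 hP), det_one]
  · change P * A.1.map σ * P⁻¹ * P = _
    rw [Matrix.mul_assoc, Matrix.nonsing_inv_mul _ (isUnit_iff_ne_zero.2 hP), Matrix.mul_one]

end mat

section plus

variable {Y M : Type*} [Group Y] [AddCommGroup M] [DistribMulAction Y M]

/-- the action of `y` as an additive map -/
def actM (y : Y) : M →+ M := DistribSMul.toAddMonoidHom M y

/-- `M = M₂(K)`, `SL₂(K) × SL₂(K)` acts by `X ↦ A X Bᵀ`, every `y` is `X ↦ P σ(X) Qᵀ` or `X ↦ P σ(X)ᵀ Qᵀ`, and the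
second case occurs. -/
structure MC (Y : Type*) {M : Type*} [Group Y] [AddCommGroup M] [DistribMulAction Y M] {K : Type*} [Field K]
    (c : M → Matrix (Fin 2) (Fin 2) K) : Prop where
  add : ∀ m n, c (m + n) = c m + c n
  surj : ∀ X, ∃ m, c m = X
  ker : ∀ m, c m = 0 → m = 0
  lift : ∀ A B : Matrix.SpecialLinearGroup (Fin 2) K, ∃ y : Y, ∀ m, c (y • m) = A.1 * c m * B.1ᵀ
  ps : ∀ y : Y, (∃ (σ : K ≃+* K) (P Q : Matrix (Fin 2) (Fin 2) K), P.det ≠ 0 ∧ Q.det ≠ 0 ∧
      ∀ m, c (y • m) = P * (c m).map σ * Qᵀ) ∨ (∃ (σ : K ≃+* K) (P Q : Matrix (Fin 2) (Fin 2) K), P.det ≠ 0 ∧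
      Q.det ≠ 0 ∧ ∀ m, c (y • m) = P * ((c m).map σ)ᵀ * Qᵀ)
  sw : ∃ y : Y, ∃ (σ : K ≃+* K) (P Q : Matrix (Fin 2) (Fin 2) K), P.det ≠ 0 ∧
      Q.det ≠ 0 ∧ ∀ m, c (y • m) = P * ((c m).map σ)ᵀ * Qᵀ

/-- the input in terms of `V = W ⊗ W'` -/
structure PIn (Y : Type*) {M : Type*} [Group Y] [AddCommGroup M] [DistribMulAction Y M] {K : Type*} [Field K]
    [Module K M] {W W' : Type*} [AddCommGroup W] [Module K W] [AddCommGroup W'] [Module K W']
    (φ : W ⊗[K] W' ≃ₗ[K] M) : Prop where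
  hW : finrank K W = 2
  hW' : finrank K W' = 2
  r₁ : ∀ A : W →ₗ[K] W, LinearMap.det A = 1 → ∃ y : Y, ∀ x, y • φ x = φ (TensorProduct.map A LinearMap.id x)
  r₂ : ∀ B : W' →ₗ[K] W', LinearMap.det B = 1 → ∃ y : Y, ∀ x, y • φ x = φ (TensorProduct.map LinearMap.id B x)
  ps : ∀ y : Y,
      (∃ (σ : K ≃+* K) (α : W ≃+ W) (β : W' ≃+ W'), (∀ (k : K) v, α (k • v) = σ k • α v) ∧
        (∀ (k : K) v, β (k • v) = σ k • β v) ∧ ∀ w w', y • φ (w ⊗ₜ w') = φ (α w ⊗ₜ β w')) ∨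
      (∃ (σ : K ≃+* K) (α : W ≃+ W') (β : W' ≃+ W), (∀ (k : K) v, α (k • v) = σ k • α v) ∧
        (∀ (k : K) v, β (k • v) = σ k • β v) ∧ ∀ w w', y • φ (w ⊗ₜ w') = φ (β w' ⊗ₜ α w))
  sw : ∃ y : Y, ∃ (σ : K ≃+* K) (α : W ≃+ W') (β : W' ≃+ W), (∀ (k : K) v, α (k • v) = σ k • α v) ∧
        (∀ (k : K) v, β (k • v) = σ k • β v) ∧ ∀ w w', y • φ (w ⊗ₜ w') = φ (β w' ⊗ₜ α w)

theorem PIn.mc {K : Type*} [Field K] [Module K M] {W W' : Type*} [AddCommGroup W]
    [Module K W] [AddCommGroup W'] [Module K W'] {φ : W ⊗[K] W' ≃ₗ[K] M} (h : PIn Y φ) :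
    ∃ (b : Basis (Fin 2) K W) (b' : Basis (Fin 2) K W'), MC Y (cM φ b b') := by
  have : Module.Finite K W := Module.finite_of_finrank_pos (by rw [h.hW]; norm_num)
  have : Module.Finite K W' := Module.finite_of_finrank_pos (by rw [h.hW']; norm_num)
  let b : Basis (Fin 2) K W := Module.finBasisOfFinrankEq K W h.hW
  let b' : Basis (Fin 2) K W' := Module.finBasisOfFinrankEq K W' h.hW'
  refine ⟨b, b', cM_add φ b b', cM_surj φ b b', fun m hm => cM_inj φ b b' (by rw [cM_zero]; exact hm), ?_, ?_, ?_⟩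
  · intro A B
    obtain ⟨y, hy⟩ := h.r₁ (Matrix.toLin b b A.1) (by
      rw [← LinearMap.det_toMatrix b, LinearMap.toMatrix_toLin]; exact A.2)
    obtain ⟨z, hz⟩ := h.r₂ (Matrix.toLin b' b' B.1) (by
      rw [← LinearMap.det_toMatrix b', LinearMap.toMatrix_toLin]; exact B.2)
    refine ⟨y * z, fun m => ?_⟩
    obtain ⟨x, rfl⟩ := φ.surjective m
    rw [mul_smul, hz, hy, cM_map, cM_map, LinearMap.toMatrix_toLin, LinearMap.toMatrix_toLin, LinearMap.toMatrix_id,
      LinearMap.toMatrix_id, transpose_one, Matrix.one_mul, Matrix.mul_one, Matrix.mul_assoc]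
  · intro y
    rcases h.ps y with ⟨σ, α, β, h1, h2, h3⟩ | ⟨σ, α, β, h1, h2, h3⟩
    · left
      obtain ⟨P, Q, h4, h5, h6⟩ := exists_pureM φ b b' σ (actM y) α β h1 h2 h3
      exact ⟨σ, P, Q, h4, h5, h6⟩
    · right
      obtain ⟨P, Q, h4, h5, h6⟩ := exists_swapM φ b b' σ (actM y) α β h1 h2 h3
      exact ⟨σ, P, Q, h4, h5, h6⟩
  · obtain ⟨y, σ, α, β, h1, h2, h3⟩ := h.sw
    obtain ⟨P, Q, h4, h5, h6⟩ := exists_swapM φ b b' σ (actM y) α β h1 h2 h3
    exact ⟨y, σ, P, Q, h4, h5, h6⟩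

theorem map_conj {K K₀ : Type*} [Field K] [Field K₀] (τ : K ≃+* K₀) (σ : K ≃+* K) (X : Matrix (Fin 2) (Fin 2) K) :
    (X.map σ).map τ = (X.map τ).map ((τ.symm.trans σ).trans τ) := by
  ext i j
  simp

/-- change of the field -/
theorem MC.congr {K K₀ : Type*} [Field K] [Field K₀] {c : M → Matrix (Fin 2) (Fin 2) K} (h : MC Y c)
    (τ : K ≃+* K₀) : MC Y (fun m => (c m).map τ) := by
  have hd : ∀ X : Matrix (Fin 2) (Fin 2) K, X.det ≠ 0 → (X.map τ).det ≠ 0 := fun X hX => by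
    rw [det_fin_two] at hX ⊢
    simp only [Matrix.map_apply, ← map_mul, ← map_sub]
    exact (map_ne_zero_iff _ τ.injective).2 hX
  have hm : ∀ X Z : Matrix (Fin 2) (Fin 2) K, (X * Z).map τ = X.map τ * Z.map τ := fun X Z => by
    rw [Matrix.map_mul]
  refine ⟨fun m n => ?_, fun X => ?_, fun m hm0 => ?_, fun A B => ?_, fun y => ?_, ?_⟩
  · rw [h.add, Matrix.map_add _ (fun a b => map_add τ a b)]
  · obtain ⟨m, hm1⟩ := h.surj (X.map τ.symm)
    refine ⟨m, ?_⟩
    ext i j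
    simp [hm1]
  · apply h.ker
    ext i j
    apply τ.injective
    have h1 := congrFun (congrFun hm0 i) j
    simpa using h1
  · have hdet : ∀ A : Matrix.SpecialLinearGroup (Fin 2) K₀, (A.1.map τ.symm).det = 1 := fun A => by
      have h2 := A.2
      rw [det_fin_two] at h2 ⊢
      simp only [Matrix.map_apply, ← map_mul, ← map_sub, h2, map_one]
    obtain ⟨y, hy⟩ := h.lift ⟨A.1.map τ.symm, hdet A⟩ ⟨B.1.map τ.symm, hdet B⟩
    refine ⟨y, fun m => ?_⟩
    rw [hy, hm, hm, show ((B.1.map τ.symm)ᵀ).map τ = B.1ᵀ by ext i j; simp,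
      show (A.1.map τ.symm).map τ = A.1 by ext i j; simp]
  · rcases h.ps y with ⟨σ, P, Q, h1, h2, h3⟩ | ⟨σ, P, Q, h1, h2, h3⟩
    · left
      refine ⟨(τ.symm.trans σ).trans τ, P.map τ, Q.map τ, hd P h1, hd Q h2, fun m => ?_⟩
      rw [h3, hm, hm, map_conj]; rfl
    · right
      refine ⟨(τ.symm.trans σ).trans τ, P.map τ, Q.map τ, hd P h1, hd Q h2, fun m => ?_⟩
      rw [h3, hm, hm, ← map_conj]; rfl
  · obtain ⟨y, σ, P, Q, h1, h2, h3⟩ := h.sw
    refine ⟨y, (τ.symm.trans σ).trans τ, P.map τ, Q.map τ, hd P h1, hd Q h2, fun m => ?_⟩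
    rw [h3, hm, hm, ← map_conj]; rfl

end plus

section grp

variable {G : Type u} [Group G] {S P V : Subgroup G} {Y M : Type u} [Group Y] [AddCommGroup M]
    [DistribMulAction Y M] {T : Sylow 2 Y} {Mx : Subgroup Y}

/-- **`PlusQ`** -/
theorem MC.plusQ {K : Type} [Field K] {c : M → Matrix (Fin 2) (Fin 2) K} (C : MC Y c)
    (R : Rep S P V Y M T Mx) : Nonempty (PlusQ K P V) := by
  classical
  -- the coordinate on `G`
  let e : G → Matrix (Fin 2) (Fin 2) K := fun g => if h : ∃ m, R.el m = g then c h.choose else 0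
  have he : ∀ m, e (R.el m) = c m := by
    intro m
    have h : ∃ m', R.el m' = R.el m := ⟨m, rfl⟩
    have h1 : h.choose = m := R.inj h.choose_spec
    change (if h : ∃ m', R.el m' = R.el m then c h.choose else 0) = _
    rw [dif_pos h, h1]
  have hac : ∀ g (hg : g ∈ P) m, R.el (R.ac ⟨g, hg⟩ • m) = g * R.el m * g⁻¹ := fun g hg m => R.smul ⟨g, hg⟩ m
  -- conjugation in coordinates
  have hconj : ∀ g (hg : g ∈ P) m, e (g * R.el m * g⁻¹) = c (R.ac ⟨g, hg⟩ • m) := fun g hg m => by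
    rw [← hac, he]
  refine ⟨⟨e, ?_, ?_, ?_, ?_, ?_, ?_⟩⟩
  · intro v hv w hw
    obtain ⟨m, rfl⟩ := R.surj v hv
    obtain ⟨n, rfl⟩ := R.surj w hw
    rw [← R.add, he, he, he, C.add]
  · intro X
    obtain ⟨m, hm⟩ := C.surj X
    exact ⟨R.el m, R.mem m, by rw [he, hm]⟩
  · intro v hv h
    obtain ⟨m, rfl⟩ := R.surj v hv
    rw [he] at h
    have h1 : m = 0 := C.ker m h
    have h2 := R.add 0 0
    rw [add_zero] at h2
    rw [h1]
    exact (mul_eq_left (a := R.el 0)).1 h2.symm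
  · intro A B
    obtain ⟨y, hy⟩ := C.lift A B
    obtain ⟨g, hg⟩ := R.acs y
    refine ⟨g, g.2, fun v hv => ?_⟩
    obtain ⟨m, rfl⟩ := R.surj v hv
    rw [hconj _ g.2, he]
    change c (R.ac g • m) = _
    rw [hg, hy]
  · intro g hg h hh A B hAB
    have hAB' : ∀ m, c (R.ac ⟨h, hh⟩ • m) = A.1 * c m * B.1.transpose := fun m => by
      rw [← hconj h hh, hAB _ (R.mem m), he]
    have hgi : g⁻¹ ∈ P := P.inv_mem hg
    have key : ∀ v ∈ V, ∃ m, v = g * R.el m * g⁻¹ ∧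
        g * h * g⁻¹ * v * (g * h * g⁻¹)⁻¹ = R.el (R.ac ⟨g, hg⟩ • R.ac ⟨h, hh⟩ • m) := by
      intro v hv
      obtain ⟨m, rfl⟩ := R.surj v hv
      refine ⟨R.ac ⟨g⁻¹, hgi⟩ • m, ?_, ?_⟩
      · rw [hac]; group
      · rw [hac, hac, hac]; group
    rcases C.ps (R.ac ⟨g, hg⟩) with ⟨σ, X, Q, h1, h2, h3⟩ | ⟨σ, X, Q, h1, h2, h3⟩
    · obtain ⟨A', hA'⟩ := exists_conjM σ X h1 A
      obtain ⟨B', hB'⟩ := exists_conjM σ Q h2 B
      refine ⟨A', B', fun v hv => ?_⟩
      obtain ⟨m, h4, h5⟩ := key v hv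
      rw [h5, he, h3, hAB', h4, hconj g hg, h3, map_mul_eq, map_mul_eq]
      have h6 : (Q * B.1.map σ)ᵀ = (B'.1 * Q)ᵀ := by rw [hB']
      rw [transpose_mul, transpose_mul] at h6
      rw [show (B.1.transpose).map σ = (B.1.map σ)ᵀ from rfl]
      calc X * (A.1.map σ * (c m).map σ * (B.1.map σ)ᵀ) * Qᵀ
          = (X * A.1.map σ) * (c m).map σ * ((B.1.map σ)ᵀ * Qᵀ) := by simp only [Matrix.mul_assoc]
        _ = (A'.1 * X) * (c m).map σ * (Qᵀ * B'.1ᵀ) := by rw [hA', h6]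
        _ = _ := by simp only [Matrix.mul_assoc]
    · obtain ⟨A', hA'⟩ := exists_conjM σ Q h2 A
      obtain ⟨B', hB'⟩ := exists_conjM σ X h1 B
      refine ⟨B', A', fun v hv => ?_⟩
      obtain ⟨m, h4, h5⟩ := key v hv
      rw [h5, he, h3, hAB', h4, hconj g hg, h3, map_mul_eq, map_mul_eq, transpose_mul, transpose_mul]
      have h6 : (Q * A.1.map σ)ᵀ = (A'.1 * Q)ᵀ := by rw [hA']
      rw [transpose_mul, transpose_mul] at h6
      rw [show (B.1.transpose).map σ = (B.1.map σ)ᵀ from rfl, transpose_transpose]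
      calc X * (B.1.map σ * (((c m).map σ)ᵀ * (A.1.map σ)ᵀ)) * Qᵀ
          = (X * B.1.map σ) * ((c m).map σ)ᵀ * ((A.1.map σ)ᵀ * Qᵀ) := by simp only [Matrix.mul_assoc]
        _ = (B'.1 * X) * ((c m).map σ)ᵀ * (Qᵀ * A'.1ᵀ) := by rw [hB', h6]
        _ = _ := by simp only [Matrix.mul_assoc]
  · obtain ⟨y, σ, X, Q, h4, h5, h6'⟩ := C.sw
    obtain ⟨⟨s, hs⟩, rfl⟩ := R.acs y
    refine ⟨s, hs, fun h hh A hA => ?_⟩
    obtain ⟨A', hA'⟩ := exists_conjM σ Q h5 A
    refine ⟨A', fun v hv => ?_⟩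
    obtain ⟨m, rfl⟩ := R.surj v hv
    have hsi : s⁻¹ ∈ P := P.inv_mem hs
    have h7 : s * h * s⁻¹ * R.el m * (s * h * s⁻¹)⁻¹ =
        R.el (R.ac ⟨s, hs⟩ • R.ac ⟨h, hh⟩ • R.ac ⟨s⁻¹, hsi⟩ • m) := by
      rw [hac, hac, hac]; group
    have h8 : R.el m = R.el (R.ac ⟨s, hs⟩ • R.ac ⟨s⁻¹, hsi⟩ • m) := by
      rw [hac, hac]; group
    rw [h7, he, h6', ← hconj h hh, hA _ (R.mem _), he]
    rw [h8, he, h6', map_mul_eq, transpose_mul]
    have h9 : (Q * A.1.map σ)ᵀ = (A'.1 * Q)ᵀ := by rw [hA']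
    rw [transpose_mul, transpose_mul] at h9
    simp only [Matrix.mul_assoc]
    rw [h9]

end grp

end Cfsg.Agent.Omega.NO1.Comp

end

-- merged: Cfsg.Agent.Mrg.Omega.NO1.Comp.RepOne
section

section


/-!
# N1, THEOREM COMP: the group `Y` induced by `P` on `V₁ = [V_P, O²(P)]` (project OMEGA)

Text: helper390 (bb OMEGA #17539), part (III) of the split #18039. Typed by helper570.

* `exists_rep1` : `FDat S P E F W` ⟹ `Rep S P (V1 S P) Y M T Mx`.
* `minP` : every `Rep` is a `Grp.MinP`.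
* `irred`, `prim` : `M` is irreducible for `Y`, and `Y` permutes transitively no decomposition of `M`.
* `exists_sit` : if the image of `W` centralises `O(Y)` there is a component `K` of even order (`Grp.Sit T Mx K`), and
  `M` is irreducible for `E(Y)`.
-/

set_option autoImplicit false
set_option linter.unusedSectionVars false

namespace Cfsg.Agent.Omega.NO1.Comp.RepOne

open Subgroup Cfsg Cfsg.Agent.ZN Cfsg.Agent.ZN.ChoiceBase Cfsg.Agent.Omega.MinPar Cfsg.Agent.Omega.Frame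
open Cfsg.Agent.Omega.NO1 Cfsg.Agent.Omega.NO1.WRF Cfsg.Agent.Omega.NO1.WRF.Irr Cfsg.Agent.Omega.NO1.WRF.Single
open Cfsg.Agent.Omega.FFThm (OffM)
open Cfsg.Agent.Omega.NO1.Comp.Irr

universe u

section sub

variable {Y M : Type*} [Group Y] [AddCommGroup M] [DistribMulAction Y M]

/-- the action on an invariant subgroup -/
@[reducible] def subAct (A : AddSubgroup M) (hA : ∀ y : Y, ∀ m ∈ A, y • m ∈ A) : DistribMulAction Y A where
  smul y m := ⟨y • (m : M), hA y m m.2⟩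
  one_smul m := Subtype.ext (one_smul Y (m : M))
  mul_smul x y m := Subtype.ext (mul_smul x y (m : M))
  smul_zero y := Subtype.ext (smul_zero y)
  smul_add y a b := Subtype.ext (smul_add y (a : M) (b : M))

end sub

section minp

variable {G : Type u} [Group G] {S P V : Subgroup G} {Y M : Type u} [Group Y] [AddCommGroup M]
  [DistribMulAction Y M] {T : Sylow 2 Y} {Mx : Subgroup Y}

theorem minP (R : Rep S P V Y M T Mx) : Grp.MinP T Mx := ⟨R.core, R.TM, R.Mne, R.max⟩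

/-- a `Y`-invariant subgroup of `M` as a `P`-invariant subgroup of `V` -/
def toG (R : Rep S P V Y M T Mx) (A : AddSubgroup M) : Subgroup G where
  carrier := {g | ∃ m ∈ A, R.el m = g}
  one_mem' := ⟨0, A.zero_mem, R.el_zero⟩
  mul_mem' := by
    rintro _ _ ⟨a, ha, rfl⟩ ⟨b, hb, rfl⟩
    exact ⟨a + b, A.add_mem ha hb, R.add a b⟩
  inv_mem' := by
    rintro _ ⟨a, ha, rfl⟩
    exact ⟨a, ha, (R.el_inv a).symm⟩

theorem mem_toG (R : Rep S P V Y M T Mx) {A : AddSubgroup M} {g : G} : g ∈ toG R A ↔ ∃ m ∈ A, R.el m = g := Iff.rfl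

theorem el_mem_toG (R : Rep S P V Y M T Mx) {A : AddSubgroup M} {m : M} : R.el m ∈ toG R A ↔ m ∈ A := by
  constructor
  · rintro ⟨n, hn, e⟩
    rwa [R.inj e] at hn
  · intro h
    exact ⟨m, h, rfl⟩

theorem toG_le (R : Rep S P V Y M T Mx) (A : AddSubgroup M) : toG R A ≤ V := by
  rintro _ ⟨m, -, rfl⟩
  exact R.mem m

theorem toG_mono (R : Rep S P V Y M T Mx) {A B : AddSubgroup M} (h : A ≤ B) : toG R A ≤ toG R B := by
  rintro _ ⟨m, hm, rfl⟩
  exact ⟨m, h hm, rfl⟩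

theorem toG_inj (R : Rep S P V Y M T Mx) {A B : AddSubgroup M} (h : toG R A = toG R B) : A = B := by
  ext m
  rw [← el_mem_toG R, h, el_mem_toG]

theorem toG_top (R : Rep S P V Y M T Mx) : toG R ⊤ = V := by
  apply le_antisymm (toG_le R _)
  intro v hv
  obtain ⟨m, rfl⟩ := R.surj v hv
  exact ⟨m, AddSubgroup.mem_top m, rfl⟩

theorem toG_bot (R : Rep S P V Y M T Mx) : toG R ⊥ = ⊥ := by
  rw [eq_bot_iff]
  rintro _ ⟨m, hm, rfl⟩
  rw [AddSubgroup.mem_bot.mp hm, R.el_zero]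
  exact one_mem _

/-- the preimage of a subgroup of `V` -/
def ofG (R : Rep S P V Y M T Mx) (X : Subgroup G) : AddSubgroup M where
  carrier := {m | R.el m ∈ X}
  zero_mem' := by
    show R.el 0 ∈ X
    rw [R.el_zero]
    exact one_mem X
  add_mem' := by
    intro a b ha hb
    show R.el (a + b) ∈ X
    rw [R.add]
    exact mul_mem ha hb
  neg_mem' := by
    intro a ha
    show R.el (-a) ∈ X
    rw [neg_eq_of_add_eq_zero_left (R.two a)]
    exact ha

theorem mem_ofG (R : Rep S P V Y M T Mx) {X : Subgroup G} {m : M} : m ∈ ofG R X ↔ R.el m ∈ X := Iff.rfl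

theorem toG_le_iff (R : Rep S P V Y M T Mx) {A : AddSubgroup M} {X : Subgroup G} : toG R A ≤ X ↔ A ≤ ofG R X := by
  constructor
  · intro h m hm
    exact h ⟨m, hm, rfl⟩
  · rintro h _ ⟨m, hm, rfl⟩
    exact h hm

theorem gc (R : Rep S P V Y M T Mx) : GaloisConnection (toG R) (ofG R) := fun _ _ => toG_le_iff R

theorem toG_inf (R : Rep S P V Y M T Mx) {A B : AddSubgroup M} : toG R (A ⊓ B) = toG R A ⊓ toG R B := by
  apply le_antisymm (le_inf (toG_mono R inf_le_left) (toG_mono R inf_le_right))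
  rintro _ ⟨⟨a, ha, rfl⟩, hb⟩
  exact ⟨a, ⟨ha, (el_mem_toG R).mp hb⟩, rfl⟩

theorem toG_norm [Finite G] (R : Rep S P V Y M T Mx) {A : AddSubgroup M} (hA : ∀ y : Y, ∀ m ∈ A, y • m ∈ A) :
    P ≤ normalizer (toG R A : Set G) := by
  intro p hp
  refine mem_normalizer_of_cj_le ?_
  rintro _ ⟨_, ⟨m, hm, rfl⟩, rfl⟩
  refine ⟨R.ac ⟨p, hp⟩ • m, hA _ m hm, ?_⟩
  rw [R.smul]
  rfl

theorem cj_toG (R : Rep S P V Y M T Mx) {A : AddSubgroup M} {p : G} (hp : p ∈ P) :
    cj p (toG R A) = toG R (ya (R.ac ⟨p, hp⟩) A) := by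
  ext g
  constructor
  · rintro ⟨_, ⟨m, hm, rfl⟩, rfl⟩
    refine ⟨R.ac ⟨p, hp⟩ • m, ⟨m, hm, rfl⟩, ?_⟩
    rw [R.smul]
    rfl
  · rintro ⟨_, ⟨m, hm, rfl⟩, rfl⟩
    refine ⟨R.el m, ⟨m, hm, rfl⟩, ?_⟩
    exact (R.smul ⟨p, hp⟩ m).symm

end minp

section fdat

variable {G : Type u} [Group G] [Finite G] {S : Sylow 2 G} {P E F W : Subgroup G}

/-- the `Rep` of `V₁` -/
theorem exists_rep1 (h : FDat S P E F W) :
    ∃ (Y M : Type u) (_ : Group Y) (_ : Finite Y) (_ : AddCommGroup M) (_ : Finite M)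
      (_ : DistribMulAction Y M) (T : Sylow 2 Y) (Mx : Subgroup Y),
      Nonempty (Rep (S : Subgroup G) P (V1 S P) Y M T Mx) := by
  classical
  obtain ⟨Y, M, _, _, _, _, _, T, Mx, ⟨R⟩⟩ := h.cfg.exists_rep
  let A : AddSubgroup M := ofG R (V1 S P)
  have hA : ∀ y : Y, ∀ m ∈ A, y • m ∈ A := by
    intro y m hm
    obtain ⟨p, rfl⟩ := R.acs y
    show R.el (R.ac p • m) ∈ V1 S P
    rw [R.smul]
    exact (mem_normalizer_iff.mp (h.P_norm_V1 p.2) _).mp hm
  let _ : DistribMulAction Y A := subAct A hA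
  have hsm : ∀ (y : Y) (m : A), ((y • m : A) : M) = y • (m : M) := fun _ _ => rfl
  refine ⟨Y, A, inferInstance, inferInstance, inferInstance, inferInstance, inferInstance, T, Mx, ⟨?_⟩⟩
  have hfaith : ∀ y : Y, (∀ m : A, y • m = m) → y = 1 := by
    -- the kernel
    let X : Subgroup Y :=
      { carrier := {y | ∀ m : A, y • m = m}
        one_mem' := fun m => one_smul Y m
        mul_mem' := by
          intro x y hx hy m
          rw [mul_smul, hy, hx]
        inv_mem' := by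
          intro x hx m
          rw [inv_smul_eq_iff, hx] }
    have hX : X.Normal := by
      constructor
      intro x hx y m
      rw [mul_smul, mul_smul, hx, smul_inv_smul]
    have hX2 : ¬ 2 ∣ Nat.card X := by
      intro h2
      have h3 := (minP R).fr hX h2
      have h4 := h.V1_inf_zc
      rw [Ne, Subgroup.eq_bot_iff_forall] at h4
      push Not at h4
      obtain ⟨z, ⟨hz1, hz2⟩, hz0⟩ := h4
      obtain ⟨m, rfl⟩ := R.surj z (h.V1_le hz1)
      have h5 : ∀ y : Y, y • m = m := by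
        have h6 : ∀ y ∈ X ⊔ (T : Subgroup Y), y • m = m := by
          intro y hy
          have h7 : X ⊔ (T : Subgroup Y) ≤ MulAction.stabilizer Y m := by
            apply sup_le
            · intro x hx
              have := hx ⟨m, hz1⟩
              exact congrArg Subtype.val this
            · intro t ht
              obtain ⟨s, hs, rfl⟩ := (R.mem_T t).mp ht
              apply R.inj
              change R.el (R.ac s • m) = R.el m
              rw [R.smul, (ChoiceBase.mem_zc.1 hz2).2.2 s hs, mul_inv_cancel_right]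
          exact h7 hy
        intro y
        exact h6 y (by rw [h3]; exact mem_top y)
      apply hz0
      apply h.cv (h.V1_le hz1)
      intro g hg
      have h6 := R.smul ⟨g, hg⟩ m
      rw [h5] at h6
      exact h6.symm
    -- the norm map
    have _ : Fintype X := Fintype.ofFinite X
    let Nm : M →+ M :=
      { toFun := fun m => ∑ x : X, (x : Y) • m
        map_zero' := by simp
        map_add' := by
          intro a b
          simp only [smul_add]
          exact Finset.sum_add_distrib }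
    have hN1 : ∀ x : X, ∀ m : M, Nm ((x : Y) • m) = Nm m := by
      intro x m
      show ∑ y : X, (y : Y) • ((x : Y) • m) = ∑ y : X, (y : Y) • m
      rw [← Equiv.sum_comp (Equiv.mulRight x) (fun y : X => (y : Y) • m)]
      apply Finset.sum_congr rfl
      intro y _
      rw [smul_smul]
      rfl
    have hN2 : ∀ m : M, (∀ x : X, (x : Y) • m = m) → Nm m = m := by
      intro m hm
      show ∑ x : X, (x : Y) • m = m
      rw [Finset.sum_congr rfl (fun x _ => hm x), Finset.sum_const, Finset.card_univ, ← Nat.card_eq_fintype_card]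
      obtain ⟨k, hk⟩ : Odd (Nat.card X) := by
        rw [← Nat.not_even_iff_odd, even_iff_two_dvd]
        exact hX2
      rw [hk, add_nsmul, one_nsmul, mul_nsmul', two_nsmul, R.two, zero_add]
    -- `[V, X]`
    let B : AddSubgroup M := AddSubgroup.closure {m | ∃ (x : X) (v : M), (x : Y) • v - v = m}
    have hBN : ∀ m ∈ B, Nm m = 0 := by
      intro m hm
      have h3 : B ≤ Nm.ker := by
        rw [AddSubgroup.closure_le]
        rintro _ ⟨x, v, rfl⟩
        show Nm ((x : Y) • v - v) = 0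
        rw [map_sub, hN1, sub_self]
      exact h3 hm
    have hBY : ∀ y : Y, ∀ m ∈ B, y • m ∈ B := by
      intro y m hm
      have h3 : B ≤ B.comap (DistribSMul.toAddMonoidHom M y) := by
        rw [AddSubgroup.closure_le]
        rintro _ ⟨x, v, rfl⟩
        show y • ((x : Y) • v - v) ∈ B
        apply AddSubgroup.subset_closure
        refine ⟨⟨y * x * y⁻¹, hX.conj_mem _ x.2 y⟩, y • v, ?_⟩
        show (y * x * y⁻¹) • (y • v) - y • v = y • ((x : Y) • v - v)
        rw [smul_sub, mul_smul, mul_smul, inv_smul_smul]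
      exact h3 hm
    have hB : B = ⊥ := by
      by_contra hne
      have h3 := h.le_of (toG_le R B) (toG_norm R hBY) (by
        intro h4
        apply hne
        apply toG_inj R
        rw [h4, toG_bot])
      obtain ⟨z, hz⟩ := (Subgroup.ne_bot_iff_exists_ne_one).mp h.V1_ne
      obtain ⟨m, hm, e⟩ := h3 z.2
      have h4 : m ∈ A := by
        show R.el m ∈ V1 S P
        rw [e]
        exact z.2
      have h5 : Nm m = m := hN2 m fun x => congrArg Subtype.val (x.2 ⟨m, h4⟩)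
      rw [hBN m hm] at h5
      apply hz
      apply Subtype.ext
      rw [← e, ← h5, R.el_zero]
      rfl
    intro y hy
    apply R.faith
    intro m
    have h3 : y • m - m ∈ B := AddSubgroup.subset_closure ⟨⟨y, hy⟩, m, rfl⟩
    rw [hB, AddSubgroup.mem_bot, sub_eq_zero] at h3
    exact h3
  exact
    { el := fun m => R.el m
      mem := fun m => m.2
      add := fun m n => R.add m n
      inj := fun a b hab => Subtype.ext (R.inj hab)
      surj := fun v hv => by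
        obtain ⟨m, hm⟩ := R.surj v (h.V1_le hv)
        exact ⟨⟨m, by show R.el m ∈ V1 S P; rw [hm]; exact hv⟩, hm⟩
      ac := R.ac
      acs := R.acs
      smul := fun p m => R.smul p m
      two := fun m => Subtype.ext (R.two m)
      faith := hfaith
      core := R.core
      mem_T := R.mem_T
      TM := R.TM
      Mne := R.Mne
      max := R.max }

variable {Y M : Type u} [Group Y] [AddCommGroup M] [DistribMulAction Y M] {T : Sylow 2 Y} {Mx : Subgroup Y}

theorem _root_.Cfsg.Agent.Omega.NO1.WRF.Irr.FDat.W_not_le1 (h : FDat S P E F W) :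
    ¬ W ≤ centralizer (V1 S P : Set G) := by
  intro hc
  apply h.flat1.ne
  refine inf_le_right.trans ?_
  rw [h.flat1.F_eq]
  exact le_inf le_rfl (Subgroup.le_centralizer_iff.mp hc)

/-- `V₁` is irreducible -/
theorem irred (h : FDat S P E F W) (R : Rep (S : Subgroup G) P (V1 S P) Y M T Mx) : Irred Y M := by
  intro A hA
  rcases h.irr (toG_le R A) (toG_norm R hA) with h1 | h1
  · left
    apply toG_inj R
    rw [h1, toG_bot]
  · right
    apply toG_inj R
    rw [h1, toG_top]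

/-- WRF -/
theorem prim [Finite M] (h : FDat S P E F W) (R : Rep (S : Subgroup G) P (V1 S P) Y M T Mx) {FF : Subgroup G}
    (hoff : ∀ A : Subgroup G, A ≤ P → ¬ OffM (zl (S : Subgroup G) P) A)
    (hFF : F ≤ FF) (hFV : zl (S : Subgroup G) P ≤ centralizer (FF : Set G))
    (hFc : FF ≤ centralizer (FF : Set G)) (hF2 : IsPGroup 2 FF)
    (hbad : ¬ zl (S : Subgroup G) P ≤ o2 (centralizer (FF : Set G))) : Prim Y M := by
  intro 𝒮 h0 hperm htr hind hsup A hA
  by_contra hne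
  have hnt : Nontrivial 𝒮 := by
    by_contra hcon
    rw [not_nontrivial_iff_subsingleton] at hcon
    apply hne
    rw [← hsup]
    apply le_antisymm (le_sSup hA)
    apply sSup_le
    intro B hB
    exact (congrArg Subtype.val (hcon.elim ⟨B, hB⟩ ⟨A, hA⟩)).le
  have hfin : Finite 𝒮 := inferInstance
  refine h.wrf1 (Vf := fun B : 𝒮 => toG R B) hoff hFF hFV hFc hF2 hbad ?_ ?_ ?_ ?_
  · rw [sSupIndep_iff] at hind
    intro i
    have h1 := hind i
    rw [disjoint_iff] at h1 ⊢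
    have h2 : (⨆ j : 𝒮, ⨆ _ : j ≠ i, toG R (j : AddSubgroup M)) = toG R (⨆ j : 𝒮, ⨆ _ : j ≠ i, (j : AddSubgroup M)) := by
      rw [(gc R).l_iSup]
      congr 1
      ext1 j
      rw [(gc R).l_iSup]
    rw [h2, ← toG_inf]
    have h3 : ((i : AddSubgroup M) ⊓ ⨆ j : 𝒮, ⨆ _ : j ≠ i, (j : AddSubgroup M)) = ⊥ := h1
    rw [h3, toG_bot]
  · rw [← (gc R).l_iSup, ← sSup_eq_iSup', hsup, toG_top]
  · intro p hp i
    exact ⟨⟨_, hperm (R.ac ⟨p, hp⟩) i i.2⟩, cj_toG R hp⟩
  · intro i j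
    obtain ⟨y, hy⟩ := htr i i.2 j j.2
    obtain ⟨p, rfl⟩ := R.acs y
    refine ⟨p, p.2, ?_⟩
    rw [cj_toG R p.2]
    exact congrArg (toG R) hy

/-- **(III)**: if the image `U` of `W` centralises `O(Y)`, there is a component of even order not centralised by `U`,
and `V₁` is irreducible for `E(Y)` -/
theorem exists_sit [Finite Y] [Finite M] (h : FDat S P E F W) (R : Rep (S : Subgroup G) P (V1 S P) Y M T Mx)
    {FF : Subgroup G} (hoff : ∀ A : Subgroup G, A ≤ P → ¬ OffM (zl (S : Subgroup G) P) A)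
    (hFF : F ≤ FF) (hFV : zl (S : Subgroup G) P ≤ centralizer (FF : Set G))
    (hFc : FF ≤ centralizer (FF : Set G)) (hF2 : IsPGroup 2 FF)
    (hbad : ¬ zl (S : Subgroup G) P ≤ o2 (centralizer (FF : Set G)))
    (hO : R.im W ≤ centralizer (pPrimeCore 2 Y : Set Y)) :
    ∃ K : Subgroup Y, Grp.Sit T Mx K ∧ ¬ R.im W ≤ centralizer (K : Set Y) ∧
      ∀ X : AddSubgroup M, (∀ x ∈ layer Y, ∀ m ∈ X, x • m ∈ X) → X = ⊥ ∨ X = ⊤ := by
  have hU2 : IsPGroup 2 (R.im W) := (h.W2.comap_of_injective P.subtype P.subtype_injective).map _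
  have hU1 : R.im W ≠ ⊥ := by
    intro h0
    apply h.W_not_le1
    intro w hw
    have h1 : R.ac ⟨w, h.WP hw⟩ ∈ R.im W := R.mem_im.mpr ⟨w, h.WP hw, hw, rfl⟩
    rw [h0, mem_bot] at h1
    exact R.ac_eq_one.mp h1
  obtain ⟨K, hK, hK2, hUK⟩ := (minP R).exists_comp hU2 hU1 hO
  have hs : Grp.Sit T Mx K := ⟨minP R, hK, hK2⟩
  exact ⟨K, hs, hUK, hs.irr_layer R.two (irred h R) (prim h R hoff hFF hFV hFc hF2 hbad)⟩

end fdat

end Cfsg.Agent.Omega.NO1.Comp.RepOne

end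

section


/-!
# `V₁ = V_P` (project OMEGA, N1, THEOREM COMP #17539, (7); helper168)
-/

set_option autoImplicit false
set_option linter.unusedSectionVars false

namespace Cfsg.Agent.Omega.NO1.Comp.Seven

open Subgroup Cfsg Cfsg.Agent.ZN Cfsg.Agent.Omega.MinPar Cfsg.Agent.Omega.Frame
open Cfsg.Agent.Omega.NO1 Cfsg.Agent.Omega.NO1.WRF.Irr
open scoped commutatorElement
open Cfsg.Agent.MinSimple.VModule (oddGen mem_oddGen oddGen_def oddGen_le le_normalizer_oddGen)

universe u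

section md

variable {Y M : Type*} [Group Y] [AddCommGroup M] [DistribMulAction Y M]

/-- coprime action -/
theorem exists_fix (two : ∀ m : M, m + m = 0) {h : Y} (odd : Odd (orderOf h)) {M₁ : AddSubgroup M}
    (hM : ∀ m, h • m - m ∈ M₁) (inv : ∀ m ∈ M₁, h • m ∈ M₁) (m : M) : ∃ d, h • d = d ∧ d - m ∈ M₁ := by
  refine ⟨∑ i ∈ Finset.range (orderOf h), h ^ i • m, ?_, ?_⟩
  · rw [Finset.smul_sum]
    simp only [smul_smul, ← pow_succ']
    have h1 := Finset.sum_range_succ (fun i => h ^ i • m) (orderOf h)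
    have h2 := Finset.sum_range_succ' (fun i => h ^ i • m) (orderOf h)
    rw [h2] at h1
    rw [pow_orderOf_eq_one, pow_zero] at h1
    exact add_right_cancel h1
  · have h3 : ∀ i, h ^ i • m - m ∈ M₁ := by
      intro i
      induction i with
      | zero => simp
      | succ i ih =>
        have h4 : h ^ (i + 1) • m - m = h • (h ^ i • m - m) + (h • m - m) := by
          rw [pow_succ', mul_smul, smul_sub]; abel
        rw [h4]
        exact M₁.add_mem (inv _ ih) (hM m)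
    have h5 : ∀ n, ∑ i ∈ Finset.range n, h ^ i • m - n • m ∈ M₁ := by
      intro n
      induction n with
      | zero => simp
      | succ n ih =>
        rw [Finset.sum_range_succ, succ_nsmul]
        have h6 : ∑ i ∈ Finset.range n, h ^ i • m + h ^ n • m - (n • m + m) =
          (∑ i ∈ Finset.range n, h ^ i • m - n • m) + (h ^ n • m - m) := by abel
        rw [h6]
        exact M₁.add_mem ih (h3 n)
    have h7 : orderOf h • m = m := by
      obtain ⟨k, hk⟩ := odd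
      rw [hk, add_nsmul, one_nsmul, mul_comm, mul_nsmul, two_nsmul, two, zero_add]
    have h8 := h5 (orderOf h)
    rwa [h7] at h8

/-- **(7)** -/
theorem seven (two : ∀ m : M, m + m = 0) (faith : ∀ y : Y, (∀ m : M, y • m = m) → y = 1)
    (core : ∀ N : Subgroup Y, N.Normal → IsPGroup 2 N → N = ⊥) (O : Subgroup Y) (hO : O.Normal)
    (M₁ : AddSubgroup M) (inv : ∀ y : Y, ∀ m ∈ M₁, y • m ∈ M₁) (hM : ∀ y ∈ O, ∀ m, y • m - m ∈ M₁)
    (hcen : ∀ m : M, (∀ y ∈ O, y • m = m) → m = 0) (h₁ h₂ : Y) (hh₁ : h₁ ∈ O) (hh₂ : h₂ ∈ O)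
    (odd₁ : Odd (orderOf h₁)) (fp₁ : ∀ m ∈ M₁, h₁ • m = m → m = 0) (fp₂ : ∀ m ∈ M₁, h₂ • m = m → m = 0)
    (hc : ∀ m ∈ M₁, h₁ • h₂ • m = h₂ • h₁ • m)
    (conj : ∀ y : Y, (∀ m ∈ M₁, (y * h₁ * y⁻¹) • h₁ • m = h₁ • (y * h₁ * y⁻¹) • m) ∨
      (∀ m ∈ M₁, (y * h₁ * y⁻¹) • h₂ • m = h₂ • (y * h₁ * y⁻¹) • m)) : M₁ = ⊤ := by
  -- elements of `O` trivial on `M₁` are trivial
  have hN : ∀ y ∈ O, (∀ m ∈ M₁, y • m = m) → y = 1 := by
    let N : Subgroup Y :=
      { carrier := {y | (∀ m ∈ M₁, y • m = m) ∧ ∀ m : M, y • m - m ∈ M₁}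
        one_mem' := ⟨fun m _ => one_smul Y m, fun m => by rw [one_smul, sub_self]; exact M₁.zero_mem⟩
        mul_mem' := by
          rintro x y ⟨hx, hx'⟩ ⟨hy, hy'⟩
          refine ⟨fun m hm => by rw [mul_smul, hy m hm, hx m hm], fun m => ?_⟩
          have h1 : (x * y) • m - m = x • (y • m - m) + (x • m - m) := by
            rw [mul_smul, smul_sub]; abel
          rw [h1]
          exact M₁.add_mem (inv x _ (hy' m)) (hx' m)
        inv_mem' := by
          rintro x ⟨hx, hx'⟩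
          refine ⟨fun m hm => by rw [inv_smul_eq_iff, hx m hm], fun m => ?_⟩
          have h1 : x⁻¹ • m - m = - (x⁻¹ • (x • m - m)) := by
            rw [smul_sub, inv_smul_smul]; abel
          rw [h1]
          exact M₁.neg_mem (inv _ _ (hx' m)) }
    have h1 : N.Normal := by
      refine ⟨fun n hn g => ⟨fun m hm => ?_, fun m => ?_⟩⟩
      · rw [mul_smul, mul_smul, hn.1 _ (inv g⁻¹ m hm), smul_inv_smul]
      · have h2 : (g * n * g⁻¹) • m - m = g • (n • g⁻¹ • m - g⁻¹ • m) := by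
          rw [smul_sub, smul_inv_smul, mul_smul, mul_smul]
        rw [h2]
        exact inv g _ (hn.2 _)
    have h2 : IsPGroup 2 N := by
      intro y
      refine ⟨1, ?_⟩
      apply Subtype.ext
      apply faith
      intro m
      change ((y : Y) ^ 2 ^ 1) • m = m
      rw [pow_one, pow_two, mul_smul]
      have h3 : (y : Y) • m = m + ((y : Y) • m - m) := by abel
      rw [h3, smul_add, y.2.1 _ (y.2.2 m)]
      have h4 : (y : Y) • m + ((y : Y) • m - m) = m + (((y : Y) • m - m) + ((y : Y) • m - m)) := by abel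
      rw [h4, two, add_zero]
    have h3 := core N h1 h2
    intro y hy hy1
    have h4 : y ∈ N := ⟨hy1, hM y hy⟩
    rw [h3] at h4
    exact mem_bot.1 h4
  have hcomm : ∀ x ∈ O, ∀ y ∈ O, (∀ m ∈ M₁, x • y • m = y • x • m) → x * y = y * x := by
    intro x hx y hy hxy
    have h1 : (y * x)⁻¹ * (x * y) = 1 := by
      apply hN _ (O.mul_mem (O.inv_mem (O.mul_mem hy hx)) (O.mul_mem hx hy))
      intro m hm
      rw [mul_smul, inv_smul_eq_iff, mul_smul, mul_smul, hxy m hm]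
    rw [inv_mul_eq_one] at h1
    exact h1.symm
  -- an element of `O` commuting with `h` centralises `C_M(h)`
  have hfix : ∀ h ∈ O, (∀ m ∈ M₁, h • m = m → m = 0) → ∀ r ∈ O, r * h = h * r →
      ∀ d : M, h • d = d → r • d = d := by
    intro h _ fp r hr hrh d hd
    have h1 : r • d - d = 0 := by
      apply fp _ (hM r hr d)
      rw [smul_sub, ← mul_smul, ← hrh, mul_smul, hd]
    exact sub_eq_zero.1 h1
  have h12 : h₁ * h₂ = h₂ * h₁ := hcomm h₁ hh₁ h₂ hh₂ hc
  have hd12 : ∀ d : M, h₁ • d = d → h₂ • d = d := hfix h₁ hh₁ fp₁ h₂ hh₂ h12.symm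
  have hinv : ∀ y : Y, ∀ d : M, h₁ • d = d → h₁ • y • d = y • d := by
    intro y d hd
    have hx : y⁻¹ * h₁ * y ∈ O := by
      have := hO.conj_mem h₁ hh₁ y⁻¹
      rwa [inv_inv] at this
    have hxd : (y⁻¹ * h₁ * y) • d = d := by
      have h3 := conj y⁻¹
      rw [inv_inv] at h3
      rcases h3 with h3 | h3
      · exact hfix h₁ hh₁ fp₁ _ hx (hcomm _ hx _ hh₁ h3) d hd
      · exact hfix h₂ hh₂ fp₂ _ hx (hcomm _ hx _ hh₂ h3) d (hd12 d hd)
    have h4 : y • (y⁻¹ * h₁ * y) • d = y • d := by rw [hxd]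
    rwa [← mul_smul, show y * (y⁻¹ * h₁ * y) = h₁ * y by group, mul_smul] at h4
  have hzero : ∀ d : M, h₁ • d = d → d = 0 := by
    intro d hd
    apply hcen
    intro r hr
    have h1 : r • d - d = 0 := by
      apply fp₁ _ (hM r hr d)
      rw [smul_sub, hinv r d hd, hd]
    exact sub_eq_zero.1 h1
  rw [eq_top_iff]
  intro m _
  obtain ⟨d, hd, hdm⟩ := exists_fix two odd₁ (hM h₁ hh₁) (inv h₁) m
  rw [hzero d hd, zero_sub] at hdm
  exact neg_mem_iff.1 hdm

end md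

section grp

variable {G : Type u} [Group G] [Finite G] {S : Sylow 2 G} {P : Subgroup G}

/-- **(7)** : `V₁ = V_P` -/
theorem V1_eq (h : Cfg S P) {Y₁ N : Type u} [Group Y₁] [AddCommGroup N] [DistribMulAction Y₁ N] {T₁ : Sylow 2 Y₁}
    {Mx₁ : Subgroup Y₁} (R₁ : Rep (S : Subgroup G) P (V1 S P) Y₁ N T₁ Mx₁) (h₁ h₂ : Y₁) (odd₁ : Odd (orderOf h₁))
    (odd₂ : Odd (orderOf h₂)) (fp₁ : ∀ m : N, h₁ • m = m → m = 0) (fp₂ : ∀ m : N, h₂ • m = m → m = 0)
    (hc : h₁ * h₂ = h₂ * h₁)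
    (conj : ∀ y : Y₁, (y * h₁ * y⁻¹) * h₁ = h₁ * (y * h₁ * y⁻¹) ∨ (y * h₁ * y⁻¹) * h₂ = h₂ * (y * h₁ * y⁻¹)) :
    V1 S P = zl (S : Subgroup G) P := by
  obtain ⟨Y, M, _, _, _, _, _, T, Mx, ⟨R⟩⟩ := h.exists_rep
  -- lifts
  have lift : ∀ y : Y₁, Odd (orderOf y) → ∃ p : P, Odd (orderOf p) ∧ R₁.ac p = y := by
    intro y hy
    obtain ⟨p, rfl⟩ := R₁.acs y
    obtain ⟨n, h1, h2⟩ := MinSimple.EmptyE.Lift.exists_odd_lift R₁.ac p hy
    exact ⟨p ^ n, h1, h2⟩
  obtain ⟨p₁, ho₁, rfl⟩ := lift h₁ odd₁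
  obtain ⟨p₂, ho₂, rfl⟩ := lift h₂ odd₂
  have hV1 : V1 S P ≤ zl (S : Subgroup G) P := by
    rw [V1, commutator_le]
    intro v hv x hx
    rw [commutatorElement_def, mul_assoc, mul_assoc]
    refine mul_mem hv ?_
    rw [← mul_assoc]
    exact (mem_normalizer_iff.1 (Cfg.P_norm_V S P (oddGen_le P hx)) v⁻¹).1 (inv_mem hv)
  have hcomm : ∀ x ∈ oddGen P, ∀ v ∈ zl (S : Subgroup G) P, x * v * x⁻¹ * v⁻¹ ∈ V1 S P := by
    intro x hx v hv
    have h1 : ⁅v, x⁆ ∈ V1 S P := commutator_mem_commutator hv hx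
    have h2 := inv_mem h1
    rwa [commutatorElement_inv, commutatorElement_def] at h2
  -- the transfer between `R₁` and `R`
  have tr : ∀ m : M, m ∈ R.ag (V1 S P) → ∃ n : N, R₁.el n = R.el m := fun m hm => R₁.surj _ hm
  have hact : ∀ (m : M) (n : N) (p : P), R₁.el n = R.el m → R₁.el (R₁.ac p • n) = R.el (R.ac p • m) := by
    intro m n p e
    rw [R₁.smul, R.smul, e]
  have hcom : ∀ p q : P, R₁.ac p * R₁.ac q = R₁.ac q * R₁.ac p →
      ∀ m ∈ R.ag (V1 S P), R.ac p • R.ac q • m = R.ac q • R.ac p • m := by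
    intro p q hpq m hm
    obtain ⟨n, hn⟩ := tr m hm
    apply R.inj
    rw [← hact _ _ p (hact _ _ q hn), ← hact _ _ q (hact _ _ p hn), ← mul_smul, hpq, mul_smul]
  have fp : ∀ p : P, (∀ n : N, R₁.ac p • n = n → n = 0) → ∀ m ∈ R.ag (V1 S P), R.ac p • m = m → m = 0 := by
    intro p hp m hm h1
    obtain ⟨n, hn⟩ := tr m hm
    have h2 : R₁.ac p • n = n := by
      apply R₁.inj
      rw [hact _ _ p hn, h1, hn]
    have h3 := hp n h2
    rw [h3, R₁.el_zero, ← R.el_zero] at hn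
    exact (R.inj hn).symm
  have hodd : ∀ p : P, Odd (orderOf p) → (p : G) ∈ oddGen P := by
    intro p hp
    refine mem_oddGen p.2 ?_
    rwa [Subgroup.orderOf_coe]
  have key := seven R.two R.faith R.core (R.im (oddGen P)) (by
      have h1 : ((oddGen P).subgroupOf P).Normal := normal_subgroupOf_of_le_normalizer (le_normalizer_oddGen P)
      exact h1.map R.ac R.acs)
    (R.ag (V1 S P)) (by
      intro y m hm
      obtain ⟨p, rfl⟩ := R.acs y
      rw [Rep.mem_ag, R.smul]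
      obtain ⟨n, hn⟩ := tr m hm
      rw [← hn, ← R₁.smul]
      exact R₁.mem _)
    (by
      rintro _ ⟨p, hp, rfl⟩ m
      rw [Rep.mem_ag, sub_eq_add_neg, R.add, R.el_neg, R.smul]
      exact hcomm p hp _ (R.mem m))
    (by
      intro m hm
      have h1 : R.el m ∈ zl (S : Subgroup G) P ⊓ centralizer (oddGen P : Set G) := by
        refine ⟨R.mem m, ?_⟩
        change R.el m ∈ centralizer (oddGen P : Set G)
        rw [mem_centralizer_iff]
        intro x hx
        have h2 := hm (R.ac ⟨x, oddGen_le P hx⟩) ⟨_, hx, rfl⟩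
        have h3 := congrArg R.el h2
        rw [R.smul] at h3
        exact mul_inv_eq_iff_eq_mul.1 h3
      rw [h.one.cen, mem_bot] at h1
      apply R.inj
      rw [h1, R.el_zero])
    (R.ac p₁) (R.ac p₂) ⟨p₁, hodd p₁ ho₁, rfl⟩ ⟨p₂, hodd p₂ ho₂, rfl⟩
    (Odd.of_dvd_nat ho₁ (orderOf_map_dvd R.ac p₁)) (fp p₁ fp₁) (fp p₂ fp₂) (hcom p₁ p₂ hc) (by
      intro y
      obtain ⟨g, rfl⟩ := R.acs y
      rw [← map_mul, ← map_inv, ← map_mul]
      rcases conj (R₁.ac g) with h1 | h1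
      · left
        rw [← map_mul, ← map_inv, ← map_mul] at h1
        exact hcom _ _ h1
      · right
        rw [← map_mul, ← map_inv, ← map_mul] at h1
        exact hcom _ _ h1)
  refine le_antisymm hV1 fun v hv => ?_
  obtain ⟨m, rfl⟩ := R.surj v hv
  have h1 : m ∈ R.ag (V1 S P) := by rw [key]; trivial
  exact h1

end grp

section h

open Matrix

variable {Y M : Type*} [Group Y] [AddCommGroup M] [DistribMulAction Y M] {K : Type*} [Field K]
  {c : M → Matrix (Fin 2) (Fin 2) K}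

theorem MC.zero (C : MC Y c) : c 0 = 0 := by
  have h := C.add 0 0
  rw [add_zero] at h
  exact left_eq_add.1 h

theorem MC.neg (C : MC Y c) (m : M) : c (-m) = - c m := by
  have h := C.add (-m) m
  rw [neg_add_cancel, MC.zero C] at h
  exact eq_neg_of_add_eq_zero_left h.symm

theorem MC.inj (C : MC Y c) {m n : M} (h : c m = c n) : m = n := by
  have h1 : c (m + -n) = 0 := by rw [C.add, MC.neg C, h, add_neg_cancel]
  have h2 := C.ker _ h1
  exact eq_of_sub_eq_zero (by rwa [sub_eq_add_neg])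

theorem exists_lam [Finite K] (h4 : 4 ≤ Nat.card K) : ∃ l : K, l ≠ 0 ∧ l ≠ 1 := by
  classical
  have := Fintype.ofFinite K
  by_contra hcon
  push Not at hcon
  have h1 : Nat.card K ≤ 2 := by
    rw [Nat.card_eq_fintype_card, ← Finset.card_univ]
    calc (Finset.univ : Finset K).card ≤ ({0, 1} : Finset K).card := by
          apply Finset.card_le_card
          intro x _
          by_cases hx : x = 0
          · simp [hx]
          · simp [hcon x hx]
      _ ≤ 2 := Finset.card_le_two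
  omega

/-- the elements `h₁ = diag(λ, λ⁻¹) ⊗ 1`, `h₂ = 1 ⊗ diag(λ, λ⁻¹)` -/
theorem MC.exists_h [Finite K] [CharP K 2] (h4 : 4 ≤ Nat.card K) (C : MC Y c)
    (faith : ∀ y : Y, (∀ m : M, y • m = m) → y = 1) :
    ∃ h₁ h₂ : Y, Odd (orderOf h₁) ∧ Odd (orderOf h₂) ∧ (∀ m : M, h₁ • m = m → m = 0) ∧
      (∀ m : M, h₂ • m = m → m = 0) ∧ h₁ * h₂ = h₂ * h₁ ∧
      ∀ y : Y, (y * h₁ * y⁻¹) * h₁ = h₁ * (y * h₁ * y⁻¹) ∨ (y * h₁ * y⁻¹) * h₂ = h₂ * (y * h₁ * y⁻¹) := by
  obtain ⟨l, hl0, hl1⟩ := exists_lam (K := K) h4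
  have hli1 : l⁻¹ ≠ 1 := fun h => hl1 (inv_eq_one.1 h)
  let D : Matrix.SpecialLinearGroup (Fin 2) K := ⟨!![l, 0; 0, l⁻¹], by rw [det_fin_two_of]; simp [hl0]⟩
  have hD : D.1 = !![l, 0; 0, l⁻¹] := rfl
  obtain ⟨h₁, hh₁⟩ := C.lift D 1
  obtain ⟨h₂, hh₂⟩ := C.lift 1 D
  have e1 : (1 : Matrix.SpecialLinearGroup (Fin 2) K).1 = 1 := rfl
  have hh₁' : ∀ m, c (h₁ • m) = D.1 * c m := fun m => by
    rw [hh₁, e1, transpose_one, Matrix.mul_one]
  have hh₂' : ∀ m, c (h₂ • m) = c m * D.1ᵀ := fun m => by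
    rw [hh₂, e1, Matrix.one_mul]
  have ext1 : ∀ x y : Y, (∀ m, c (x • m) = c (y • m)) → x = y := by
    intro x y hxy
    have h1 : y⁻¹ * x = 1 := by
      apply faith
      intro m
      rw [mul_smul, inv_smul_eq_iff]
      exact MC.inj C (hxy m)
    exact (inv_mul_eq_one.1 h1).symm
  obtain ⟨n, hnodd, hn⟩ : ∃ n : ℕ, Odd n ∧ l ^ n = 1 := by
    have := Fintype.ofFinite K
    refine ⟨Fintype.card K - 1, ?_, FiniteField.pow_card_sub_one_eq_one l hl0⟩
    have : Fact (Nat.Prime 2) := ⟨Nat.prime_two⟩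
    obtain ⟨k, -, hk⟩ := FiniteField.card K 2
    have h1 : Even (Fintype.card K) := by
      rw [hk]
      exact (Nat.even_pow.2 ⟨even_two, k.pos.ne'⟩)
    exact Nat.Even.sub_odd Fintype.card_pos h1 odd_one
  have hDn : ∀ k : ℕ, D.1 ^ k = !![l ^ k, 0; 0, (l⁻¹) ^ k] := by
    intro k
    induction k with
    | zero => rw [pow_zero, pow_zero, pow_zero, one_fin_two]
    | succ k ih =>
      rw [pow_succ, ih, hD, mul_fin_two]
      simp [pow_succ]
  have hp1 : ∀ (k : ℕ) m, c (h₁ ^ k • m) = D.1 ^ k * c m := by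
    intro k
    induction k with
    | zero => intro m; rw [pow_zero, pow_zero, one_smul, Matrix.one_mul]
    | succ k ih => intro m; rw [pow_succ, mul_smul, ih, hh₁', pow_succ, Matrix.mul_assoc]
  have hp2 : ∀ (k : ℕ) m, c (h₂ ^ k • m) = c m * (D.1 ^ k)ᵀ := by
    intro k
    induction k with
    | zero => intro m; rw [pow_zero, pow_zero, one_smul, transpose_one, Matrix.mul_one]
    | succ k ih => intro m; rw [pow_succ, mul_smul, ih, hh₂', pow_succ', transpose_mul, Matrix.mul_assoc, transpose_pow,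
        ← pow_succ', ← pow_succ]
  have hDn1 : D.1 ^ n = 1 := by
    rw [hDn, inv_pow, hn, inv_one, one_fin_two]
  refine ⟨h₁, h₂, ?_, ?_, ?_, ?_, ?_, ?_⟩
  · refine hnodd.of_dvd_nat (orderOf_dvd_of_pow_eq_one ?_)
    apply ext1
    intro m
    rw [hp1, hDn1, Matrix.one_mul, one_smul]
  · refine hnodd.of_dvd_nat (orderOf_dvd_of_pow_eq_one ?_)
    apply ext1
    intro m
    rw [hp2, hDn1, transpose_one, Matrix.mul_one, one_smul]
  · intro m hm
    apply C.ker
    have h1 : D.1 * c m = c m := by rw [← hh₁', hm]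
    have key : ∀ x : K, ∀ k : K, k ≠ 1 → k * x = x → x = 0 := by
      intro x k hk hx
      have h2 : (k - 1) * x = 0 := by rw [sub_mul, hx, one_mul, sub_self]
      exact (mul_eq_zero.1 h2).resolve_left (sub_ne_zero.2 hk)
    ext i j
    have h3 := congrFun (congrFun h1 i) j
    rw [hD, Matrix.mul_apply, Fin.sum_univ_two] at h3
    fin_cases i
    · simp only [Fin.zero_eta, of_apply, cons_val', cons_val_zero, cons_val_one, zero_mul, add_zero] at h3
      exact key _ l hl1 h3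
    · simp only [Fin.mk_one, of_apply, cons_val', cons_val_zero, cons_val_one, zero_mul, zero_add] at h3
      exact key _ l⁻¹ hli1 h3
  · intro m hm
    apply C.ker
    have h1 : c m * D.1ᵀ = c m := by rw [← hh₂', hm]
    have key : ∀ x : K, ∀ k : K, k ≠ 1 → x * k = x → x = 0 := by
      intro x k hk hx
      have h2 : x * (k - 1) = 0 := by rw [mul_sub, hx, mul_one, sub_self]
      exact (mul_eq_zero.1 h2).resolve_right (sub_ne_zero.2 hk)
    ext i j
    have h3 := congrFun (congrFun h1 i) j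
    rw [hD, Matrix.mul_apply, Fin.sum_univ_two] at h3
    fin_cases j
    · simp only [Fin.zero_eta, transpose_apply, of_apply, cons_val', cons_val_zero, cons_val_one, mul_zero, add_zero] at h3
      exact key _ l hl1 h3
    · simp only [Fin.mk_one, transpose_apply, of_apply, cons_val', cons_val_zero, cons_val_one, mul_zero, zero_add] at h3
      exact key _ l⁻¹ hli1 h3
  · apply ext1
    intro m
    rw [mul_smul, hh₁', hh₂', mul_smul, hh₂', hh₁', Matrix.mul_assoc]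
  · intro y
    rcases C.ps y with ⟨σ, X, Q, h1, h2, h3⟩ | ⟨σ, X, Q, h1, h2, h3⟩
    · right
      obtain ⟨D', hD'⟩ := exists_conjM σ X h1 D
      have h5 : ∀ m, c ((y * h₁ * y⁻¹) • m) = D'.1 * c m := by
        intro m
        have h6 := h3 (y⁻¹ • m)
        rw [smul_inv_smul] at h6
        rw [mul_smul, mul_smul, h3, hh₁', h6, map_mul_eq]
        calc X * (D.1.map σ * (c (y⁻¹ • m)).map σ) * Qᵀ = (X * D.1.map σ) * ((c (y⁻¹ • m)).map σ * Qᵀ) := by
              simp only [Matrix.mul_assoc]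
          _ = (D'.1 * X) * ((c (y⁻¹ • m)).map σ * Qᵀ) := by rw [hD']
          _ = _ := by simp only [Matrix.mul_assoc]
      apply ext1
      intro m
      rw [mul_smul (y * h₁ * y⁻¹), mul_smul h₂, h5, hh₂', hh₂', h5, Matrix.mul_assoc]
    · left
      obtain ⟨D', hD'⟩ := exists_conjM σ Q h2 D
      have h5 : ∀ m, c ((y * h₁ * y⁻¹) • m) = c m * D'.1ᵀ := by
        intro m
        have h6 := h3 (y⁻¹ • m)
        rw [smul_inv_smul] at h6
        have h7 : (Q * D.1.map σ)ᵀ = (D'.1 * Q)ᵀ := by rw [hD']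
        rw [transpose_mul, transpose_mul] at h7
        rw [mul_smul, mul_smul, h3, hh₁', h6, map_mul_eq, transpose_mul]
        calc X * (((c (y⁻¹ • m)).map σ)ᵀ * (D.1.map σ)ᵀ) * Qᵀ
            = X * ((c (y⁻¹ • m)).map σ)ᵀ * ((D.1.map σ)ᵀ * Qᵀ) := by simp only [Matrix.mul_assoc]
          _ = X * ((c (y⁻¹ • m)).map σ)ᵀ * (Qᵀ * D'.1ᵀ) := by rw [h7]
          _ = _ := by simp only [Matrix.mul_assoc]
      apply ext1
      intro m
      rw [mul_smul (y * h₁ * y⁻¹), mul_smul h₁, h5, hh₁', hh₁', h5, Matrix.mul_assoc]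

theorem exists_small {K : Type*} [Field K] [Finite K] [CharP K 2] :
    ∃ (K₀ : Type) (_ : Field K₀) (_ : Finite K₀) (_ : CharP K₀ 2), Nat.card K₀ = Nat.card K ∧
      Nonempty (K ≃+* K₀) := by
  have : Fact (Nat.Prime 2) := ⟨Nat.prime_two⟩
  have := Fintype.ofFinite K
  obtain ⟨n, -, hn⟩ := FiniteField.card K 2
  have hn0 : (n : ℕ) ≠ 0 := n.pos.ne'
  have h2 : Nat.card (GaloisField 2 n) = Nat.card K := by
    rw [GaloisField.card 2 n hn0, Nat.card_eq_fintype_card, hn]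
  have := Fintype.ofFinite (GaloisField 2 n)
  refine ⟨GaloisField 2 n, inferInstance, inferInstance, inferInstance, h2, ⟨?_⟩⟩
  exact FiniteField.ringEquivOfCardEq (by rw [← Nat.card_eq_fintype_card, ← Nat.card_eq_fintype_card, h2])

end h

section top

variable {G : Type u} [Group G] [Finite G] {S : Sylow 2 G} {P : Subgroup G}

/-- `V₁ = V_P` and `PlusQ` -/
theorem ty_of_mc (h : Cfg S P) {Y M : Type u} [Group Y] [AddCommGroup M] [DistribMulAction Y M] {T : Sylow 2 Y}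
    {Mx : Subgroup Y} (R : Rep (S : Subgroup G) P (V1 S P) Y M T Mx) {K : Type*} [Field K] [Finite K] [CharP K 2]
    (h4 : 4 ≤ Nat.card K) {c : M → Matrix (Fin 2) (Fin 2) K} (C : MC Y c)
    (hE : 4 ≤ (EE (S : Subgroup G) P).relIndex (zl (S : Subgroup G) P)) : Ty (S : Subgroup G) P := by
  obtain ⟨h₁, h₂, a1, a2, a3, a4, a5, a6⟩ := MC.exists_h h4 C R.faith
  have hV := V1_eq h R h₁ h₂ a1 a2 a3 a4 a5 a6
  obtain ⟨K₀, _, _, _, hK, ⟨τ⟩⟩ := exists_small (K := K)
  have h5 := (C.congr τ).plusQ R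
  rw [hV] at h5
  exact Ty.plusQ K₀ (by rw [hK]; exact h4) hE h5

/-- **THEOREM COMP, the end**: `PlusQ` -/
theorem ty_of_pIn (h : Cfg S P) {Y M : Type u} [Group Y] [AddCommGroup M] [DistribMulAction Y M] {T : Sylow 2 Y}
    {Mx : Subgroup Y} (R : Rep (S : Subgroup G) P (V1 S P) Y M T Mx) {K : Type*} [Field K] [Finite K] [CharP K 2]
    (h4 : 4 ≤ Nat.card K) [Module K M] {W W' : Type*} [AddCommGroup W] [Module K W] [AddCommGroup W'] [Module K W']
    {φ : TensorProduct K W W' ≃ₗ[K] M} (I : PIn Y φ)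
    (hE : 4 ≤ (EE (S : Subgroup G) P).relIndex (zl (S : Subgroup G) P)) : Ty (S : Subgroup G) P := by
  obtain ⟨b, b', C⟩ := I.mc
  exact ty_of_mc h R h4 C hE

end top

end Cfsg.Agent.Omega.NO1.Comp.Seven

end

section


/-!
# THEOREM COMP (#17539): the end (helper789)

* `POut.pIn` : two components give the input `PIn` of `Seven`;
* `Fr.four_le` : `4 ≤ |V_P : V_P ∩ E_F|` implies `4 ≤ |V_P : V_P ∩ O₂(C_G(Z))|`;
* `OneC` : exactly one component, on the representation of `V₁ = [V_P, O²(P)]`;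
* `comp` : `Fr S P M F`, `4 ≤ |V_P : V_P ∩ E_F|` imply `Ty S P` or `OneC`;
* `FrOne`, `frFour_of_one` : `FrFour` from the case of one component.
-/

set_option autoImplicit false
set_option linter.unusedSectionVars false

namespace Cfsg.Agent.Omega.NO1.Comp

open Module TensorProduct Subgroup Cfsg Cfsg.Agent.ZN Cfsg.Agent.Omega.MinPar Cfsg.Agent.Omega.Frame
open Cfsg.Agent.Lib.ComponentSolvable
open Cfsg.Agent.Omega.NO1 Cfsg.Agent.Omega.NO1.WRF.Irr
open Cfsg.Agent.Omega.FFThm (OffM)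
open Cfsg.Agent.Omega.NOne.Flat (Hyp WW)
open Cfsg.Agent.Omega.NO1.Comp.Six (Pur Swp IsPure IsSwap Ind Ind')

universe u

section pin

variable {Y M : Type u} [Group Y] [Finite Y] [AddCommGroup M] [Finite M] [DistribMulAction Y M] [FaithfulSMul Y M]
variable {K : Type u} [Field K] [Finite K] [CharP K 2] [Module K M]

theorem POut.pIn {T : Sylow 2 Y} {Mx : Subgroup Y} {E : AddSubgroup M} {W W' : Type u} [AddCommGroup W] [Module K W]
    [AddCommGroup W'] [Module K W'] {φ : W ⊗[K] W' ≃ₗ[K] M} (h : POut (Y := Y) T E φ) (hM : Grp.MinP T Mx)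
    (hirr : Irr.Irred Y M) : PIn Y φ := by
  have := h.fin
  have := h.fin'
  obtain ⟨s, hsT, hs⟩ := h.sw
  obtain ⟨f₀, hf0, hf⟩ := h.tv
  have hall : ∀ (f : Dual K W) (w : W), f w = 0 → ∃ y : Y, Ind φ f w y :=
    fun f w hw => Six.all_transv hf0 hf h.irr f w hw
  have hall' : ∀ (f : Dual K W') (w : W'), f w = 0 → ∃ y : Y, Ind' φ f w y :=
    fun f w hw => Six.all_transv' hs hall f w hw
  have hd : finrank K W = 2 := Six.finrank_eq_two hM (fun y hy => by
    apply FaithfulSMul.eq_of_smul_eq_smul (α := M)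
    intro m
    rw [hy m, one_smul]) hirr h.ps hsT hs hall h.d
  have hd' : finrank K W' = 2 := (Six.finrank_swap hs).trans hd
  exact
    { hW := hd
      hW' := hd'
      r₁ := fun A hA => Six.sl_two hall hd A hA
      r₂ := fun A hA => Six.sl_two' hall' hd' A hA
      ps := h.ps
      sw := ⟨s, hs⟩ }

end pin

section fr

variable {G : Type u} [Group G] [Finite G] {S : Sylow 2 G} {P M₀ F : Subgroup G}

theorem _root_.Cfsg.Agent.Omega.NO1.Fr.four_le (h : Fr S P M₀ F)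
    (h4 : 4 ≤ (NOne.Flat.EE (zl (S : Subgroup G) M₀) F).relIndex (zl (S : Subgroup G) P)) :
    4 ≤ (EE (S : Subgroup G) P).relIndex (zl (S : Subgroup G) P) := by
  have hZF : zc (S : Subgroup G) ≤ F := h.fdat.Z_le.trans inf_le_right
  have hFc : (centralizer (F : Set G)) ≤ NoFF.LinesPlug.CC (S : Subgroup G) := centralizer_le hZF
  have h1 : o2 (NoFF.LinesPlug.CC (S : Subgroup G)) ⊓ centralizer (F : Set G) ≤ o2 (centralizer (F : Set G)) := by
    refine le_o2 inf_le_right ((isPGroup_o2 _).to_le inf_le_left) ?_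
    refine le_trans (le_inf ?_ le_normalizer) Subgroup.inf_normalizer_le_normalizer_inf
    exact hFc.trans (le_normalizer_o2 _)
  have h2 : EE (S : Subgroup G) P ≤ NOne.Flat.EE (zl (S : Subgroup G) M₀) F := by
    refine le_inf (inf_le_left.trans h.VP_le) fun x hx => h1 ⟨hx.2, ?_⟩
    exact (h.VP_le.trans (h.hyp.comm.trans (centralizer_le h.hyp.F_le_V))) hx.1
  exact h4.trans (relIndex_le_of_le_left h2 Subgroup.index_ne_zero_of_finite)

/-- **exactly one component**, on the representation `R` of `V₁`; `V` is the big flat module, `F ≤ V` -/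
structure OneC {S : Sylow 2 G} {P : Subgroup G} (V F : Subgroup G) {Y M : Type u} [Group Y] [AddCommGroup M]
    [DistribMulAction Y M] {T : Sylow 2 Y} {Mx : Subgroup Y} (R : Rep (S : Subgroup G) P (V1 S P) Y M T Mx)
    (K₁ : Subgroup Y) (K : Type u) [Field K] [Module K M] : Prop where
  sit : Grp.Sit T Mx K₁
  act : ¬ R.im (WW V F) ≤ centralizer (K₁ : Set Y)
  inp : Inp (R.im (WW V F)) (R.ag (V1 S P ⊓ NOne.Flat.EE V F)) (R.ag (V1 S P ⊓ F))
  fld : Fld (R.im (WW V F)) K M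
  irr : Irr.Irred Y M
  one : ∀ L : Subgroup Y, IsComponent L → L = K₁

/-- **THEOREM COMP** -/
theorem comp (h : Fr S P M₀ F)
    (h4 : 4 ≤ (NOne.Flat.EE (zl (S : Subgroup G) M₀) F).relIndex (zl (S : Subgroup G) P)) :
    Ty (S : Subgroup G) P ∨
      ∃ (Y M : Type u) (_ : Group Y) (_ : Finite Y) (_ : AddCommGroup M) (_ : Finite M) (_ : DistribMulAction Y M)
        (T : Sylow 2 Y) (Mx : Subgroup Y) (R : Rep (S : Subgroup G) P (V1 S P) Y M T Mx) (K₁ : Subgroup Y)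
        (K : Type u) (_ : Field K) (_ : Finite K) (_ : CharP K 2) (_ : Module K M),
        OneC (zl (S : Subgroup G) M₀) F R K₁ K := by
  have hd := h.fdat
  obtain ⟨Y, M, _, _, _, _, _, T, Mx, ⟨R⟩⟩ := RepOne.exists_rep1 hd
  have := R.faithfulSMul
  have H := h.hyp
  have h0V : V1 S P ≤ zl (S : Subgroup G) M₀ := hd.V1_le.trans h.VP_le
  have hWP : WW (zl (S : Subgroup G) M₀) F ≤ P := h.W_le_S.trans h.cfg.S_le
  have hn : WW (zl (S : Subgroup G) M₀) F ≤ normalizer (V1 S P : Set G) := hWP.trans hd.P_norm_V1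
  have hnot : ¬ V1 S P ≤ NOne.Flat.EE (zl (S : Subgroup G) M₀) F := hyp_not_V1 H h.cfg h.VP_le h.W_le_S h.not_le
  have h4' : 4 ≤ (V1 S P ⊓ NOne.Flat.EE (zl (S : Subgroup G) M₀) F).relIndex (V1 S P) := by
    rw [hyp_index_V1 H h.cfg h.VP_le h.W_le_S h.not_le, inf_relIndex_left]
    exact h4
  obtain ⟨f1, f2, f3, f5⟩ := rep_flat H R hWP h0V hn hnot h4'
  have hO : R.im (WW (zl (S : Subgroup G) M₀) F) ≤ centralizer (pPrimeCore 2 Y : Set Y) := by
    refine rep_odd H R hWP h0V hn hnot h4' ?_ ?_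
    · have h5 := Lib.Cores.pPrimeCore_coprime (G := Y) 2
      exact (Nat.coprime_two_right).1 h5
    · intro u _ x hx
      exact (Lib.Cores.pPrimeCore_normal 2).conj_mem x hx u
  have hF2 : IsPGroup 2 F := S.isPGroup'.to_le (H.F_le_E.trans (NOne.Flat.Hyp.E_le_W.trans h.W_le_S))
  obtain ⟨K₁, hS, hact, hirr⟩ := RepOne.exists_sit hd R h.noff inf_le_right
    (h.VP_le.trans (H.comm.trans (centralizer_le H.F_le_V))) (H.F_le_V.trans (H.comm.trans (centralizer_le H.F_le_V)))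
    hF2 (hyp_bad H h.VP_le h.not_le) hO
  have hI : Inp (R.im (WW (zl (S : Subgroup G) M₀) F)) (R.ag (V1 S P ⊓ NOne.Flat.EE (zl (S : Subgroup G) M₀) F))
      (R.ag (V1 S P ⊓ F)) := ⟨f1, f2, f3, f5, hirr⟩
  obtain ⟨K, _, _, _, _, hf⟩ := hI.exists_field
  by_cases h1 : ∀ L : Subgroup Y, IsComponent L → L = K₁
  · right
    exact ⟨Y, M, inferInstance, inferInstance, inferInstance, inferInstance, inferInstance, T, Mx, R, K₁, K,
      inferInstance, inferInstance, inferInstance, inferInstance, hS, hact, hI, hf, RepOne.irred hd R, h1⟩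
  · left
    push Not at h1
    obtain ⟨K₂, h2, h12⟩ := h1
    obtain ⟨W, W', _, _, _, _, φ, hp⟩ := hI.pair hf hS h2 (Ne.symm h12)
    have h5 : 4 ≤ Nat.card K := by
      have h6 := hp.card
      rw [h6] at f2
      exact Nat.le_of_mul_le_mul_right f2 Nat.card_pos
    exact Seven.ty_of_pIn h.cfg R h5 (hp.pIn (RepOne.minP R) (RepOne.irred hd R)) (h.four_le h4)

end fr

/-- **CARD N1-ONE** (#17954): exactly one component -/
def FrOne : Prop :=
  ∀ (G : Type u) [Group G] [Finite G] (S : Sylow 2 G) (P M₀ F : Subgroup G), Fr S P M₀ F →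
    ¬ PlusAt (S : Subgroup G) P (NOne.Flat.EE (zl (S : Subgroup G) M₀) F) →
    4 ≤ (NOne.Flat.EE (zl (S : Subgroup G) M₀) F).relIndex (zl (S : Subgroup G) P) →
    ∀ (Y M : Type u) [Group Y] [Finite Y] [AddCommGroup M] [Finite M] [DistribMulAction Y M]
      (T : Sylow 2 Y) (Mx : Subgroup Y) (R : Rep (S : Subgroup G) P (V1 S P) Y M T Mx) (K₁ : Subgroup Y)
      (K : Type u) [Field K] [Finite K] [CharP K 2] [Module K M],
      OneC (zl (S : Subgroup G) M₀) F R K₁ K → Ty (S : Subgroup G) P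

/-- THEOREM COMP: `FrFour` is reduced to one component -/
theorem frFour_of_one (h1 : FrOne.{u}) : FrFour.{u} := by
  intro G _ _ S P M₀ F h hp h4
  rcases comp h h4 with h2 | ⟨Y, M, _, _, _, _, _, T, Mx, R, K₁, K, _, _, _, _, h2⟩
  · exact h2
  · exact h1 G S P M₀ F h hp h4 Y M T Mx R K₁ K h2

end Cfsg.Agent.Omega.NO1.Comp

end

end

-- merged: Cfsg.Agent.Mrg.Omega.NO1.TH.OfFr
section

section


/-!
# N1, one component: from the frames `Fr S P M F` to `World`

`R : Rep S P (V1 S P) Y V T Mx`, `U = {y • R.im W_F}`.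

* `world_of` : `World V U T Mx |V₁ : V₁ ∩ E_F|` (with `Field.NNOne`, `Field.K1All`);
* `plusAt_of` : `Disj U Mx` gives `PlusAt`;
(`TH/Top.lean`: `world_of'`, `frOne_of`.)
-/

set_option autoImplicit false
set_option linter.unusedSectionVars false

namespace Cfsg.Agent.Omega.NO1.TH

open Subgroup Cfsg Cfsg.Agent.ZN Cfsg.Agent.Omega.MinPar Cfsg.Agent.Omega.Frame
open Cfsg.Agent.Omega.NO1.AB
open Cfsg.Agent.Omega.FFThm (OffM)
open Cfsg.Agent.Omega.NOne.Flat (Hyp NN)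
open Cfsg.Agent.Omega.NO1.WRF.Irr
open Cfsg.Agent.Omega.NO1.Comp (FlatA)
open Cfsg.Agent.Omega.NO1.HE (dl dl_apply dl_mul dl_eq_zero exists_fn)
open Cfsg.Agent.Omega.NOne.NearFF (c c_def)
open scoped Pointwise

universe u

/-! ### the trick -/

section trick

variable {Y : Type u} [Group Y] {V : Type u} [AddCommGroup V] [DistribMulAction Y V]

/-- **(TR)**, abstract form. -/
theorem tr_gen [Finite Y] [Finite V] (h2 : ∀ v : V, v + v = 0) {A₁ : Subgroup Y} {f : V}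
    (hsq : ∀ s ∈ A₁, s * s = 1) (hf : ∀ s ∈ A₁, dl s f = 0) (h1 : ∀ s ∈ A₁, s ≠ 1 → ∃ w, dl s w = f)
    (hq : ∀ s ∈ A₁, ∀ t ∈ A₁, ∀ v : V, dl s (dl t v) = 0) {E' : AddSubgroup V}
    (hE : ∀ s ∈ A₁, ∀ v ∈ E', s • v ∈ E') (hi : E'.index < 2 * Nat.card A₁) : f ∈ E' := by
  classical
  by_contra hfE
  obtain ⟨ψ, hψ, hψf⟩ := exists_fn h2 E' hfE
  have hQ : ∀ z : V ⧸ E', z + z = 0 := by
    intro z
    induction z using QuotientAddGroup.induction_on with
    | _ v => rw [← QuotientAddGroup.mk_add, h2, QuotientAddGroup.mk_zero]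
  let D := (V ⧸ E') →+ ZMod 2
  have iD : Finite D := Finite.of_injective _ DFunLike.coe_injective
  -- evaluation at `f`
  let ev : D →+ ZMod 2 := AddMonoidHom.mk' (fun g => g ((f : V) : V ⧸ E')) (fun g g' => rfl)
  let K : AddSubgroup D := ev.ker
  have hK : K ≠ ⊤ := by
    intro h
    let ψ' : D := QuotientAddGroup.lift E' ψ hψ
    have h3 : ψ' ∈ K := h ▸ AddSubgroup.mem_top _
    exact hψf h3
  -- the map
  have hlift : ∀ s : A₁, ∀ e ∈ E', (ψ.comp (dl (s : Y))) e = 0 := by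
    intro s e he
    change ψ (dl (s : Y) e) = 0
    exact hψ _ (E'.add_mem (hE s s.2 e he) he)
  let η : A₁ → D := fun s => QuotientAddGroup.lift E' (ψ.comp (dl (s : Y))) (hlift s)
  have hη : ∀ (s : A₁) (v : V), η s (v : V ⧸ E') = ψ (dl (s : Y) v) := fun _ _ => rfl
  have hηK : ∀ s : A₁, η s ∈ K := by
    intro s
    change η s (f : V ⧸ E') = 0
    rw [hη, hf s s.2, map_zero]
  have hinj : Function.Injective (fun s : A₁ => (⟨η s, hηK s⟩ : K)) := by
    intro s t hst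
    have h3 : η s = η t := congrArg Subtype.val hst
    by_contra hne
    have h4 : (t : Y) * s ≠ 1 := by
      intro h5
      apply hne
      apply Subtype.ext
      have h6 := hsq t t.2
      exact mul_left_cancel (h5.trans h6.symm)
    obtain ⟨w, hw⟩ := h1 _ (A₁.mul_mem t.2 s.2) h4
    have h6 : ψ f = 0 := by
      rw [← hw, dl_mul h2, hq t t.2 s s.2, add_zero, map_add, ← hη, ← hη, h3]
      exact CharTwo.add_self_eq_zero _
    exact hψf h6
  have c1 := Nat.card_le_card_of_injective _ hinj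
  have c2 : K.index * Nat.card K = Nat.card D := AddSubgroup.index_mul_card K
  have c3 : Nat.card D = E'.index := Alpha.card_dual' hQ
  have c4 : 2 ≤ K.index := by
    have h5 : K.index ≠ 0 := AddSubgroup.index_ne_zero_of_finite
    have h6 : K.index ≠ 1 := fun h => hK (AddSubgroup.index_eq_one.1 h)
    omega
  have c5 : 2 * Nat.card K ≤ K.index * Nat.card K := Nat.mul_le_mul_right _ c4
  omega

end trick

/-! ### conjugation -/

section conj

variable {Y : Type u} [Group Y] {V : Type u} [AddCommGroup V] [DistribMulAction Y V]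

theorem mem_fx_conj {B : Subgroup Y} {g : Y} {v : V} : v ∈ fx V (MulAut.conj g • B) ↔ g⁻¹ • v ∈ fx V B := by
  rw [fx_conj, AddSubgroup.mem_pointwise_smul_iff_inv_smul_mem]

theorem mem_Ee_conj {B : Subgroup Y} {g : Y} {v : V} : v ∈ Ee V (MulAut.conj g • B) ↔ g⁻¹ • v ∈ Ee V B := by
  rw [Ee_conj, AddSubgroup.mem_pointwise_smul_iff_inv_smul_mem]

theorem conj_dl (g b : Y) (v : V) : g⁻¹ • ((g * b * g⁻¹) • v + v) = b • (g⁻¹ • v) + g⁻¹ • v := by
  rw [smul_add, ← mul_smul, ← mul_smul]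
  congr 2
  group

theorem index_smul_as [Finite V] (g : Y) (W : AddSubgroup V) : (g • W).index = W.index := by
  have h1 := (g • W).card_mul_index
  rw [← W.card_mul_index, card_smul_as] at h1
  exact Nat.eq_of_mul_eq_mul_left Nat.card_pos h1

theorem Mem.smul' {B : Subgroup Y} (h : Mem B (Ee V B) (fx V B)) (g : Y) :
    Mem (MulAut.conj g • B) (Ee V (MulAut.conj g • B)) (fx V (MulAut.conj g • B)) where
  comm := by
    intro b hb c hc
    obtain ⟨b, hb', rfl⟩ := Alpha.mem_conj'.1 hb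
    obtain ⟨c, hc', rfl⟩ := Alpha.mem_conj'.1 hc
    calc g * b * g⁻¹ * (g * c * g⁻¹) = g * (b * c) * g⁻¹ := by group
      _ = g * (c * b) * g⁻¹ := by rw [h.comm b hb' c hc']
      _ = _ := by group
  sq := by
    intro b hb
    obtain ⟨b, hb', rfl⟩ := Alpha.mem_conj'.1 hb
    calc g * b * g⁻¹ * (g * b * g⁻¹) = g * (b * b) * g⁻¹ := by group
      _ = 1 := by rw [h.sq b hb']; group
  FE := by
    intro v hv
    rw [mem_Ee_conj]
    exact h.FE (mem_fx_conj.1 hv)
  VB := by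
    intro b hb v
    obtain ⟨b, hb', rfl⟩ := Alpha.mem_conj'.1 hb
    rw [mem_Ee_conj, conj_dl]
    exact h.VB b hb' _
  EB := by
    intro b hb v hv
    obtain ⟨b, hb', rfl⟩ := Alpha.mem_conj'.1 hb
    rw [mem_fx_conj, conj_dl]
    exact h.EB b hb' _ (mem_Ee_conj.1 hv)
  FB := fun b hb f hf => hf b hb
  CB := fun v hv => hv
  inj := by
    intro w hw b hb hd
    obtain ⟨b, hb', rfl⟩ := Alpha.mem_conj'.1 hb
    rw [mem_fx_conj, conj_dl] at hd
    rw [h.inj _ (fun h1 => hw (mem_Ee_conj.2 h1)) b hb' hd]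
    group
  surj := by
    intro w hw e he
    obtain ⟨b, hb, h1⟩ := h.surj (g⁻¹ • w) (fun h1 => hw (mem_Ee_conj.2 h1)) _ (mem_Ee_conj.1 he)
    refine ⟨g * b * g⁻¹, Alpha.mem_conj'.2 ⟨b, hb, rfl⟩, ?_⟩
    rw [mem_fx_conj, smul_add, conj_dl]
    exact h1
  ne := by
    obtain ⟨v, hv⟩ := h.ne
    refine ⟨g • v, fun h1 => hv ?_⟩
    rw [mem_Ee_conj, inv_smul_smul] at h1
    exact h1

/-- (MU) for the conjugates -/
theorem mu_smul [Finite V] {B : Subgroup Y}
    (h : ∀ A₀ ≤ B, Nat.card A₀ * Nat.card ↥(fx V A₀ ⊓ Ee V B) ≤ Nat.card (Ee V B)) (g : Y) :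
    ∀ A₀ ≤ MulAut.conj g • B,
      Nat.card A₀ * Nat.card ↥(fx V A₀ ⊓ Ee V (MulAut.conj g • B)) ≤ Nat.card (Ee V (MulAut.conj g • B)) := by
  intro A₀ hA
  have h1 : MulAut.conj g⁻¹ • A₀ ≤ B := by
    rw [conj_le_iff, inv_inv]
    exact hA
  have h2 := h _ h1
  have h3 : fx V A₀ ⊓ Ee V (MulAut.conj g • B) = g • (fx V (MulAut.conj g⁻¹ • A₀) ⊓ Ee V B) := by
    ext v
    rw [AddSubgroup.mem_pointwise_smul_iff_inv_smul_mem, AddSubgroup.mem_inf, AddSubgroup.mem_inf, mem_Ee_conj,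
      mem_fx_conj, inv_inv, smul_inv_smul]
  rw [h3, card_smul_as, Ee_conj, card_smul_as, ← conj_card g⁻¹ A₀]
  exact h2

theorem Line.smul [Finite V] {B : Subgroup Y} {x : V} {A₁ : Subgroup Y} (h : Line V B x A₁) (g : Y) :
    Line V (MulAut.conj g • B) (g • x) (MulAut.conj g • A₁) where
  le := conj_le_conj g h.le
  card := by
    rw [conj_card, Ee_conj, index_smul_as]
    exact h.card
  fix := by
    intro s hs
    obtain ⟨a, ha, rfl⟩ := Alpha.mem_conj'.1 hs
    rw [mul_smul, mul_smul, inv_smul_smul, h.fix a ha]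
  quad := by
    intro s hs r hr v
    obtain ⟨a, ha, rfl⟩ := Alpha.mem_conj'.1 hs
    obtain ⟨b, hb, rfl⟩ := Alpha.mem_conj'.1 hr
    have h1 := congrArg (fun w => g • w) (h.quad a ha b hb (g⁻¹ • v))
    simp only [smul_add, smul_zero, smul_inv_smul] at h1
    simp only [mul_smul, inv_smul_smul]
    exact h1
  tr := by
    intro E' hE hi b hb
    obtain ⟨b, hb', rfl⟩ := Alpha.mem_conj'.1 hb
    have h1 := h.tr (g⁻¹ • E') ?_ (by rw [index_smul_as, ← conj_card g A₁]; exact hi) b hb'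
    · rw [AddSubgroup.mem_pointwise_smul_iff_inv_smul_mem, inv_inv, smul_add] at h1
      rw [mul_smul, mul_smul, inv_smul_smul]
      exact h1
    · intro s hs v hv
      rw [AddSubgroup.mem_pointwise_smul_iff_inv_smul_mem, inv_inv] at hv ⊢
      have h2 := hE _ (conj_mem_conj (g := g) hs) _ hv
      rw [mul_smul, mul_smul, inv_smul_smul] at h2
      exact h2

/-- SOC for the conjugates -/
theorem soc_smul {B : Subgroup Y}
    (h : ∀ X : Subgroup Y, B ≤ X → (∃ v : V, v ≠ 0 ∧ ∀ x ∈ X, x • v = v) → B ⊓ ZN.o2 X ≠ ⊥) (g : Y) :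
    ∀ X : Subgroup Y, MulAut.conj g • B ≤ X → (∃ v : V, v ≠ 0 ∧ ∀ x ∈ X, x • v = v) →
      MulAut.conj g • B ⊓ ZN.o2 X ≠ ⊥ := by
  rintro X hX ⟨v, hv, hfix⟩ h0
  have h1 : B ≤ MulAut.conj g⁻¹ • X := by
    rw [← conj_le_iff]
    exact hX
  refine h _ h1 ⟨g⁻¹ • v, fun h2 => hv ?_, ?_⟩ ?_
  · rw [← smul_inv_smul g v, h2, smul_zero]
  · intro k hk
    rw [mem_conj, inv_inv] at hk
    have h3 := hfix _ hk
    rw [mul_smul, mul_smul, ← eq_inv_smul_iff] at h3
    exact h3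
  · rw [eq_bot_iff]
    intro b hb
    have h3 : g * b * g⁻¹ ∈ MulAut.conj g • B ⊓ ZN.o2 X := by
      refine ⟨Alpha.mem_conj'.2 ⟨b, hb.1, rfl⟩, ?_⟩
      have h4 : MulAut.conj g • ZN.o2 (MulAut.conj g⁻¹ • X) = ZN.o2 X := by
        rw [NOne.Flat.o2_conj, ← mul_smul, ← map_mul, mul_inv_cancel, map_one, one_smul]
      rw [← h4]
      exact Alpha.mem_conj'.2 ⟨b, hb.2, rfl⟩
    rw [h0, mem_bot] at h3
    rw [mem_bot]
    have e : b = g⁻¹ * (g * b * g⁻¹) * g := by group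
    rw [e, h3]
    group

end conj

/-! ### the members on `V₁` -/

section fr

variable {G : Type u} [Group G] [Finite G] {S : Sylow 2 G} {P M F : Subgroup G} (h : Fr S P M F)
include h

local notation "VV" => zl (S : Subgroup G) M
local notation "EF" => NOne.Flat.EE (zl (S : Subgroup G) M) F
local notation "WF" => NOne.Flat.WW (zl (S : Subgroup G) M) F

theorem V1_le_VV : V1 S P ≤ VV := h.fdat.V1_le.trans h.VP_le

theorem W_le_P : WF ≤ P := h.W_le_S.trans h.cfg.S_le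

theorem W_norm_V1 : WF ≤ normalizer (V1 S P : Set G) := (W_le_P h).trans h.fdat.P_norm_V1

theorem V1_not : ¬ V1 S P ≤ EF := hyp_not_V1 h.hyp h.cfg h.VP_le h.W_le_S h.not_le

theorem exists_w1 : ∃ w ∈ V1 S P, w ∉ EF := SetLike.not_le_iff_exists.1 (V1_not h)

variable {Y V : Type u} [Group Y] [AddCommGroup V] [DistribMulAction Y V] {T : Sylow 2 Y}
  {Mx : Subgroup Y} (R : Rep (S : Subgroup G) P (V1 S P) Y V T Mx)

theorem flatA : FlatA (R.im WF) (R.ag (V1 S P ⊓ EF)) (R.ag (V1 S P ⊓ F)) :=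
  R.flatA (flat_of_hyp h.hyp (V1_le_VV h) (W_norm_V1 h) (V1_not h)) (W_le_P h)

theorem fx_im : fx V (R.im WF) = R.ag (V1 S P ⊓ F) := by
  ext v
  exact ((flatA h R).F_iff v).symm

omit h in
theorem el_dl {s : G} (hs : s ∈ P) (m : V) : R.el (dl (R.ac ⟨s, hs⟩) m) = c (R.el m) s := by
  rw [dl_apply, add_comm, R.add, R.smul, c_def]
  have h1 : (R.el m)⁻¹ = R.el m := R.el_inv m
  rw [h1]
  group

theorem Ee_im : Ee V (R.im WF) = R.ag (V1 S P ⊓ EF) := by
  have hf := flatA h R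
  ext v
  rw [mem_Ee, fx_im h R]
  constructor
  · intro hv
    by_contra hvE
    obtain ⟨e, he, heF⟩ := SetLike.not_le_iff_exists.1 hf.ne
    obtain ⟨u, hu, h1⟩ := hf.reg v hvE e he
    apply heF
    have h2 := (R.ag (V1 S P ⊓ F)).sub_mem h1 (hv u hu)
    rwa [add_sub_cancel_left] at h2
  · intro hv b hb
    exact hf.EF b hb v hv

/-- the image of `W_F` is a member -/
theorem mem_im (hN : NN VV F ≤ centralizer (VV : Set G)) :
    Mem (R.im WF) (Ee V (R.im WF)) (fx V (R.im WF)) := by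
  have hf := flatA h R
  have H := h.hyp
  refine ⟨?_, ?_, ?_, ?_, ?_, fun b hb f hf => hf b hb, fun v hv => hv, ?_, ?_, ?_⟩
  · intro b hb b' hb'
    refine inv_mul_eq_one.1 (R.faith _ fun m => ?_) |>.symm
    rw [mul_smul, mul_smul b b', hf.ab b hb b' hb', ← mul_smul b' b, inv_smul_smul]
  · intro b hb
    refine R.faith _ fun m => ?_
    rw [mul_smul, hf.inv b hb]
  · rw [Ee_im h R, fx_im h R]
    intro v hv
    exact ⟨hv.1, H.F_le_E hv.2⟩
  · rw [Ee_im h R]
    exact hf.VE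
  · exact fun b hb v hv => hv b hb
  · intro w hw b hb hd
    rw [Ee_im h R] at hw
    rw [fx_im h R] at hd
    obtain ⟨s, hs, hsW, rfl⟩ := R.mem_im.1 hb
    have h1 : c (R.el w) s ∈ F := by
      rw [← el_dl R hs]
      exact hd.2
    have h2 := (H.c_mem_F_iff (V1_le_VV h (R.mem w)) (fun h3 => hw ⟨R.mem w, h3⟩) hsW).1 h1
    rw [R.ac_eq_one]
    exact centralizer_le (V1_le_VV h) (hN h2)
  · rw [Ee_im h R, fx_im h R]
    exact hf.reg
  · rw [Ee_im h R]
    exact hf.ne'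

/-- `|V : E_B| = |V₁ : V₁ ∩ E|` -/
theorem index_im : (Ee V (R.im WF)).index = (V1 S P ⊓ EF).relIndex (V1 S P) := by
  have := R.finite
  rw [Ee_im h R]
  have h1 := (R.ag (V1 S P ⊓ EF)).card_mul_index
  rw [R.card_M, R.card_ag inf_le_left, ← NOne.Flat.card_mul_relIndex' (inf_le_left : V1 S P ⊓ EF ≤ V1 S P)] at h1
  exact Nat.eq_of_mul_eq_mul_left Nat.card_pos h1

/-- the preimage of `A` in `X ≤ P` -/
theorem exists_pre {X : Subgroup G} (hX : X ≤ P) {A : Subgroup Y} (hA : A ≤ R.im X) :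
    ∃ A' : Subgroup G, A' ≤ X ∧ R.im A' = A ∧ A' ⊓ centralizer (V1 S P : Set G) = X ⊓ centralizer (V1 S P : Set G) := by
  have hmem : ∀ (a : G) (ha : a ∈ P), a ∈ (A.comap R.ac).map P.subtype ↔ R.ac ⟨a, ha⟩ ∈ A := by
    intro a ha
    constructor
    · rintro ⟨b, hb, rfl⟩
      exact hb
    · intro h1
      exact ⟨⟨a, ha⟩, h1, rfl⟩
  refine ⟨X ⊓ (A.comap R.ac).map P.subtype, inf_le_left, ?_, ?_⟩
  · ext y
    rw [R.mem_im]
    constructor
    · rintro ⟨a, hP, ha, rfl⟩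
      exact (hmem a hP).1 ha.2
    · intro hy
      obtain ⟨a, hP, ha, rfl⟩ := R.mem_im.1 (hA hy)
      exact ⟨a, hP, ⟨ha, (hmem a hP).2 hy⟩, rfl⟩
  · apply le_antisymm (inf_le_inf_right _ inf_le_left)
    rintro x ⟨hx, hxc⟩
    refine ⟨⟨hx, (hmem x (hX hx)).2 ?_⟩, hxc⟩
    rw [(R.ac_eq_one (p := ⟨x, hX hx⟩)).2 hxc]
    exact one_mem _

omit h in
theorem card_toG (D : AddSubgroup V) : Nat.card (Comp.RepOne.toG R D) = Nat.card D := by
  symm
  refine Nat.card_congr (Equiv.ofBijective (fun m : D => (⟨R.el m, ⟨m, m.2, rfl⟩⟩ : Comp.RepOne.toG R D)) ⟨?_, ?_⟩)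
  · intro a b hab
    exact Subtype.ext (R.inj (congrArg Subtype.val hab))
  · rintro ⟨_, m, hm, rfl⟩
    exact ⟨⟨m, hm⟩, rfl⟩

/-- **(MU)** -/
theorem mu_im [Finite Y] (hN : NN VV F ≤ centralizer (VV : Set G)) (A₀ : Subgroup Y) (hA : A₀ ≤ R.im WF) :
    Nat.card A₀ * Nat.card ↥(fx V A₀ ⊓ Ee V (R.im WF)) ≤ Nat.card (Ee V (R.im WF)) := by
  have := R.finite
  have H := h.hyp
  have hWP := W_le_P h
  set D : AddSubgroup V := fx V A₀ ⊓ Ee V (R.im WF) with hD
  set DG : Subgroup G := Comp.RepOne.toG R D with hDG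
  have hDE : DG ≤ EF := by
    rintro _ ⟨m, hm, rfl⟩
    have h1 : m ∈ Ee V (R.im WF) := hm.2
    rw [Ee_im h R] at h1
    exact h1.2
  have h0 := H.off_all (E0 := DG ⊔ F) le_sup_right (sup_le hDE H.F_le_E)
  -- `|E₀ : F|`
  have hn : DG ≤ normalizer (F : Set G) :=
    (hDE.trans (inf_le_left.trans (H.comm.trans (centralizer_le H.F_le_V)))).trans (centralizer_le_normalizer _)
  have h1 : F ⊓ DG = Comp.RepOne.toG R (fx V (R.im WF)) := by
    ext g
    constructor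
    · rintro ⟨hg, m, hm, rfl⟩
      refine ⟨m, ?_, rfl⟩
      rw [fx_im h R]
      exact ⟨R.mem m, hg⟩
    · rintro ⟨m, hm, rfl⟩
      refine ⟨?_, m, ⟨fx_mono hA hm, (mem_im h R hN).FE hm⟩, rfl⟩
      rw [fx_im h R] at hm
      exact hm.2
  have h2 : Nat.card D = Nat.card (fx V (R.im WF)) * F.relIndex (DG ⊔ F) := by
    have h3 := NOne.Flat.card_mul_relIndex' (inf_le_right : F ⊓ DG ≤ DG)
    rw [h1, card_toG, card_toG, ← h1, inf_relIndex_right] at h3
    rw [relIndex_sup_of_norm hn]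
    exact h3.symm
  -- `|W : C_W(E₀)|`
  obtain ⟨A', hA'W, hA'1, hA'2⟩ := exists_pre h R hWP hA
  have h3 : A' ≤ centralizer ((DG ⊔ F : Subgroup G) : Set G) := by
    rw [Subgroup.le_centralizer_iff]
    refine sup_le ?_ ?_
    · rintro _ ⟨m, hm, rfl⟩
      have h4 : ∀ a ∈ R.im A', a • m = m := by
        rw [hA'1]
        exact fun a ha => hm.1 a ha
      rw [mem_centralizer_iff]
      intro a ha
      exact (R.fx_im (hA'W.trans hWP)).1 h4 a ha
    · rw [← Subgroup.le_centralizer_iff]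
      exact hA'W.trans NOne.Flat.Hyp.W_le_X
  have h4 : (centralizer ((DG ⊔ F : Subgroup G) : Set G)).relIndex WF ≤ A'.relIndex WF :=
    relIndex_le_of_le_left h3 Subgroup.index_ne_zero_of_finite
  have h5 := NOne.Flat.card_mul_relIndex' hA'W
  have h6 := R.card_im hWP
  have h7 := R.card_im (hA'W.trans hWP)
  rw [hA'1, hA'2] at h7
  rw [← h7, ← h6] at h5
  have h8 : Nat.card A₀ * A'.relIndex WF = Nat.card (R.im WF) := by
    apply Nat.eq_of_mul_eq_mul_right (Nat.card_pos (α := ↥(WF ⊓ centralizer (V1 S P : Set G))))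
    rw [← h5]
    ring
  have h9 := (mem_im h R hN).card_E R.two
  calc Nat.card A₀ * Nat.card D = Nat.card (fx V (R.im WF)) * (Nat.card A₀ * F.relIndex (DG ⊔ F)) := by
        rw [h2]; ring
    _ ≤ Nat.card (fx V (R.im WF)) * (Nat.card A₀ * A'.relIndex WF) :=
        Nat.mul_le_mul_left _ (Nat.mul_le_mul_left _ (h0.trans h4))
    _ = Nat.card (Ee V (R.im WF)) := by rw [h8, h9]

/-- SOC -/
theorem soc_im1 (K : Subgroup Y) (hK : R.im WF ≤ K) (hv : ∃ v : V, v ≠ 0 ∧ ∀ k ∈ K, k • v = v) :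
    R.im WF ⊓ o2 K ≠ ⊥ := by
  obtain ⟨v, hv, hfix⟩ := hv
  have H := h.hyp
  have hWP := W_le_P h
  set L : Subgroup G := (K.comap R.ac).map P.subtype with hL
  have hWL : WF ≤ L := fun s hs => ⟨⟨s, hWP hs⟩, hK ⟨⟨s, hWP hs⟩, hs, rfl⟩, rfl⟩
  have hu1 : R.el v ≠ 1 := fun h1 => hv (R.el_eq_one.1 h1)
  have huL : R.el v ∈ centralizer (L : Set G) := by
    rw [mem_centralizer_iff]
    rintro _ ⟨p, hp, rfl⟩
    have h1 := R.smul p v
    rw [hfix _ hp] at h1
    change (p : G) * R.el v = R.el v * p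
    calc (p : G) * R.el v = (p * R.el v * (p : G)⁻¹) * p := by group
      _ = R.el v * p := by rw [← h1]
  obtain ⟨-, U, hU, -, hUL⟩ := H.qc hWL (V1_le_VV h (R.mem v)) hu1 huL
    (Alpha.hc_elem h _ (V1_le_VV h (R.mem v)) hu1)
  have h1 : ¬ U ≤ centralizer (V1 S P : Set G) := by
    intro h1
    apply V1_not h
    exact (le_inf (V1_le_VV h) (Subgroup.le_centralizer_iff.1 h1)).trans hU.cent_V
  obtain ⟨s, hs, hsV⟩ := SetLike.not_le_iff_exists.1 h1
  have hsW := hU.le_W hs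
  intro h0
  have h2 : R.ac ⟨s, hWP hsW⟩ ∈ R.im WF ⊓ o2 K := by
    refine ⟨R.mem_im.2 ⟨s, hWP hsW, hsW, rfl⟩, ?_⟩
    have h3 : R.im (o2 L) ≤ o2 K := by
      refine ZN.le_o2 ?_ (R.im_isPGroup (MinSimple.VModule.o2_isPGroup L)) ?_
      · intro y hy
        obtain ⟨p, hP, hp, rfl⟩ := R.mem_im.1 hy
        obtain ⟨p', hp', hpp⟩ := ZN.o2_le L hp
        have e : p' = ⟨p, hP⟩ := Subtype.ext hpp
        rw [← e]
        exact hp'
      · have key : ∀ k ∈ K, ∀ y ∈ R.im (o2 L), k * y * k⁻¹ ∈ R.im (o2 L) := by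
          intro k hk y hy
          obtain ⟨p, rfl⟩ := R.acs k
          obtain ⟨x, hxP, hx, rfl⟩ := R.mem_im.1 hy
          have hpL : (p : G) ∈ L := ⟨p, hk, rfl⟩
          refine R.mem_im.2 ⟨p * x * (p : G)⁻¹, P.mul_mem (P.mul_mem p.2 hxP) (P.inv_mem p.2),
            (mem_normalizer_iff.1 (ZN.le_normalizer_o2 L hpL) x).1 hx, ?_⟩
          rw [← map_inv, ← map_mul, ← map_mul]
          rfl
        intro k hk
        rw [mem_normalizer_iff]
        intro y
        refine ⟨key k hk y, fun h4 => ?_⟩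
        have h5 := key k⁻¹ (K.inv_mem hk) _ h4
        have e : k⁻¹ * (k * y * k⁻¹) * k⁻¹⁻¹ = y := by group
        rwa [e] at h5
    exact h3 (R.mem_im.2 ⟨s, hWP hsW, hUL hs, rfl⟩)
  rw [h0, mem_bot, R.ac_eq_one] at h2
  exact hsV h2

/-- the lines -/
theorem line_im [Finite Y] (hN : NN VV F ≤ centralizer (VV : Set G)) (hK : Field.K1All.{u}) (x : V)
    (hx : x ∈ Ee V (R.im WF)) (hxF : x ∉ fx V (R.im WF)) : ∃ A₁ : Subgroup Y, Line V (R.im WF) x A₁ := by
  have := R.finite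
  have H := h.hyp
  have hWP := W_le_P h
  have hE : R.el x ∈ EF := by
    rw [Ee_im h R] at hx
    exact hx.2
  have hF : R.el x ∉ F := by
    intro h1
    apply hxF
    rw [fx_im h R]
    exact ⟨R.mem x, h1⟩
  obtain ⟨A₁, hA⟩ := hK G VV F h.hypF (R.el x) hE hF
  have hAP : A₁ ≤ P := hA.AW.trans hWP
  have hm := mem_im h R hN
  -- `[x, s] = 1` for `s ∈ A₁`
  have hquad : ∀ s ∈ R.im A₁, ∀ t ∈ R.im A₁, ∀ v : V, dl s (dl t v) = 0 := by
    intro s hs t ht v
    obtain ⟨s, hsP, hsA, rfl⟩ := R.mem_im.1 hs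
    obtain ⟨t, htP, htA, rfl⟩ := R.mem_im.1 ht
    apply R.inj
    rw [el_dl, el_dl, R.el_zero]
    exact hA.quad _ (V1_le_VV h (R.mem v)) t htA s hsA
  -- `[x, A₁] = 1`
  have hfix : ∀ t ∈ A₁, c (R.el x) t = 1 := by
    have h1 : ∃ s ∈ A₁, s ∉ NN VV F := by
      by_contra hcon
      push Not at hcon
      have h2 := relIndex_eq_one.2 hcon
      rw [hA.card, relIndex_eq_one] at h2
      obtain ⟨w, hw, hwE⟩ := exists_w1 h
      exact hwE (h2 (V1_le_VV h hw))
    obtain ⟨s, hs, hsN⟩ := h1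
    obtain ⟨w, hw, -, h2⟩ := hA.ex s hs hsN
    intro t ht
    have h3 : R.el x = c w s * ((c w s)⁻¹ * R.el x) := by group
    rw [h3, H.c_mul_left (H.c_memV hw (hA.AW hs)) (H.F_le_V h2) (hA.AW ht), hA.quad w hw s hs t ht, one_mul]
    exact NOne.Flat.Hyp.c_F h2 (hA.AW ht)
  -- `C_{A₁}(V₁) = N`
  have hker : ∀ s ∈ A₁, s ∈ centralizer (V1 S P : Set G) ↔ s ∈ NN VV F := by
    intro s hs
    constructor
    · intro h1
      obtain ⟨w, hw, hwE⟩ := exists_w1 h
      rw [← H.c_mem_F_iff (V1_le_VV h hw) hwE (hA.AW hs), c_def, mem_centralizer_iff.1 h1 w hw]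
      have e : s * w * w⁻¹ * s⁻¹ = 1 := by group
      rw [e]
      exact one_mem _
    · intro h1
      exact centralizer_le (V1_le_VV h) (hN h1)
  have hle : R.im A₁ ≤ R.im WF := by
    intro y hy
    obtain ⟨s, hsP, hs, rfl⟩ := R.mem_im.1 hy
    exact R.mem_im.2 ⟨s, hsP, hA.AW hs, rfl⟩
  have hcard : Nat.card (R.im A₁) = (EF).relIndex VV := by
    have h1 := R.card_im hAP
    have h2 : A₁ ⊓ centralizer (V1 S P : Set G) = NN VV F := by
      ext s
      constructor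
      · rintro ⟨hs, hs'⟩
        exact (hker s hs).1 hs'
      · intro hs
        exact ⟨hA.NA hs, (hker s (hA.NA hs)).2 hs⟩
    have h3 := NOne.Flat.card_mul_relIndex' hA.NA
    rw [h2, ← h3, mul_comm, hA.card] at h1
    exact Nat.eq_of_mul_eq_mul_left Nat.card_pos h1
  refine ⟨R.im A₁, hle, ?_, ?_, ?_, ?_⟩
  · rw [hcard, index_im h R]
    exact hyp_index_le H (V1_le_VV h)
  · intro s hs
    obtain ⟨s, hsP, hsA, rfl⟩ := R.mem_im.1 hs
    rw [← dl_eq_zero R.two]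
    apply R.inj
    rw [el_dl, R.el_zero]
    exact hfix s hsA
  · intro s hs r hr v
    have h1 := hquad s hs r hr v
    simp only [dl_apply, smul_add] at h1
    rw [← h1]
    abel
  · intro E' hE' hi b hb
    change dl b x ∈ E'
    refine tr_gen R.two (A₁ := R.im A₁) (fun s hs => hm.sq s (hle hs)) ?_ ?_ hquad hE' hi
    · intro s hs
      rw [dl_eq_zero R.two]
      exact hm.EB b hb x hx s (hle hs)
    · intro s hs hs1
      obtain ⟨s, hsP, hsA, rfl⟩ := R.mem_im.1 hs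
      obtain ⟨b, hbP, hbW, rfl⟩ := R.mem_im.1 hb
      have hsW := hA.AW hsA
      have hsN : s ∉ NN VV F := fun h1 => hs1 (R.ac_eq_one.2 ((hker s hsA).2 h1))
      obtain ⟨w, hw, hwE, h2⟩ := hA.ex s hsA hsN
      obtain ⟨u, hu, huE⟩ := exists_w1 h
      have huV := V1_le_VV h hu
      obtain ⟨r, hr, h3⟩ := H.surj huV huE (H.c_memE hw hbW)
      have h4 : c u r ∈ V1 S P := by
        have h5 := (mem_normalizer_iff.mp (W_norm_V1 h hr) u⁻¹).mp (inv_mem hu)
        have e : c u r = u * (r * u⁻¹ * r⁻¹) := by rw [c_def]; group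
        rw [e]
        exact mul_mem hu h5
      obtain ⟨m, hm1⟩ := R.surj _ h4
      refine ⟨m, R.inj ?_⟩
      rw [el_dl, el_dl, hm1]
      have e1 : c u r = c u r * (c w b)⁻¹ * c w b := by group
      have e2 : R.el x = c w s * ((c w s)⁻¹ * R.el x) := by group
      have h5 := H.c_memV hw hbW
      have h6 := H.c_memV hw hsW
      rw [e1, H.c_mul_left (H.F_le_V h3) h5 hsW, NOne.Flat.Hyp.c_F h3 hsW, one_mul, e2,
        H.c_mul_left h6 (H.F_le_V h2) hbW, NOne.Flat.Hyp.c_F h2 hbW, mul_one]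
      exact H.beta_comm hw hbW hsW

/-- (PF) -/
theorem pf_im [Finite Y] (hN : NN VV F ≤ centralizer (VV : Set G)) :
    (V1 S P ⊓ EF).relIndex (V1 S P) ^ 2 ≤ Nat.card (R.im WF) := by
  have := R.finite
  have H := h.hyp
  refine (hyp_pf H (V1_le_VV h) (W_norm_V1 h) (V1_not h)).trans (le_of_eq ?_)
  have h1 := (mem_im h R hN).card_E R.two
  rw [Ee_im h R, fx_im h R, R.card_ag inf_le_left, R.card_ag inf_le_left] at h1
  have h2 := NOne.Flat.card_mul_relIndex' (inf_le_inf_left (V1 S P) H.F_le_E : V1 S P ⊓ F ≤ V1 S P ⊓ EF)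
  rw [h1] at h2
  exact Nat.eq_of_mul_eq_mul_left Nat.card_pos h2

include R in
/-- no offender in `T` -/
theorem noff_T [Finite Y] {A : Subgroup Y} (hA : A ≤ (T : Subgroup Y)) (hc : ∀ x ∈ A, ∀ y ∈ A, x * y = y * x)
    (hs : ∀ x ∈ A, x * x = 1) (hne : A ≠ ⊥) : Nat.card A < (fx V A).index := by
  have := R.finite
  have hd := h.fdat
  have hSP := h.cfg.S_le
  have hTS : (T : Subgroup Y) = R.im S := by
    ext y
    rw [R.mem_im]
    constructor
    · intro hy
      obtain ⟨t, ht, rfl⟩ := (R.mem_T y).1 hy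
      exact ⟨t, t.2, ht, rfl⟩
    · rintro ⟨t, htP, ht, rfl⟩
      exact (R.mem_T _).2 ⟨⟨t, htP⟩, ht, rfl⟩
  obtain ⟨A', hA'S, hA'1, -⟩ := exists_pre h R hSP (hTS ▸ hA)
  have hA'P := hA'S.trans hSP
  by_contra hcon
  rw [not_lt] at hcon
  have hZ : zc (S : Subgroup G) ≤ centralizer (A' : Set G) := by
    intro z hz
    rw [mem_centralizer_iff]
    intro s hs
    exact (ChoiceBase.mem_zc.1 hz).2.2 s (hA'S hs)
  -- centralizers of `V₁` and of `V_P`
  have hcen : ∀ x ∈ (S : Subgroup G), x ∈ centralizer (V1 S P : Set G) →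
      x ∈ centralizer (zl (S : Subgroup G) P : Set G) := by
    intro x hx hx1
    have h1 : zpowers x ≤ centralizer (zl (S : Subgroup G) P : Set G) := by
      rw [Subgroup.le_centralizer_iff, ← hd.sup_eq]
      refine sup_le ?_ ?_
      · rw [Subgroup.le_centralizer_iff, zpowers_le]
        exact hx1
      · rw [Subgroup.le_centralizer_iff, zpowers_le, mem_centralizer_iff]
        intro z hz
        exact ((ChoiceBase.mem_zc.1 hz).2.2 x hx).symm
    exact h1 (mem_zpowers x)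
  have hcap : A' ⊓ centralizer (zl (S : Subgroup G) P : Set G) = A' ⊓ centralizer (V1 S P : Set G) := by
    apply le_antisymm (inf_le_inf_left _ (centralizer_le hd.V1_le))
    rintro x ⟨hx, hx1⟩
    exact ⟨hx, hcen x (hA'S hx) hx1⟩
  have hcard := R.card_im hA'P
  rw [hA'1, ← hcap] at hcard
  -- `|V_P : C(A')|`
  set N : Subgroup G := zl (S : Subgroup G) P ⊓ centralizer (A' : Set G) with hN
  have hsup : V1 S P ⊔ N = zl (S : Subgroup G) P := by
    refine le_antisymm (sup_le hd.V1_le inf_le_left) ?_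
    conv_lhs => rw [← hd.sup_eq]
    exact sup_le_sup_left (le_inf h.cfg.Z_le_V hZ) _
  have hn : V1 S P ≤ normalizer (N : Set G) :=
    (hd.V1_le.trans (h.cfg.V_comm.trans (centralizer_le inf_le_left))).trans (centralizer_le_normalizer _)
  have h1 := relIndex_sup_of_norm hn
  rw [hsup] at h1
  have h2 : V1 S P ⊓ N = Comp.RepOne.toG R (fx V A) := by
    ext g
    constructor
    · rintro ⟨hg1, hg2⟩
      obtain ⟨m, rfl⟩ := R.surj g hg1
      refine ⟨m, ?_, rfl⟩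
      rw [← hA'1]
      exact (R.fx_im hA'P).2 fun a ha => mem_centralizer_iff.1 hg2.2 a ha
    · rintro ⟨m, hm, rfl⟩
      rw [← hA'1] at hm
      exact ⟨R.mem m, hd.V1_le (R.mem m), mem_centralizer_iff.2 fun a ha => (R.fx_im hA'P).1 hm a ha⟩
  have h3 := NOne.Flat.card_mul_relIndex' (inf_le_left : V1 S P ⊓ N ≤ V1 S P)
  rw [inf_relIndex_left, ← h1, h2, card_toG] at h3
  have h4 := (fx V A).card_mul_index
  rw [R.card_M, ← h3] at h4
  have h5 : (fx V A).index = N.relIndex (zl (S : Subgroup G) P) := Nat.eq_of_mul_eq_mul_left Nat.card_pos h4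
  have h6 := NOne.Flat.card_mul_relIndex' (inf_le_left : N ≤ zl (S : Subgroup G) P)
  refine h.noff A' hA'P ⟨⟨?_, ?_⟩, ?_, ?_⟩
  · intro a ha
    have haA : R.ac ⟨a, hA'P ha⟩ ∈ A := by
      rw [← hA'1]
      exact R.mem_im.2 ⟨a, hA'P ha, ha, rfl⟩
    have h7 := hs _ haA
    rw [← map_mul] at h7
    rw [pow_two]
    exact hcen _ (mul_mem (hA'S ha) (hA'S ha)) (R.ac_eq_one.1 h7)
  · intro a ha b hb
    have haA : R.ac ⟨a, hA'P ha⟩ ∈ A := by
      rw [← hA'1]
      exact R.mem_im.2 ⟨a, hA'P ha, ha, rfl⟩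
    have hbA : R.ac ⟨b, hA'P hb⟩ ∈ A := by
      rw [← hA'1]
      exact R.mem_im.2 ⟨b, hA'P hb, hb, rfl⟩
    have h7 := hc _ haA _ hbA
    have h8 : R.ac (⟨a, hA'P ha⟩ * ⟨b, hA'P hb⟩ * ⟨a, hA'P ha⟩⁻¹ * ⟨b, hA'P hb⟩⁻¹) = 1 := by
      rw [map_mul, map_mul, map_mul, h7, map_inv, map_inv]
      group
    exact hcen _ (mul_mem (mul_mem (mul_mem (hA'S ha) (hA'S hb)) (inv_mem (hA'S ha))) (inv_mem (hA'S hb)))
      (R.ac_eq_one.1 h8)
  · intro h7
    apply hne
    rw [eq_bot_iff, ← hA'1]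
    intro y hy
    obtain ⟨a, haP, ha, rfl⟩ := R.mem_im.1 hy
    rw [mem_bot, R.ac_eq_one]
    exact centralizer_le hd.V1_le (h7 ha)
  · rw [← h6, ← hcard, ← h5]
    calc Nat.card N * (fx V A).index * Nat.card ↥(A' ⊓ centralizer (zl (S : Subgroup G) P : Set G))
        ≤ Nat.card N * Nat.card A * Nat.card ↥(A' ⊓ centralizer (zl (S : Subgroup G) P : Set G)) :=
          Nat.mul_le_mul_right _ (Nat.mul_le_mul_left _ hcon)
      _ = _ := by ring

include R in
/-- no offender -/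
theorem noff_im [Finite Y] (A : Subgroup Y) (hc : ∀ x ∈ A, ∀ y ∈ A, x * y = y * x)
    (hs : ∀ x ∈ A, x * x = 1) (hne : A ≠ ⊥) : Nat.card A < (fx V A).index := by
  have := R.finite
  have h2 : IsPGroup 2 A := by
    rintro ⟨a, ha⟩
    exact ⟨1, Subtype.ext (by
      rw [pow_one]
      change a ^ 2 = 1
      rw [pow_two, hs a ha])⟩
  obtain ⟨k, -, hk⟩ := sylow_conj T (K := ⊤) le_top h2 le_top
  have h3 : MulAut.conj k⁻¹ • A ≤ (T : Subgroup Y) := by
    intro y hy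
    obtain ⟨a, ha, rfl⟩ := Alpha.mem_conj'.1 hy
    rw [inv_inv]
    exact hk a ha
  have h4 := noff_T h R h3 ?_ ?_ ?_
  · rw [conj_card, fx_conj, index_smul_as] at h4
    exact h4
  · intro x hx y hy
    obtain ⟨a, ha, rfl⟩ := Alpha.mem_conj'.1 hx
    obtain ⟨b, hb, rfl⟩ := Alpha.mem_conj'.1 hy
    calc k⁻¹ * a * k⁻¹⁻¹ * (k⁻¹ * b * k⁻¹⁻¹) = k⁻¹ * (a * b) * k := by group
      _ = k⁻¹ * (b * a) * k := by rw [hc a ha b hb]
      _ = _ := by group
  · intro x hx
    obtain ⟨a, ha, rfl⟩ := Alpha.mem_conj'.1 hx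
    calc k⁻¹ * a * k⁻¹⁻¹ * (k⁻¹ * a * k⁻¹⁻¹) = k⁻¹ * (a * a) * k := by group
      _ = 1 := by rw [hs a ha]; group
  · intro h5
    apply hne
    rw [eq_bot_iff]
    intro a ha
    have h6 := conj_mem_conj (g := k⁻¹) ha
    rw [h5, mem_bot] at h6
    rw [mem_bot]
    have e : a = k * (k⁻¹ * a * k⁻¹⁻¹) * k⁻¹ := by group
    rw [e, h6]
    group

/-- the members -/
def mb (M F : Subgroup G) (R : Rep (S : Subgroup G) P (V1 S P) Y V T Mx) : Set (Subgroup Y) :=
  {B | ∃ y : Y, B = MulAut.conj y • R.im (NOne.Flat.WW (zl (S : Subgroup G) M) F)}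

/-- **The world.** -/
theorem world_of [Finite Y] (hNN : Field.NNOne.{u}) (hK : Field.K1All.{u})
    (hsN : ∀ A ∈ mb M F R, ∀ B ∈ mb M F R, ∀ v : V, v ≠ 0 → v ∈ AB.fx V A → v ∈ AB.fx V B →
      ∃ S' ≤ B, (V1 S P ⊓ EF).relIndex (V1 S P) ≤ Nat.card S' ∧ S' ≤ normalizer (A : Set Y) ∧
        ∀ s ∈ S', ∀ x : V, s • x + x ∈ Ee V A) :
    World V (mb M F R) T Mx ((V1 S P ⊓ EF).relIndex (V1 S P)) := by
  have := R.finite
  have hN : NN VV F ≤ centralizer (VV : Set G) := by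
    apply h.hyp.NN_le_of_NNOne
    intro n hn h1 h2
    refine (hNN G VV F h.hypF).2 n hn h1 fun e he => ?_
    rw [c_def, h2 e he]
    group
  have hm := mem_im h R hN
  exact
    { cls :=
        { two := R.two
          mem := by
            rintro _ ⟨y, rfl⟩
            exact Mem.smul' hm y
          mu := by
            rintro _ ⟨y, rfl⟩
            exact mu_smul (mu_im h R hN) y
          conj := by
            rintro _ ⟨y, rfl⟩ g
            exact ⟨g * y, by rw [map_mul, mul_smul]⟩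
          eq := by
            rintro _ ⟨y, rfl⟩ _ ⟨z, rfl⟩
            refine ⟨z * y⁻¹, ?_⟩
            rw [← mul_smul, ← map_mul, inv_mul_cancel_right] }
      TM := R.TM
      Mne := R.Mne
      max := R.max
      core := R.core
      irr := fun W hW => (Comp.RepOne.irred h.fdat R W hW).imp_right fun ht B hB hle => by
        obtain ⟨y, rfl⟩ := hB
        obtain ⟨v, hv⟩ := (Mem.smul' hm y).ne
        exact hv (hle (ht ▸ AddSubgroup.mem_top v))
      faith := R.faith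
      two_le := by
        rw [inf_relIndex_left]
        have h1 : (EF).relIndex (V1 S P) ≠ 0 := Subgroup.index_ne_zero_of_finite
        have h2 : (EF).relIndex (V1 S P) ≠ 1 := fun h2 => V1_not h (relIndex_eq_one.1 h2)
        omega
      ind := by
        rintro _ ⟨y, rfl⟩
        rw [Ee_conj, index_smul_as, index_im h R]
      pf := by
        rintro _ ⟨y, rfl⟩
        rw [conj_card]
        exact pf_im h R hN
      noff := noff_im h R
      soc := by
        rintro _ ⟨y, rfl⟩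
        exact soc_smul (soc_im1 h R) y
      socN := hsN
      line := by
        rintro _ ⟨y, rfl⟩ x hx hxF
        rw [mem_Ee_conj] at hx
        rw [mem_fx_conj] at hxF
        obtain ⟨A₁, hA⟩ := line_im h R hN hK _ hx hxF
        have h1 := hA.smul y
        rw [smul_inv_smul] at h1
        exact ⟨_, h1⟩ }

/-- images of the proper subgroups over `S` are proper -/
theorem im_le_Mx {X : Subgroup G} (hX : X ≤ P) (hSX : (S : Subgroup G) ≤ X) (hne : X ≠ P) : R.im X ≤ Mx := by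
  obtain ⟨M₀, hM₀, hM₁⟩ := h.cfg.par.toIsMinPar.exists_max
  refine R.max _ ?_ ?_
  · intro t ht
    obtain ⟨⟨s, hsP⟩, hs, rfl⟩ := (R.mem_T t).1 ht
    exact R.mem_im.2 ⟨s, hsP, hSX hs, rfl⟩
  intro htop
  -- the kernel
  have h1 : (S : Subgroup G) ⊔ (P ⊓ centralizer (V1 S P : Set G)) ≤ M₀ := by
    refine hM₁ _ le_sup_left (lt_of_le_of_ne (sup_le h.cfg.S_le inf_le_left) fun h6 => R.Mne ?_)
    rw [eq_top_iff]
    intro y _
    obtain ⟨⟨x, hx⟩, rfl⟩ := R.acs y
    apply R.TM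
    have hx' := hx
    rw [← h6] at hx'
    have h7 : ((S : Subgroup G) ⊔ (P ⊓ centralizer (V1 S P : Set G))).subgroupOf P ≤
        (T : Subgroup Y).comap R.ac := by
      have e1 : ((S : Subgroup G) ⊔ (P ⊓ centralizer (V1 S P : Set G))).subgroupOf P =
          (S : Subgroup G).subgroupOf P ⊔ (P ⊓ centralizer (V1 S P : Set G)).subgroupOf P :=
        subgroupOf_sup h.cfg.S_le inf_le_left
      rw [e1]
      refine sup_le ?_ ?_
      · intro s hs
        exact (R.mem_T _).2 ⟨s, hs, rfl⟩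
      · intro s hs
        have h8 : R.ac s = 1 := R.ac_eq_one.2 hs.2
        change R.ac s ∈ (T : Subgroup Y)
        rw [h8]
        exact one_mem _
    exact h7 (show (⟨x, hx⟩ : P) ∈ _ from hx')
  have h2 : X ≤ M₀ := hM₁ _ hSX (lt_of_le_of_ne hX hne)
  apply hM₀.not_ge
  intro x hx
  have h3 : R.ac ⟨x, hx⟩ ∈ R.im X := by rw [htop]; exact mem_top _
  obtain ⟨a, haP, ha, hax⟩ := R.mem_im.1 h3
  have h6 : R.ac (⟨a, haP⟩⁻¹ * ⟨x, hx⟩) = 1 := by rw [map_mul, map_inv, hax, inv_mul_cancel]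
  have h7 := R.ac_eq_one.1 h6
  have h8 : x = a * (a⁻¹ * x) := by group
  rw [h8]
  exact mul_mem (h2 ha) (h1 (le_sup_right (a := (S : Subgroup G)) (mem_inf.2 ⟨P.mul_mem (P.inv_mem haP) hx, h7⟩)))

/-- **`Disj` is (+).** -/
theorem plusAt_of [Finite Y] (hd : Disj (mb M F R) Mx) : PlusAt (S : Subgroup G) P EF := by
  intro p hp z hz hz1 hzE htop
  have H := h.hyp
  have hWP := W_le_P h
  have hfd := h.fdat
  -- `s ∈ W` with `s ∈ C(z^p)`, `s ∉ C(V₁)`
  have hs : ∀ x ∈ EF, ∃ s ∈ WF, s ∉ centralizer (V1 S P : Set G) ∧ s * x = x * s := by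
    intro x hx
    by_cases hF : x ∈ F
    · obtain ⟨s, hs, hs1⟩ := SetLike.not_le_iff_exists.1 hfd.W_not_le1
      exact ⟨s, hs, hs1, (mem_centralizer_iff.1 (NOne.Flat.Hyp.W_le_X hs) _ hF).symm⟩
    · obtain ⟨u, hu, huE⟩ := exists_w1 h
      have huV := V1_le_VV h hu
      obtain ⟨s, hs, h1⟩ := H.surj huV huE hx
      refine ⟨s, hs, ?_, ?_⟩
      · intro h2
        apply hF
        have h3 : c u s = 1 := by
          rw [c_def, mem_centralizer_iff.1 h2 u hu]; group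
        rw [h3, one_mul] at h1
        simpa using F.inv_mem h1
      · obtain ⟨f, hf⟩ : ∃ f, f = (c u s * x⁻¹)⁻¹ := ⟨_, rfl⟩
        have hfF : f ∈ F := by rw [hf]; exact F.inv_mem h1
        have h2 : x = f * c u s := by rw [hf]; group
        have h4 := H.c_comm huV hs
        have h5 := mem_centralizer_iff.1 (NOne.Flat.Hyp.W_le_X hs) _ hfF
        rw [h2, ← mul_assoc, ← h5, mul_assoc, ← h4, mul_assoc]
  obtain ⟨s, hsW, hsC, hsz⟩ := hs _ hzE
  -- `C_P(z)`
  have hX : R.im (P ⊓ centralizer ({z} : Set G)) ≤ Mx := by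
    refine im_le_Mx h R inf_le_left (le_inf h.cfg.S_le fun t ht => ?_) ?_
    · rw [mem_centralizer_singleton_iff]
      exact ((ChoiceBase.mem_zc.1 hz).2.2 t ht)
    · intro h1
      apply hz1
      apply hfd.cv (h.cfg.Z_le_V hz)
      intro g hg
      rw [← h1] at hg
      rw [mem_centralizer_singleton_iff.1 hg.2, mul_inv_cancel_right]
  have h1 : R.im WF ⊓ MulAut.conj (R.ac ⟨p, hp⟩) • Mx ≠ ⊥ := by
    intro h0
    have h2 : R.ac ⟨s, hWP hsW⟩ ∈ R.im WF ⊓ MulAut.conj (R.ac ⟨p, hp⟩) • Mx := by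
      refine mem_inf.2 ⟨R.mem_im.2 ⟨s, hWP hsW, hsW, rfl⟩, ?_⟩
      rw [mem_conj]
      apply hX
      refine R.mem_im.2 ⟨p⁻¹ * s * p, P.mul_mem (P.mul_mem (P.inv_mem hp) (hWP hsW)) hp,
        mem_inf.2 ⟨P.mul_mem (P.mul_mem (P.inv_mem hp) (hWP hsW)) hp, ?_⟩, ?_⟩
      · rw [mem_centralizer_singleton_iff]
        calc p⁻¹ * s * p * z = p⁻¹ * (s * (p * z * p⁻¹)) * p := by group
          _ = p⁻¹ * (p * z * p⁻¹ * s) * p := by rw [hsz]
          _ = z * (p⁻¹ * s * p) := by group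
      · rw [← map_inv, ← map_mul, ← map_mul]
        rfl
    rw [h0, mem_bot] at h2
    exact hsC (R.ac_eq_one.1 h2)
  have hBT : R.im WF ≤ (T : Subgroup Y) := R.im_le_T h.W_le_S
  have h2 := hd (R.im WF) ⟨1, by rw [map_one, one_smul]⟩ (hBT.trans R.TM) _ h1
  have hyM : R.ac ⟨p, hp⟩ ∈ Mx := by
    -- Frattini
    have h3 : MulAut.conj (R.ac ⟨p, hp⟩) • (T : Subgroup Y) ≤ Mx :=
      (conj_le_conj _ R.TM).trans h2.le
    obtain ⟨k, hk, hkT⟩ := sylow_conj T R.TM (conj_isPGroup (y := R.ac ⟨p, hp⟩) T.isPGroup') h3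
    -- `k⁻¹ y ∈ N(T)`
    have h4 : MulAut.conj (k⁻¹ * R.ac ⟨p, hp⟩) • (T : Subgroup Y) = T := by
      refine eq_of_le_of_card_ge ?_ (by rw [conj_card])
      rw [← conj_smul_smul]
      intro x hx
      obtain ⟨a, ha, rfl⟩ := Alpha.mem_conj'.1 hx
      rw [inv_inv]
      exact hkT a ha
    have h5 : k⁻¹ * R.ac ⟨p, hp⟩ ∈ normalizer ((T : Subgroup Y) : Set Y) := by
      rw [mem_normalizer_iff]
      intro x
      constructor
      · intro hx
        have h6 := conj_mem_conj (g := k⁻¹ * R.ac ⟨p, hp⟩) hx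
        rwa [h4] at h6
      · intro hx
        rw [← h4, mem_conj] at hx
        have e : (k⁻¹ * R.ac ⟨p, hp⟩)⁻¹ * (k⁻¹ * R.ac ⟨p, hp⟩ * x * (k⁻¹ * R.ac ⟨p, hp⟩)⁻¹) * (k⁻¹ * R.ac ⟨p, hp⟩) = x := by
          group
        rwa [e] at hx
    have h6 : normalizer ((T : Subgroup Y) : Set Y) ≤ Mx := by
      refine R.max _ le_normalizer fun h7 => ?_
      have h8 : (T : Subgroup Y).Normal := normalizer_eq_top_iff.1 h7
      have h9 := R.core T h8 T.isPGroup'
      apply hsC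
      have h10 : R.ac ⟨s, hWP hsW⟩ ∈ (T : Subgroup Y) := hBT (R.mem_im.2 ⟨s, hWP hsW, hsW, rfl⟩)
      rw [h9, mem_bot] at h10
      exact R.ac_eq_one.1 h10
    have h7 := mul_mem hk (h6 h5)
    rwa [mul_inv_cancel_left] at h7
  apply R.Mne
  rw [eq_top_iff]
  intro y _
  obtain ⟨⟨x, hx⟩, rfl⟩ := R.acs y
  have h3 : (S : Subgroup G) ⊔ zpowers p ≤ (Mx.comap R.ac).map P.subtype := by
    refine sup_le ?_ ?_
    · intro t ht
      exact ⟨⟨t, h.cfg.S_le ht⟩, R.TM ((R.mem_T _).2 ⟨⟨t, h.cfg.S_le ht⟩, ht, rfl⟩), rfl⟩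
    · rw [zpowers_le]
      exact ⟨⟨p, hp⟩, hyM, rfl⟩
  have h4 : x ∈ (Mx.comap R.ac).map P.subtype := h3 (by rw [htop]; exact hx)
  obtain ⟨x', hx', e⟩ := h4
  have e' : x' = ⟨x, hx⟩ := Subtype.ext e
  rw [← e']
  exact hx'

end fr

end Cfsg.Agent.Omega.NO1.TH

end

section


/-!
# N1, one component: (SOC-N) for the frames `Fr S P M F` (bb OMEGA 21281, helper301)

`R : Rep S P (V1 S P) Y V T Mx`.  `Q_u = O₂(C_G(u))` normalises every maximal bad `F' ≥ ⟨u⟩` and `W_F'`, and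
`[V, Q_u] ≤ V ∩ Q_u ≤ E_F'` (970's `Flat.QC`, `Flat.QU`); so the image of the group `U ≤ Q_u ∩ W_F` of (QU)
normalises the member of `F'` and centralises `V / E_F'`.

* `socN_of : SocN V (mb M F R)`.
-/

set_option autoImplicit false
set_option linter.unusedSectionVars false

namespace Cfsg.Agent.Omega.NO1.TH

open Subgroup Cfsg Cfsg.Agent.ZN Cfsg.Agent.Omega.MinPar Cfsg.Agent.Omega.Frame
open Cfsg.Agent.Omega.NO1.AB
open Cfsg.Agent.Omega.NOne.Flat (Hyp NN)
open Cfsg.Agent.Omega.NO1.WRF.Irr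
open Cfsg.Agent.Omega.NO1.HE (dl dl_apply dl_mul dl_eq_zero)
open Cfsg.Agent.Omega.NOne.NearFF (c c_def)
open scoped Pointwise

universe u

section

variable {G : Type u} [Group G] [Finite G] {S : Sylow 2 G} {P M F : Subgroup G} (h : Fr S P M F)
variable {Y V : Type u} [Group Y] [AddCommGroup V] [DistribMulAction Y V] {T : Sylow 2 Y}
  {Mx : Subgroup Y} (R : Rep (S : Subgroup G) P (V1 S P) Y V T Mx)

local notation "VV" => zl (S : Subgroup G) M
local notation "EF" => NOne.Flat.EE (zl (S : Subgroup G) M) F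
local notation "WF" => NOne.Flat.WW (zl (S : Subgroup G) M) F

theorem im_mono {A B : Subgroup G} (hAB : A ≤ B) : R.im A ≤ R.im B := by
  intro y hy
  obtain ⟨a, hP, ha, rfl⟩ := R.mem_im.1 hy
  exact R.mem_im.2 ⟨a, hP, hAB ha, rfl⟩

/-- the image of the normaliser normalises the image -/
theorem ac_mem_normalizer {X : Subgroup G} {s : G} (hs : s ∈ P) (hn : s ∈ normalizer (X : Set G)) :
    R.ac ⟨s, hs⟩ ∈ normalizer (R.im X : Set Y) := by
  have key : ∀ (s : G) (hs : s ∈ P), s ∈ normalizer (X : Set G) → ∀ y ∈ R.im X,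
      R.ac ⟨s, hs⟩ * y * (R.ac ⟨s, hs⟩)⁻¹ ∈ R.im X := by
    intro s hs hn y hy
    obtain ⟨a, hP, ha, rfl⟩ := R.mem_im.1 hy
    refine R.mem_im.2 ⟨s * a * s⁻¹, P.mul_mem (P.mul_mem hs hP) (P.inv_mem hs),
      (mem_normalizer_iff.1 hn a).1 ha, ?_⟩
    rw [← map_inv, ← map_mul, ← map_mul]
    rfl
  rw [mem_normalizer_iff]
  intro y
  refine ⟨key s hs hn y, fun h1 => ?_⟩
  have h2 := key s⁻¹ (P.inv_mem hs) (inv_mem hn) _ h1
  have e1 : R.ac ⟨s⁻¹, P.inv_mem hs⟩ = (R.ac ⟨s, hs⟩)⁻¹ := by rw [← map_inv]; rfl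
  rw [e1] at h2
  have e2 : (R.ac ⟨s, hs⟩)⁻¹ * (R.ac ⟨s, hs⟩ * y * (R.ac ⟨s, hs⟩)⁻¹) * (R.ac ⟨s, hs⟩)⁻¹⁻¹ = y := by group
  rwa [e2] at h2

/-- images of conjugates -/
theorem im_conj {X : Subgroup G} (p : P) : MulAut.conj (R.ac p) • R.im X = R.im (MulAut.conj (p : G) • X) := by
  ext y
  rw [AB.mem_conj]
  constructor
  · intro hy
    obtain ⟨a, hP, ha, hay⟩ := R.mem_im.1 hy
    refine R.mem_im.2 ⟨(p : G) * a * (p : G)⁻¹, P.mul_mem (P.mul_mem p.2 hP) (P.inv_mem p.2),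
      AB.conj_mem_conj ha, ?_⟩
    have e1 : R.ac ⟨(p : G) * a * (p : G)⁻¹, P.mul_mem (P.mul_mem p.2 hP) (P.inv_mem p.2)⟩ =
        R.ac p * R.ac ⟨a, hP⟩ * (R.ac p)⁻¹ := by
      rw [← map_inv, ← map_mul, ← map_mul]
      rfl
    rw [e1, hay]
    group
  · intro hy
    obtain ⟨a, hP, ha, rfl⟩ := R.mem_im.1 hy
    rw [AB.mem_conj] at ha
    refine R.mem_im.2 ⟨(p : G)⁻¹ * a * p, P.mul_mem (P.mul_mem (P.inv_mem p.2) hP) p.2, ha, ?_⟩
    rw [← map_inv, ← map_mul, ← map_mul]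
    rfl

include h

theorem P_norm_VV : P ≤ normalizer (VV : Set G) :=
  h.inv.PM.trans (MinSimple.VModule.le_normalizer_zl (S : Subgroup G) M)

/-- (SOC-N) for the member `R.im W_F` and a conjugate -/
theorem socN_core (p : P) {w : V} (hw0 : w ≠ 0) (hwB : w ∈ fx V (R.im WF))
    (hwA : w ∈ fx V (MulAut.conj (R.ac p) • R.im WF)) :
    ∃ X : Subgroup Y, X ≤ R.im WF ∧ (Ee V (R.im WF)).index ≤ Nat.card X ∧
      X ≤ normalizer ((MulAut.conj (R.ac p) • R.im WF : Subgroup Y) : Set Y) ∧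
      ∀ s ∈ X, ∀ v : V, s • v + v ∈ Ee V (MulAut.conj (R.ac p) • R.im WF) := by
  have := R.finite
  have := R.finiteY
  have H := h.hyp
  have hWP := W_le_P h
  have hpV : (p : G) ∈ normalizer (VV : Set G) := P_norm_VV h p.2
  have H' := H.conj hpV
  have hu1 : R.el w ≠ 1 := fun h1 => hw0 (R.el_eq_one.1 h1)
  have huV : R.el w ∈ VV := V1_le_VV h (R.mem w)
  have huF : R.el w ∈ F := by
    rw [fx_im h R] at hwB
    exact hwB.2
  have huF' : R.el w ∈ MulAut.conj (p : G) • F := by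
    rw [mem_fx_conj, fx_im h R] at hwA
    have h1 : R.el ((R.ac p)⁻¹ • w) ∈ F := hwA.2
    rw [← map_inv, R.smul] at h1
    rw [AB.mem_conj]
    simpa using h1
  obtain ⟨U, hU, -, -, -⟩ := H.exists_qu_elem huF hu1 (Alpha.hc_elem h _ huV hu1)
  have hD : zpowers (R.el w) ≠ ⊥ := by rwa [Ne, zpowers_eq_bot]
  have hUP : U ≤ P := hU.le_W.trans hWP
  refine ⟨R.im U, im_mono R hU.le_W, ?_, ?_, ?_⟩
  · -- `|S| ≥ |V : E|`
    obtain ⟨x, hx, hxF⟩ : ∃ x ∈ NOne.Flat.EE VV (zpowers (R.el w)), x ∉ F := by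
      by_contra hcon
      push Not at hcon
      have h1 := hU.two_le
      have h2 : F.relIndex (NOne.Flat.EE VV (zpowers (R.el w))) = 1 := relIndex_eq_one.2 hcon
      omega
    have hxV : x ∈ VV := hx.1
    have hsel : ∀ v : V, v ∉ Ee V (R.im WF) → ∃ s : G, ∃ hs : s ∈ U, c (R.el v) s * x⁻¹ ∈ F := by
      intro v hv
      rw [Ee_im h R] at hv
      obtain ⟨s, hs, h1⟩ := hU.surj (R.el v) (V1_le_VV h (R.mem v)) (fun h2 => hv ⟨R.mem v, h2⟩) x
        (mem_sup_left hx)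
      exact ⟨s, hs, h1⟩
    choose! sel hselU hselF using hsel
    classical
    let f : V ⧸ Ee V (R.im WF) → R.im U := fun q =>
      if hq : q.out ∈ Ee V (R.im WF) then 1
      else ⟨R.ac ⟨sel q.out, hUP (hselU _ hq)⟩, R.mem_im.2 ⟨_, _, hselU _ hq, rfl⟩⟩
    have hfinj : Function.Injective f := by
      have htriv : ∀ (v : V) (hv : v ∉ Ee V (R.im WF)), R.ac ⟨sel v, hUP (hselU _ hv)⟩ ≠ 1 := by
        intro v hv h1
        rw [R.ac_eq_one] at h1
        apply hxF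
        have h2 : c (R.el v) (sel v) = 1 := by
          rw [c_def, mem_centralizer_iff.1 h1 _ (R.mem v)]; group
        have h3 := hselF v hv
        rw [h2, one_mul] at h3
        simpa using F.inv_mem h3
      intro q q' hqq
      by_cases hq : q.out ∈ Ee V (R.im WF) <;> by_cases hq' : q'.out ∈ Ee V (R.im WF)
      · have e1 : q = 0 := by
          rw [← QuotientAddGroup.out_eq' q]
          exact (QuotientAddGroup.eq_zero_iff _).2 hq
        have e2 : q' = 0 := by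
          rw [← QuotientAddGroup.out_eq' q']
          exact (QuotientAddGroup.eq_zero_iff _).2 hq'
        rw [e1, e2]
      · exfalso
        have h1 : f q = 1 := dif_pos hq
        have h2 : f q' = ⟨R.ac ⟨sel q'.out, hUP (hselU _ hq')⟩, R.mem_im.2 ⟨_, _, hselU _ hq', rfl⟩⟩ := dif_neg hq'
        rw [h1, h2] at hqq
        exact htriv _ hq' (congrArg Subtype.val hqq).symm
      · exfalso
        have h1 : f q' = 1 := dif_pos hq'
        have h2 : f q = ⟨R.ac ⟨sel q.out, hUP (hselU _ hq)⟩, R.mem_im.2 ⟨_, _, hselU _ hq, rfl⟩⟩ := dif_neg hq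
        rw [h1, h2] at hqq
        exact htriv _ hq (congrArg Subtype.val hqq)
      · have h1 : f q' = ⟨R.ac ⟨sel q'.out, hUP (hselU _ hq')⟩, R.mem_im.2 ⟨_, _, hselU _ hq', rfl⟩⟩ := dif_neg hq'
        have h2 : f q = ⟨R.ac ⟨sel q.out, hUP (hselU _ hq)⟩, R.mem_im.2 ⟨_, _, hselU _ hq, rfl⟩⟩ := dif_neg hq
        rw [h1, h2] at hqq
        have h3 : R.ac ⟨sel q.out, hUP (hselU _ hq)⟩ = R.ac ⟨sel q'.out, hUP (hselU _ hq')⟩ :=
          congrArg Subtype.val hqq
        by_contra hne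
        -- `v + v' ∉ E`
        have h4 : q.out + q'.out ∉ Ee V (R.im WF) := by
          intro h5
          apply hne
          have h6 : -q.out + q'.out ∈ Ee V (R.im WF) := by
            have e1 : -q.out = q.out := neg_eq_of_add_eq_zero_left (R.two _)
            rwa [e1]
          have h7 := QuotientAddGroup.eq.2 h6
          rw [← QuotientAddGroup.out_eq' q, ← QuotientAddGroup.out_eq' q']
          exact h7
        have h5 := hselF _ hq
        have h6 := hselF _ hq'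
        have e1 : c (R.el q'.out) (sel q'.out) = c (R.el q'.out) (sel q.out) := by
          rw [← el_dl R (hUP (hselU _ hq')), ← el_dl R (hUP (hselU _ hq)), h3]
        rw [e1] at h6
        have h7 : c (R.el (q.out + q'.out)) (sel q.out) ∈ F := by
          rw [← el_dl R (hUP (hselU _ hq)), map_add, R.add, el_dl, el_dl]
          have h8 := F.mul_mem h5 (F.inv_mem h6)
          have h9 : c (R.el q'.out) (sel q.out) * c (R.el q'.out) (sel q.out) = 1 := by
            rw [← el_dl R (hUP (hselU _ hq)), ← R.add, R.two, R.el_zero]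
          have e2 : c (R.el q.out) (sel q.out) * x⁻¹ * (c (R.el q'.out) (sel q.out) * x⁻¹)⁻¹ =
              c (R.el q.out) (sel q.out) * c (R.el q'.out) (sel q.out) := by
            rw [mul_inv_rev, inv_inv, inv_eq_of_mul_eq_one_right h9]
            group
          rwa [e2] at h8
        have h8 := hU.inj _ (V1_le_VV h (R.mem _)) (fun h9 => h4
          ((Ee_im h R).ge ⟨R.mem _, h9⟩)) _ (hselU _ hq) h7
        apply htriv _ hq
        rw [R.ac_eq_one]
        exact (H.F_le_V.trans (H.comm.trans (centralizer_le (V1_le_VV h)))) h8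
    have h1 := Nat.card_le_card_of_injective f hfinj
    exact h1
  · -- normalises
    rw [im_conj R p, NOne.Flat.WW_conj hpV]
    intro y hy
    obtain ⟨s, hs, hsU, rfl⟩ := R.mem_im.1 hy
    exact ac_mem_normalizer R hs (H'.QD_norm_W hD (zpowers_le.2 huF') (hU.le_Q hsU))
  · -- centralises `V / E`
    intro y hy v
    obtain ⟨s, hs, hsU, rfl⟩ := R.mem_im.1 hy
    have h1 : c (R.el v) s ∈ NOne.Flat.EE VV (MulAut.conj (p : G) • F) :=
      NOne.Flat.Hyp.EE_le H' (zpowers_le.2 huF') (hU.comm_V _ (V1_le_VV h (R.mem v)) s hsU)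
    rw [← NOne.Flat.EE_conj hpV, AB.mem_conj] at h1
    rw [mem_Ee_conj, Ee_im h R]
    have h2 : R.el ((R.ac p)⁻¹ • (R.ac ⟨s, hs⟩ • v + v)) = (p : G)⁻¹ * c (R.el v) s * p := by
      rw [← map_inv, R.smul]
      change (p : G)⁻¹ * R.el (dl (R.ac ⟨s, hs⟩) v) * ((p : G)⁻¹)⁻¹ = _
      rw [el_dl, inv_inv]
    refine ⟨R.mem _, ?_⟩
    rw [h2]
    exact h1

/-- **(SOC-N)** -/
theorem socN_of : SocN V (mb M F R) := by
  have := R.finite
  rintro _ ⟨y, rfl⟩ _ ⟨z, rfl⟩ w hw0 hwA hwB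
  obtain ⟨p, hp⟩ := R.acs (z⁻¹ * y)
  obtain ⟨X, hX1, hX2, hX3, hX4⟩ := socN_core h R p (w := z⁻¹ • w) (fun h1 => hw0 ((smul_eq_zero_iff_eq z⁻¹).1 h1))
    (mem_fx_conj.1 hwB) (by
      rw [hp, mem_fx_conj, mul_inv_rev, inv_inv, mul_smul, smul_inv_smul]
      exact mem_fx_conj.1 hwA)
  rw [hp] at hX3 hX4
  refine ⟨MulAut.conj z • X, conj_le_conj z hX1, ?_, ?_, ?_⟩
  · rw [conj_card, Ee_conj, index_smul_as]
    exact hX2
  · intro s hs
    obtain ⟨b, hb, rfl⟩ := Alpha.mem_conj'.1 hs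
    have h1 := hX3 hb
    have e : MulAut.conj (z⁻¹ * y) • R.im WF = MulAut.conj z⁻¹ • MulAut.conj y • R.im WF := by
      rw [map_mul, mul_smul]
    rw [e] at h1
    rw [← Alpha.conj_eq_iff] at h1 ⊢
    have h2 := congrArg (fun K : Subgroup Y => MulAut.conj z • K) h1
    simp only [← mul_smul, ← map_mul] at h2
    rw [← mul_smul, ← map_mul]
    have e1 : z * (b * (z⁻¹ * y)) = z * b * z⁻¹ * y := by group
    have e2 : z * (z⁻¹ * y) = y := by group
    rwa [e1, e2] at h2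
  · intro s hs v
    obtain ⟨b, hb, rfl⟩ := Alpha.mem_conj'.1 hs
    have h1 := hX4 b hb (z⁻¹ • v)
    rw [mem_Ee_conj] at h1 ⊢
    have e : (z⁻¹ * y)⁻¹ • (b • z⁻¹ • v + z⁻¹ • v) = y⁻¹ • ((z * b * z⁻¹) • v + v) := by
      rw [mul_inv_rev, inv_inv, mul_smul, smul_add, smul_inv_smul, mul_smul, mul_smul]
    rwa [e] at h1

end

end Cfsg.Agent.Omega.NO1.TH

end

section


/-!
# N1, one component: SOC (5) (lines) for the frames `Fr S P M F` (bb OMEGA 22088, helper183)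

* `soc5_of` : for every member `B` and `0 ≠ w ∈ F_B` there is `x ∉ F_B` such that for all `v ∉ E_B` some
  `s ∈ B ∩ O₂(C_Y(w))` has `[v, s] ∈ x + F_B`.
-/

set_option autoImplicit false
set_option linter.unusedSectionVars false

namespace Cfsg.Agent.Omega.NO1.TH

open Subgroup Cfsg Cfsg.Agent.ZN Cfsg.Agent.Omega.MinPar Cfsg.Agent.Omega.Frame
open Cfsg.Agent.Omega.NO1.AB
open Cfsg.Agent.Omega.NOne.Flat (Hyp NN)
open Cfsg.Agent.Omega.NO1.WRF.Irr
open Cfsg.Agent.Omega.NO1.HE (dl dl_apply dl_mul dl_eq_zero)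
open Cfsg.Agent.Omega.NOne.NearFF (c c_def)
open scoped Pointwise

universe u

section

variable {G : Type u} [Group G] [Finite G] {S : Sylow 2 G} {P M F : Subgroup G} (h : Fr S P M F)
variable {Y V : Type u} [Group Y] [AddCommGroup V] [DistribMulAction Y V] {T : Sylow 2 Y}
  {Mx : Subgroup Y} (R : Rep (S : Subgroup G) P (V1 S P) Y V T Mx)

local notation "VV" => zl (S : Subgroup G) M
local notation "WF" => NOne.Flat.WW (zl (S : Subgroup G) M) F

/-- the image of `O₂(C_G(w))` in `O₂(C_Y(w))` -/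
theorem im_o2_le [Finite Y] (w : V) :
    R.im (o2 (centralizer ({R.el w} : Set G))) ≤ o2 (MulAction.stabilizer Y w) := by
  have hst : ∀ (a : G) (ha : a ∈ P), R.ac ⟨a, ha⟩ ∈ MulAction.stabilizer Y w ↔
      a ∈ centralizer ({R.el w} : Set G) := by
    intro a ha
    rw [MulAction.mem_stabilizer_iff, mem_centralizer_singleton_iff]
    constructor
    · intro h1
      have h2 := R.smul ⟨a, ha⟩ w
      rw [h1] at h2
      have h3 : R.el w = a * R.el w * a⁻¹ := h2
      calc a * R.el w = (a * R.el w * a⁻¹) * a := by group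
        _ = R.el w * a := by rw [← h3]
    · intro h1
      apply R.inj
      rw [R.smul]
      change a * R.el w * a⁻¹ = R.el w
      rw [h1, mul_inv_cancel_right]
  refine ZN.le_o2 ?_ (R.im_isPGroup (MinSimple.VModule.o2_isPGroup _)) ?_
  · intro y hy
    obtain ⟨a, hP, ha, rfl⟩ := R.mem_im.1 hy
    exact (hst a hP).2 (ZN.o2_le _ ha)
  · intro y hy
    obtain ⟨⟨a, hP⟩, rfl⟩ := R.acs y
    exact ac_mem_normalizer R hP (ZN.le_normalizer_o2 _ ((hst a hP).1 hy))

include h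

/-- the core of `soc5_of` -/
theorem soc5_core {w : V} (hw0 : w ≠ 0) (hwB : w ∈ fx V (R.im WF)) :
    ∃ x : V, x ∉ fx V (R.im WF) ∧ ∀ v : V, v ∉ Ee V (R.im WF) → ∃ s ∈ R.im WF,
      s ∈ o2 (MulAction.stabilizer Y w) ∧ s • v + v + x ∈ fx V (R.im WF) := by
  have := R.finite
  have := R.finiteY
  have H := h.hyp
  have hWP := W_le_P h
  have hu1 : R.el w ≠ 1 := fun h1 => hw0 (R.el_eq_one.1 h1)
  have huV : R.el w ∈ VV := V1_le_VV h (R.mem w)
  have huF : R.el w ∈ F := by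
    rw [fx_im h R] at hwB
    exact hwB.2
  obtain ⟨U, hU, hUQ, -, -⟩ := H.exists_qu_elem huF hu1 (Alpha.hc_elem h _ huV hu1)
  obtain ⟨e, he, heF⟩ : ∃ e ∈ NOne.Flat.EE VV (zpowers (R.el w)), e ∉ F := by
    by_contra hcon
    push Not at hcon
    have h1 := hU.two_le
    have h2 : F.relIndex (NOne.Flat.EE VV (zpowers (R.el w))) = 1 := relIndex_eq_one.2 hcon
    omega
  have heV : e ∈ VV := he.1
  have hesq : e * e = 1 := by
    have := H.sq e heV
    rwa [pow_two] at this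
  obtain ⟨v₀, hv₀, hv₀E⟩ := exists_w1 h
  obtain ⟨m₀, rfl⟩ := R.surj v₀ hv₀
  obtain ⟨s₀, hs₀, h₀⟩ := hU.surj (R.el m₀) (V1_le_VV h hv₀) hv₀E e (mem_sup_left he)
  have hs₀P : s₀ ∈ P := hWP (hU.le_W hs₀)
  refine ⟨dl (R.ac ⟨s₀, hs₀P⟩) m₀, ?_, ?_⟩
  · rw [fx_im h R]
    intro h1
    have h2 : R.el (dl (R.ac ⟨s₀, hs₀P⟩) m₀) ∈ F := h1.2
    rw [el_dl] at h2
    apply heF
    have h3 := F.mul_mem (F.inv_mem h2) h₀
    rw [inv_mul_cancel_left] at h3
    simpa using F.inv_mem h3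
  · intro v hv
    obtain ⟨s, hs, h1⟩ := hU.surj (R.el v) (V1_le_VV h (R.mem v))
      (fun h2 => hv ((Ee_im h R).ge ⟨R.mem v, h2⟩)) e (mem_sup_left he)
    have hsP : s ∈ P := hWP (hU.le_W hs)
    refine ⟨R.ac ⟨s, hsP⟩, R.mem_im.2 ⟨s, hsP, hU.le_W hs, rfl⟩,
      im_o2_le R w (R.mem_im.2 ⟨s, hsP, hUQ hs, rfl⟩), ?_⟩
    change dl (R.ac ⟨s, hsP⟩) v + dl (R.ac ⟨s₀, hs₀P⟩) m₀ ∈ fx V (R.im WF)
    rw [fx_im h R]
    refine ⟨R.mem _, ?_⟩
    change R.el (dl (R.ac ⟨s, hsP⟩) v + dl (R.ac ⟨s₀, hs₀P⟩) m₀) ∈ F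
    rw [R.add, el_dl, el_dl]
    -- `c v s = f e`, `c v₀ s₀ = f₀ e`
    have hc0 : c (R.el m₀) s₀ ∈ VV := by
      have h2 := R.mem (dl (R.ac ⟨s₀, hs₀P⟩) m₀)
      rw [el_dl] at h2
      exact V1_le_VV h h2
    have h2 := F.mul_mem h1 h₀
    have hcomm : e * c (R.el m₀) s₀ = c (R.el m₀) s₀ * e := mem_centralizer_iff.1 (H.comm hc0) e heV
    have hei : e⁻¹ = e := inv_eq_of_mul_eq_one_right hesq
    have e1 : c (R.el v) s * e⁻¹ * (c (R.el m₀) s₀ * e⁻¹) = c (R.el v) s * c (R.el m₀) s₀ := by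
      rw [hei, mul_assoc, ← mul_assoc e, hcomm, mul_assoc (c (R.el m₀) s₀), hesq, mul_one]
    rwa [e1] at h2

/-- **SOC (5)** -/
theorem soc5_of : ∀ B ∈ mb M F R, ∀ w : V, w ≠ 0 → w ∈ fx V B → ∃ x : V, x ∉ fx V B ∧
    ∀ v : V, v ∉ Ee V B → ∃ s ∈ B, s ∈ o2 (MulAction.stabilizer Y w) ∧ s • v + v + x ∈ fx V B := by
  rintro _ ⟨y, rfl⟩ w hw0 hwB
  obtain ⟨x, hx, hall⟩ := soc5_core h R (w := y⁻¹ • w) (fun h1 => hw0 ((smul_eq_zero_iff_eq y⁻¹).1 h1))
    (mem_fx_conj.1 hwB)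
  refine ⟨y • x, fun h1 => hx ?_, fun v hv => ?_⟩
  · rw [mem_fx_conj, inv_smul_smul] at h1
    exact h1
  · obtain ⟨s, hs, hso, h1⟩ := hall (y⁻¹ • v) (fun h2 => hv (mem_Ee_conj.2 h2))
    refine ⟨y * s * y⁻¹, AB.conj_mem_conj hs, ?_, ?_⟩
    · have h2 : MulAut.conj y • o2 (MulAction.stabilizer Y (y⁻¹ • w)) = o2 (MulAction.stabilizer Y w) := by
        rw [NOne.Flat.o2_conj]
        congr 1
        ext z
        rw [AB.mem_conj, MulAction.mem_stabilizer_iff, MulAction.mem_stabilizer_iff, mul_smul, mul_smul,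
          smul_inv_smul]
        constructor
        · intro h3
          exact smul_left_cancel _ h3
        · intro h3
          rw [h3]
      rw [← h2]
      exact AB.conj_mem_conj hso
    · rw [mem_fx_conj]
      have e : y⁻¹ • ((y * s * y⁻¹) • v + v + y • x) = s • y⁻¹ • v + y⁻¹ • v + x := by
        rw [smul_add, smul_add, inv_smul_smul, mul_smul, mul_smul, inv_smul_smul]
      rw [e]
      exact h1

end

end Cfsg.Agent.Omega.NO1.TH

end

section


/-!
# CARD N1-ONE from the module theorem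

* `world_of'` : the world of a frame (`world_of` + `socN_of`);
* `frOne_of : NNOne → K1All → ModStmt → Comp.FrOne`.
-/

set_option autoImplicit false
set_option linter.unusedSectionVars false

namespace Cfsg.Agent.Omega.NO1.TH

open Subgroup Cfsg Cfsg.Agent.ZN Cfsg.Agent.Omega.MinPar Cfsg.Agent.Omega.Frame
open Cfsg.Agent.Omega.NO1.AB
open Cfsg.Agent.Omega.NO1.WRF.Irr
open scoped Pointwise

universe u

section

variable {G : Type u} [Group G] [Finite G] {S : Sylow 2 G} {P M F : Subgroup G} (h : Fr S P M F)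
variable {Y V : Type u} [Group Y] [AddCommGroup V] [DistribMulAction Y V] {T : Sylow 2 Y}
  {Mx : Subgroup Y} (R : Rep (S : Subgroup G) P (V1 S P) Y V T Mx)

include h

/-- **The world of a frame.** -/
theorem world_of' [Finite Y] (hNN : Field.NNOne.{u}) (hK : Field.K1All.{u}) :
    World V (mb M F R) T Mx
      ((V1 S P ⊓ NOne.Flat.EE (zl (S : Subgroup G) M) F).relIndex (V1 S P)) := by
  have := R.finite
  refine world_of h R hNN hK fun A hA B hB w hw0 hwA hwB => ?_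
  obtain ⟨X, hX, hc, hn, ht⟩ := socN_of h R A hA B hB w hw0 hwA hwB
  refine ⟨X, hX, ?_, hn, ht⟩
  obtain ⟨y, rfl⟩ := hA
  rwa [Ee_conj, index_smul_as, index_im h R] at hc

end

/-- **CARD N1-ONE from the module theorem.** -/
theorem frOne_of (hNN : Field.NNOne.{u}) (hK : Field.K1All.{u}) (hM : ModStmt.{u}) : Comp.FrOne.{u} := by
  intro G _ _ S P M₀ F h hp h4 Y V _ _ _ _ _ T Mx R K₁ K _ _ _ _ hone
  exfalso
  apply hp
  have hW := world_of' h R hNN hK
  have h4' : 4 ≤ (V1 S P ⊓ NOne.Flat.EE (zl (S : Subgroup G) M₀) F).relIndex (V1 S P) := by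
    rw [hyp_index_V1 h.hyp h.cfg h.VP_le h.W_le_S h.not_le, inf_relIndex_left]
    exact h4
  exact plusAt_of h R (hM Y V _ T Mx _ hW h4' (Comp.RepOne.irred h.fdat R)
    (fun L L' hL hL' => (hone.one L hL).trans (hone.one L' hL').symm) (soc5_of h R))

end Cfsg.Agent.Omega.NO1.TH

end

end
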