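import Cfsg.Agent.Mrg.Omega.NO1.TH.Fin
import Cfsg.Agent.Mrg.Omega.NO1.TH.Fact
import Cfsg.Agent.Mrg.Omega.NO1.AB.Beta
import Cfsg.Agent.Mrg.Omega.NO1.TH.NoOvV
import Cfsg.Agent.Mrg.Omega.NO1.TH.Empty
import Cfsg.Agent.ZN.Block
import Cfsg.Agent.Lib.NormalAbelian

-- merged: Cfsg.Agent.Mrg.Omega.NO1.TH.Chain
section

section


/-!
# N1, one component: the induction (bb OMEGA 20935, 21423)

`Out` is an arbitrary conclusion for a world; the sockets:
* `SockE` : no bad subgroup;
* `SockA` : an amalgam with `W ≰ E_B` for a member `B ≤ R` : a world for `H` and descent of `Out`;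
* `SockOne`, `SockNat`, `SockSym` : `W ≤ E_B` for all members `B ≤ R`; `W / D` natural with `k = 1`, natural with
  `k ≥ 2`, a sum of even-subset modules of `S_{2^m+1}`.
`out_of_socks` : `Out` for all worlds.
-/

set_option autoImplicit false
set_option linter.unusedSectionVars false

namespace Cfsg.Agent.Omega.NO1.TH

open Subgroup Cfsg.Agent.Omega.NO1.AB Cfsg.Agent.Omega.FFBr
open scoped Pointwise

universe u

/-- the type of conclusions -/
abbrev OutT : Type (u + 1) :=
  ∀ (Y V : Type u) [Group Y] [AddCommGroup V] [DistribMulAction Y V], Set (Subgroup Y) → Sylow 2 Y → Subgroup Y →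
    Prop

variable (Out : OutT.{u})

/-- no bad subgroup -/
def SockE : Prop :=
  ∀ (Y V : Type u) [Group Y] [Finite Y] [AddCommGroup V] [Finite V] [DistribMulAction Y V] (U : Set (Subgroup Y))
    (T : Sylow 2 Y) (M : Subgroup Y) (a : ℕ), World V U T M a → (∃ B, B ∈ U) →
      (∀ X : Subgroup Y, ¬ TH.Bad U M X) → Out Y V U T M

/-- `W ≰ E_B` -/
def SockA : Prop :=
  ∀ (Y V : Type u) [Group Y] [Finite Y] [AddCommGroup V] [Finite V] [DistribMulAction Y V] (U : Set (Subgroup Y))
    (T : Sylow 2 Y) (M : Subgroup Y) (a : ℕ), World V U T M a → ∀ (H R : Subgroup Y) (t : Y), Amal U T M H R t →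
      ∀ B ∈ U, B ≤ R → ¬ WW V H R ≤ Ee V B →
        ∃ (UH : Set (Subgroup H)) (P : Sylow 2 H), World V UH P (M.subgroupOf H) a ∧ (∃ B, B ∈ UH) ∧
          (Out H V UH P (M.subgroupOf H) → Out Y V U T M)

/-- natural, `k = 1` -/
def SockOne : Prop :=
  ∀ (Y V : Type u) [Group Y] [Finite Y] [AddCommGroup V] [Finite V] [DistribMulAction Y V] (U : Set (Subgroup Y))
    (T : Sylow 2 Y) (M : Subgroup Y) (a : ℕ), World V U T M a → ∀ (H R : Subgroup Y) (t : Y), Amal U T M H R t →
      WE V U H R → ∀ (P : Sylow 2 (XH V H R)) (M₁ : Subgroup (XH V H R)), Abs (XH V H R) (Wm V H R) P M₁ →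
        (∀ x : XH V H R, x ∈ P ↔ ∃ r : H, (r : Y) ∈ R ∧ pr V H R r = x) → ANoOver (XH V H R) (Wm V H R) →
          ∀ (F : Type) [Field F] [Finite F] [CharP F 2], AbsNat F (P : Subgroup (XH V H R)) (Wm V H R) 1 →
            Out Y V U T M

/-- natural, `k ≥ 2` -/
def SockNat : Prop :=
  ∀ (Y V : Type u) [Group Y] [Finite Y] [AddCommGroup V] [Finite V] [DistribMulAction Y V] (U : Set (Subgroup Y))
    (T : Sylow 2 Y) (M : Subgroup Y) (a : ℕ), World V U T M a → ∀ (H R : Subgroup Y) (t : Y), Amal U T M H R t →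
      WE V U H R → ∀ (P : Sylow 2 (XH V H R)) (M₁ : Subgroup (XH V H R)), Abs (XH V H R) (Wm V H R) P M₁ →
        (∀ x : XH V H R, x ∈ P ↔ ∃ r : H, (r : Y) ∈ R ∧ pr V H R r = x) → ANoOver (XH V H R) (Wm V H R) →
          ∀ (F : Type) [Field F] [Finite F] [CharP F 2] (k : ℕ), 2 ≤ k →
            AbsNat F (P : Subgroup (XH V H R)) (Wm V H R) k → Out Y V U T M

/-- symmetric groups -/
def SockSym : Prop :=
  ∀ (Y V : Type u) [Group Y] [Finite Y] [AddCommGroup V] [Finite V] [DistribMulAction Y V] (U : Set (Subgroup Y))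
    (T : Sylow 2 Y) (M : Subgroup Y) (a : ℕ), World V U T M a → ∀ (H R : Subgroup Y) (t : Y), Amal U T M H R t →
      WE V U H R → ∀ (P : Sylow 2 (XH V H R)) (M₁ : Subgroup (XH V H R)), Abs (XH V H R) (Wm V H R) P M₁ →
        (∀ x : XH V H R, x ∈ P ↔ ∃ r : H, (r : Y) ∈ R ∧ pr V H R r = x) → ANoOver (XH V H R) (Wm V H R) →
          ∀ (k m : ℕ), 0 < k → 2 ≤ m → AbsSym (P : Subgroup (XH V H R)) (Wm V H R) k m → Out Y V U T M

variable {Out}

/-- **The induction.** -/
theorem out_of_socks (hE : SockE Out) (hA : SockA Out) (h1 : SockOne Out) (hN : SockNat Out) (hS : SockSym Out) :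
    ∀ (n : ℕ) (Y V : Type u) [Group Y] [Finite Y] [AddCommGroup V] [Finite V] [DistribMulAction Y V]
      (U : Set (Subgroup Y)) (T : Sylow 2 Y) (M : Subgroup Y) (a : ℕ), Nat.card Y = n → World V U T M a →
        (∃ B, B ∈ U) → Out Y V U T M := by
  intro n
  induction n using Nat.strong_induction_on with
  | _ n ih =>
    intro Y V _ _ _ _ _ U T M a hn w hU
    by_cases hb : ∃ X : Subgroup Y, TH.Bad U M X
    swap
    · exact hE Y V U T M a w hU fun X hX => hb ⟨X, hX⟩
    obtain ⟨H, R, t, am⟩ := w.toAmb.exists_amal hb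
    by_cases hW : WE V U H R
    swap
    · unfold WE at hW
      push Not at hW
      obtain ⟨B, hB, hBR, hBW⟩ := hW
      obtain ⟨UH, P, wH, hUH, hout⟩ := hA Y V U T M a w H R t am B hB hBR hBW
      apply hout
      refine ih (Nat.card H) ?_ H V UH P (M.subgroupOf H) a rfl wH hUH
      rw [← hn, ← Subgroup.card_top (G := Y)]
      exact Amb.card_lt' (lt_top_iff_ne_top.2 am.bad.ne)
    obtain ⟨P, M₁, hAbs, hP, hno, hC⟩ := am.ff' w.toAmb hW
    rcases hC with ⟨F, _, _, _, k, hk, ⟨N⟩⟩ | ⟨k, m, hk, hm, ⟨N⟩⟩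
    · rcases Nat.lt_or_ge 1 k with h2 | h2
      · exact hN Y V U T M a w H R t am hW P M₁ hAbs hP hno F k h2 N
      · have : k = 1 := by omega
        subst this
        exact h1 Y V U T M a w H R t am hW P M₁ hAbs hP hno F N
    · exact hS Y V U T M a w H R t am hW P M₁ hAbs hP hno k m hk hm N

end Cfsg.Agent.Omega.NO1.TH

end

section


/-!
# N1, the regime `HH = ∅` of CARD N1-ONE (bb OMEGA 20790, helper620): (0), (1) and (H1)

`HH = ∅` : no `Bad U M X`, i.e. every proper subgroup of `Y` which contains a member lies in a point.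
(0) a 2-group with a member lies in one point; (1) `B` a member in the point `M'`, `X ≰ M'` ⟹ `⟨X, B⟩ = Y`,
`C_V(X) ∩ F_B = 0`; **(H1)** `|V : C_V(t)| ≥ |F|` for every 2-element `t ≠ 1`.
-/

set_option autoImplicit false
set_option linter.unusedSectionVars false

namespace Cfsg.Agent.Omega.NO1.TH

open Subgroup Cfsg.Agent.Omega.NO1.AB
open scoped Pointwise

universe u

variable {Y : Type u} [Group Y] {V : Type u} [AddCommGroup V] [DistribMulAction Y V]

namespace Amb

variable {U : Set (Subgroup Y)} {T : Sylow 2 Y} {M : Subgroup Y} (h : Amb V U T M)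
include h

/-- `C_V(Y) = 0` -/
theorem fx_top (hU : ∃ B, B ∈ U) : fx V (⊤ : Subgroup Y) = ⊥ := by
  obtain ⟨B, hB⟩ := hU
  exact h.fx_top_of hB

/-- a member in `T` -/
theorem exists_member_le [Finite Y] (hU : ∃ B, B ∈ U) : ∃ B ∈ U, B ≤ (T : Subgroup Y) := by
  obtain ⟨B, hB⟩ := hU
  obtain ⟨k, _, hk⟩ := sylow_conj T (K := ⊤) le_top (h.cls.mem B hB).isPGroup le_top
  refine ⟨MulAut.conj k⁻¹ • B, h.cls.conj B hB _, fun r hr => ?_⟩
  rw [mem_conj] at hr
  have := hk _ hr
  have e : k⁻¹ * (k⁻¹⁻¹ * r * k⁻¹) * k = r := by group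
  rwa [e] at this

/-- every member lies in a Sylow 2-subgroup, so in a point -/
theorem exists_point [Finite Y] {R : Subgroup Y} (hR : IsPGroup 2 R) :
    ∃ k : Y, R ≤ MulAut.conj k • (T : Subgroup Y) := by
  obtain ⟨k, _, hk⟩ := sylow_conj T (K := ⊤) le_top hR le_top
  refine ⟨k, fun r hr => ?_⟩
  rw [mem_conj]
  exact hk _ hr

/-- **(H1), first half**: a 2-element `t ≠ 1` lies outside some point. -/
theorem exists_not_mem [Finite Y] {t : Y} (ht : IsPGroup 2 (zpowers t)) (h1 : t ≠ 1) :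
    ∃ y : Y, t ∉ MulAut.conj y • M := by
  have : Fact (Nat.Prime 2) := ⟨Nat.prime_two⟩
  by_contra hc
  push Not at hc
  set N := M.normalCore with hN
  have hNn : N.Normal := M.normalCore_normal
  have h2 := frattini_inf T N
  have h3 : normalizer (((T : Subgroup Y) ⊓ N : Subgroup Y) : Set Y) = ⊤ := by
    by_contra h4
    have hle : (T : Subgroup Y) ≤ normalizer (((T : Subgroup Y) ⊓ N : Subgroup Y) : Set Y) := by
      intro r hr
      rw [mem_normalizer_iff]
      intro y
      constructor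
      · rintro ⟨hy1, hy2⟩
        exact ⟨(T : Subgroup Y).mul_mem ((T : Subgroup Y).mul_mem hr hy1) ((T : Subgroup Y).inv_mem hr),
          hNn.conj_mem y hy2 r⟩
      · rintro ⟨hy1, hy2⟩
        refine ⟨?_, ?_⟩
        · have := (T : Subgroup Y).mul_mem ((T : Subgroup Y).mul_mem ((T : Subgroup Y).inv_mem hr) hy1) hr
          have e : r⁻¹ * (r * y * r⁻¹) * r = y := by group
          rwa [e] at this
        · have := hNn.conj_mem _ hy2 r⁻¹
          have e : r⁻¹ * (r * y * r⁻¹) * r⁻¹⁻¹ = y := by group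
          rwa [e] at this
    have h5 := h.max _ hle h4
    apply h.Mne
    rw [eq_top_iff, ← h2]
    exact sup_le h5 M.normalCore_le
  have h4 : ((T : Subgroup Y) ⊓ N).Normal := normalizer_eq_top_iff.1 h3
  have h5 := h.core _ h4 (T.2.to_le inf_le_left)
  have htN : t ∈ N := by
    intro g
    have := hc g⁻¹
    rw [mem_conj] at this
    simpa using this
  obtain ⟨k, hk⟩ := h.exists_point ht
  have h6 : k⁻¹ * t * k ∈ (T : Subgroup Y) := by
    have := hk (mem_zpowers t)
    rwa [mem_conj] at this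
  have h7 : k⁻¹ * t * k ∈ ((T : Subgroup Y) ⊓ N : Subgroup Y) :=
    ⟨h6, by simpa using hNn.conj_mem t htN k⁻¹⟩
  rw [h5, mem_bot] at h7
  apply h1
  have e : t = k * (k⁻¹ * t * k) * k⁻¹ := by group
  rw [e, h7, mul_one, mul_inv_cancel]

section empty

variable (he : ∀ X : Subgroup Y, ¬ Bad U M X)
include he

/-- `HH = ∅`: a proper subgroup with a member lies in a point -/
theorem le_point {X B : Subgroup Y} (hX : X ≠ ⊤) (hB : B ∈ U) (hBX : B ≤ X) :
    ∃ y : Y, X ≤ MulAut.conj y • M := by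
  by_contra hc
  push Not at hc
  exact he X ⟨hX, ⟨B, hB, hBX⟩, hc⟩

/-- **(0)** -/
theorem one_point [Finite Y] {R : Subgroup Y} (hR : IsPGroup 2 R) (hm : ∃ B ∈ U, B ≤ R) {x y : Y}
    (hx : R ≤ MulAut.conj x • M) (hy : R ≤ MulAut.conj y • M) : MulAut.conj x • M = MulAut.conj y • M :=
  h.one_of_max (n := 0) (fun X hX => absurd hX (he X)) _ R rfl hR hm (Nat.zero_le _) x y hx hy

/-- **(0)** for a member -/
theorem member_point [Finite Y] {B : Subgroup Y} (hB : B ∈ U) {x y : Y}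
    (hx : B ≤ MulAut.conj x • M) (hy : B ≤ MulAut.conj y • M) : MulAut.conj x • M = MulAut.conj y • M :=
  h.one_point he (h.cls.mem B hB).isPGroup ⟨B, hB, le_rfl⟩ hx hy

/-- a proper subgroup with a member lies in the point of the member -/
theorem le_of_member [Finite Y] {X B : Subgroup Y} {y : Y} (hX : X ≠ ⊤) (hB : B ∈ U) (hBX : B ≤ X)
    (hy : B ≤ MulAut.conj y • M) : X ≤ MulAut.conj y • M := by
  obtain ⟨z, hz⟩ := h.le_point he hX hB hBX
  rw [h.member_point he hB hy (hBX.trans hz)]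
  exact hz

/-- **(1)** -/
theorem gen_top [Finite Y] {X B : Subgroup Y} {y : Y} (hB : B ∈ U) (hy : B ≤ MulAut.conj y • M)
    (hX : ¬ X ≤ MulAut.conj y • M) : X ⊔ B = ⊤ := by
  by_contra hne
  exact hX (le_sup_left.trans (h.le_of_member he hne hB le_sup_right hy))

/-- **(1)**: `C_V(X) ∩ F_B = 0` -/
theorem fx_inf_bot [Finite Y] {X B : Subgroup Y} {y : Y} (hB : B ∈ U) (hy : B ≤ MulAut.conj y • M)
    (hX : ¬ X ≤ MulAut.conj y • M) : fx V X ⊓ fx V B = ⊥ := by
  rw [eq_bot_iff, ← h.fx_top ⟨B, hB⟩]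
  rintro v ⟨h1, h2⟩
  have h3 : X ⊔ B ≤ MulAction.stabilizer Y v := sup_le (fun x hx => h1 x hx) fun b hb => h2 b hb
  rw [h.gen_top he hB hy hX] at h3
  exact fun y _ => h3 (mem_top y)

/-- **(1)**: `0 ≠ x ∈ F_B` ⟹ `C_Y(x) ≤ M_B` -/
theorem stab_le_point [Finite Y] {B : Subgroup Y} {y : Y} (hB : B ∈ U) (hy : B ≤ MulAut.conj y • M) {x : V}
    (hx : x ∈ fx V B) (hx0 : x ≠ 0) : MulAction.stabilizer Y x ≤ MulAut.conj y • M := by
  by_contra hX
  have h1 := h.fx_inf_bot he hB hy hX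
  apply hx0
  rw [← AddSubgroup.mem_bot, ← h1]
  exact ⟨fun k hk => hk, hx⟩

/-- `F_B ∩ F_C = 0` for members in different points -/
theorem fx_inf_fx [Finite Y] {B C : Subgroup Y} {x y : Y} (hB : B ∈ U) (hC : C ∈ U)
    (hx : B ≤ MulAut.conj x • M) (hy : C ≤ MulAut.conj y • M) (hne : MulAut.conj x • M ≠ MulAut.conj y • M) :
    fx V C ⊓ fx V B = ⊥ :=
  h.fx_inf_bot he hB hx fun h1 => hne (h.member_point he hC h1 hy)

/-- **(H1)**: `|V : C_V(t)| ≥ |F_B|` for every 2-element `t ≠ 1` -/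
theorem hOne [Finite Y] [Finite V] {t : Y} (ht : IsPGroup 2 (zpowers t)) (h1 : t ≠ 1) {B : Subgroup Y}
    (hB : B ∈ U) : Nat.card (fx V B) ≤ (fx V (zpowers t)).index := by
  obtain ⟨y, hy⟩ := h.exists_not_mem ht h1
  obtain ⟨C, hC, hCT⟩ := h.exists_member_le ⟨B, hB⟩
  have hC' := h.cls.conj C hC y
  have hle : MulAut.conj y • C ≤ MulAut.conj y • M := conj_le_conj y (hCT.trans h.TM)
  have h2 := h.fx_inf_bot he hC' hle (X := zpowers t) fun h3 => hy (h3 (mem_zpowers t))
  rw [h.cls.card_fx hB hC']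
  -- `F → V / C_V(t)` is injective
  rw [AddSubgroup.index]
  apply Nat.card_le_card_of_injective
    (fun x : fx V (MulAut.conj y • C) => (QuotientAddGroup.mk (x : V) : V ⧸ fx V (zpowers t)))
  rintro ⟨a, ha⟩ ⟨b, hb⟩ hab
  rw [QuotientAddGroup.eq] at hab
  have h4 : -a + b ∈ fx V (zpowers t) ⊓ fx V (MulAut.conj y • C) :=
    ⟨hab, (fx V _).add_mem ((fx V _).neg_mem ha) hb⟩
  rw [h2, AddSubgroup.mem_bot, neg_add_eq_zero] at h4
  exact Subtype.ext h4

end empty

end Amb

end Cfsg.Agent.Omega.NO1.TH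

end

end

-- merged: Cfsg.Agent.Mrg.Omega.NO1.TH.PlusFin
section

section


/-!
# N1, one component: no `Bad` subgroup and (+) give `Fin` (bb OMEGA 21423 (D3)(E))

`World.fin_of_disj` : `L = Y`, `Q = 1`: the second alternative (ALPHA+) of `Fin`.
-/

set_option autoImplicit false
set_option linter.unusedSectionVars false

namespace Cfsg.Agent.Omega.NO1.TH

open Subgroup Cfsg.Agent.Omega.NO1.AB
open scoped Pointwise

universe u

variable {Y : Type u} [Group Y] {V : Type u} [AddCommGroup V] [DistribMulAction Y V] {U : Set (Subgroup Y)}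
  {T : Sylow 2 Y} {M : Subgroup Y} {q : ℕ}

/-- `N_Y(M) = M` -/
theorem Amb.mem_of_conj_eq [Finite Y] (h : Amb V U T M) (hU : ∃ B, B ∈ U) {x : Y}
    (hx : MulAut.conj x • M = M) : x ∈ M := by
  obtain ⟨B, hB, hBT⟩ := h.exists_member_le hU
  have h3 : MulAut.conj x • (T : Subgroup Y) ≤ M := (conj_le_conj _ h.TM).trans hx.le
  obtain ⟨k, hk, hkT⟩ := sylow_conj T h.TM (conj_isPGroup (y := x) T.isPGroup') h3
  have h4 : MulAut.conj (k⁻¹ * x) • (T : Subgroup Y) = T := by
    refine eq_of_le_of_card_ge ?_ (by rw [conj_card])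
    rw [← conj_smul_smul]
    intro y hy
    rw [mem_conj] at hy
    have := hkT _ hy
    have e : k⁻¹ * (k⁻¹⁻¹ * y * k⁻¹) * k = y := by group
    rwa [e] at this
  have h5 : k⁻¹ * x ∈ normalizer ((T : Subgroup Y) : Set Y) := by
    rw [mem_normalizer_iff]
    intro y
    constructor
    · intro hy
      have h6 := conj_mem_conj (g := k⁻¹ * x) hy
      rwa [h4] at h6
    · intro hy
      rw [← h4, mem_conj] at hy
      have e : (k⁻¹ * x)⁻¹ * (k⁻¹ * x * y * (k⁻¹ * x)⁻¹) * (k⁻¹ * x) = y := by group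
      rwa [e] at hy
  have h6 : normalizer ((T : Subgroup Y) : Set Y) ≤ M := by
    refine h.max _ le_normalizer fun h7 => ?_
    have h8 : (T : Subgroup Y).Normal := normalizer_eq_top_iff.1 h7
    have h9 := h.core T h8 T.isPGroup'
    rw [h9, le_bot_iff] at hBT
    exact Mem.ne_bot (h.cls.mem B hB) hBT
  have h7 := mul_mem hk (h6 h5)
  rwa [mul_inv_cancel_left] at h7

/-- a Sylow 2-subgroup of a proper subgroup: the point -/
theorem Amb.le_point_of (h : Amb V U T M) {X : Subgroup Y} (hX : X ≠ ⊤) {x : Y}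
    (hTX : MulAut.conj x • (T : Subgroup Y) ≤ X) : X ≤ MulAut.conj x • M := by
  have h1 : (T : Subgroup Y) ≤ MulAut.conj x⁻¹ • X := by
    rwa [conj_le_iff] at hTX
  have h2 := h.max _ h1 fun h3 => hX (conj_eq_top h3)
  rw [conj_le_iff, inv_inv] at h2
  exact h2

/-- `C_B(v) ≠ 1` for `v ∈ E_B` -/
theorem World.exists_fix [Finite Y] (w : World V U T M q) {B : Subgroup Y} (hB : B ∈ U) {v : V}
    (hv : v ∈ Ee V B) : ∃ s ∈ B, s ≠ 1 ∧ s • v = v := by
  by_cases hvF : v ∈ fx V B
  · have h1 := Mem.ne_bot (w.cls.mem B hB)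
    obtain ⟨s, hs, hs1⟩ := (B.ne_bot_iff_exists_ne_one).1 h1 |> fun ⟨s, hs⟩ => (⟨s, s.2, fun h => hs (Subtype.ext h)⟩ : ∃ s : Y, s ∈ B ∧ s ≠ 1)
    exact ⟨s, hs, hs1, hvF s hs⟩
  · obtain ⟨A₁, hA₁⟩ := w.line B hB v hv hvF
    have h1 : 1 < Nat.card A₁ := by
      have h2 := hA₁.card
      rw [w.ind B hB] at h2
      have := w.two_le
      omega
    have : Nontrivial A₁ := Finite.one_lt_card_iff_nontrivial.1 h1
    obtain ⟨s, hs⟩ := exists_ne (1 : A₁)
    exact ⟨s, hA₁.le s.2, fun h => hs (Subtype.ext h), hA₁.fix s s.2⟩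

/-- `Loc0` for `Y` itself, when there is no `Bad` subgroup -/
theorem World.loc0 [Finite Y] (w : World V U T M q) (he : ∀ X : Subgroup Y, ¬ Bad U M X) {A : Subgroup Y}
    (hA : A ∈ U) (hAT : A ≤ (T : Subgroup Y)) : Loc0 A (Ee V A) (fx V A) ⊥ M T where
  two := w.cls.two
  mem := w.cls.mem A hA
  mu := w.cls.mu A hA
  Qn := inferInstance
  Q2 := IsPGroup.of_bot
  core := fun N hN hN2 => (w.core N hN hN2).le
  AR := hAT
  R_ne := fun h => w.Mne (top_le_iff.1 (h ▸ w.TM))
  ne := w.Mne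
  uniq := fun H hAH hH => by
    have h1 : A ≤ MulAut.conj (1 : Y) • M := by
      rw [map_one, one_smul]; exact hAT.trans w.TM
    have h2 := w.toAmb.le_of_member he hH hA hAH h1
    rwa [map_one, one_smul] at h2
  gen := by
    obtain ⟨y, hy⟩ : ∃ y : Y, y ∉ M := by
      by_contra hcon
      push Not at hcon
      exact w.Mne (eq_top_iff.2 fun y _ => hcon y)
    have h1 : A ≤ MulAut.conj (1 : Y) • M := by
      rw [map_one, one_smul]; exact hAT.trans w.TM
    refine ⟨y, ?_⟩
    rw [sup_comm]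
    apply w.toAmb.gen_top he hA h1
    intro h2
    apply hy
    apply w.toAmb.mem_of_conj_eq ⟨A, hA⟩
    have h3 := w.toAmb.member_point he (w.cls.conj A hA y) (x := y) (y := 1)
      (conj_le_conj y (hAT.trans w.TM)) h2
    rw [h3, map_one, one_smul]

/-- **No `Bad` subgroup and (+) give `Fin`.** -/
theorem World.fin_of_disj [Finite Y] [Finite V] (w : World V U T M q) (hU : ∃ B, B ∈ U)
    (he : ∀ X : Subgroup Y, ¬ Bad U M X) (hd : Disj U M) : Fin V U T M := by
  obtain ⟨A, hA, hAT⟩ := w.toAmb.exists_member_le hU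
  have h0 := w.loc0 he hA hAT
  let e : Y ≃* (⊤ : Subgroup Y) := topEquiv.symm
  have he' : ∀ (l : Y) (v : V), e l • v = l • v := fun l v => rfl
  have hmap : ∀ B : Subgroup Y, B.map e.toMonoidHom = B.subgroupOf ⊤ := by
    intro B
    ext x
    constructor
    · rintro ⟨b, hb, rfl⟩
      exact hb
    · intro hx
      exact ⟨x, hx, Subtype.ext rfl⟩
  have hR : ((T.subtype (le_top : (T : Subgroup Y) ≤ ⊤) : Sylow 2 (⊤ : Subgroup Y)) : Subgroup (⊤ : Subgroup Y)) =
      (T : Subgroup Y).map e.toMonoidHom := by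
    rw [hmap]; rfl
  have h1 := Loc0.congr e he' h0 hR
  rw [hmap, Subgroup.map_bot, hmap] at h1
  refine ⟨⊤, A, ⊥, T.subtype le_top, hA, le_top, hAT, fun h => w.Mne (top_le_iff.1 h), ?_, h1,
    w.toAmb.fx_top hU, Or.inr ⟨rfl, ?_⟩⟩
  · rintro _ ⟨x, hx, rfl⟩
    exact hx
  · intro x v hv hv0 hfix
    apply w.toAmb.mem_of_conj_eq hU
    obtain ⟨s, hs, hs1, hsv⟩ := w.exists_fix hA hv
    have hX : MulAction.stabilizer Y v ≠ ⊤ := by
      intro h2
      apply hv0
      have h3 : v ∈ fx V (⊤ : Subgroup Y) := fun y hy => by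
        rw [← h2] at hy; exact hy
      rw [w.toAmb.fx_top hU] at h3
      exact h3
    have h2 : MulAut.conj (x : Y) • (T : Subgroup Y) ≤ MulAction.stabilizer Y v := by
      intro y hy
      rw [mem_conj] at hy
      have h3 := hfix ⟨(x : Y)⁻¹ * y * x, mem_top _⟩ hy
      rw [MulAction.mem_stabilizer_iff]
      have e1 : ((x * ⟨(x : Y)⁻¹ * y * x, mem_top _⟩ * x⁻¹ : (⊤ : Subgroup Y)) : Y) = y := by
        change (x : Y) * ((x : Y)⁻¹ * y * x) * (x : Y)⁻¹ = y
        group
      change ((x * ⟨(x : Y)⁻¹ * y * x, mem_top _⟩ * x⁻¹ : (⊤ : Subgroup Y)) : Y) • v = v at h3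
      rwa [e1] at h3
    have h3 := w.toAmb.le_point_of hX h2
    apply hd A hA (hAT.trans w.TM)
    intro h4
    have h5 : s ∈ A ⊓ MulAut.conj (x : Y) • M := ⟨hs, h3 hsv⟩
    rw [h4, mem_bot] at h5
    exact hs1 h5

end Cfsg.Agent.Omega.NO1.TH

end

section


/-!
# N1, one component: no `Bad` subgroup gives `Fin` (bb OMEGA 21423, socket (E))

`World.disj_of_none` : (+).  `World.fin_of_none` : `Fin`.
-/

set_option autoImplicit false

namespace Cfsg.Agent.Omega.NO1.TH

open Subgroup Cfsg.Agent.Omega.NO1.AB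
open scoped Pointwise

universe u

variable {Y : Type u} [Group Y] {V : Type u} [AddCommGroup V] [DistribMulAction Y V] {U : Set (Subgroup Y)}
  {T : Sylow 2 Y} {M : Subgroup Y} {a : ℕ}

/-- the field `socN` as `SocN` -/
theorem World.socN' (w : World V U T M a) : SocN V U := by
  intro A hA B hB v hv0 hvA hvB
  obtain ⟨S, hSB, hS, hSn, hSV⟩ := w.socN A hA B hB v hv0 hvA hvB
  exact ⟨S, hSB, by rw [w.ind A hA]; exact hS, hSn, hSV⟩

/-- **(+), if there is no `Bad` subgroup.** -/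
theorem World.disj_of_none [Finite Y] [Finite V] (w : World V U T M a) (he : ∀ X : Subgroup Y, ¬ Bad U M X) :
    Disj U M := by
  intro B hB hBM y hne
  have hU : ∃ B, B ∈ U := ⟨B, hB⟩
  have h := w.emp he hU
  by_contra hcon
  apply hne
  rw [eq_bot_iff]
  rintro b ⟨hb, hby⟩
  rw [mem_bot]
  refine h.inf_eq (h.sy_socN w.socN') (x := 1) (y := y) ?_ hB ?_ hb hby
  · rw [map_one, one_smul]
    exact fun h1 => hcon h1.symm
  · rw [map_one, one_smul]
    exact hBM

/-- **Socket (E).** -/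
theorem World.fin_of_none [Finite Y] [Finite V] (w : World V U T M a) (hU : ∃ B, B ∈ U)
    (he : ∀ X : Subgroup Y, ¬ Bad U M X) : Fin V U T M :=
  w.fin_of_disj hU he (w.disj_of_none he)

end Cfsg.Agent.Omega.NO1.TH

end

section


/-!
# N1, `a = 2`, `k = 1`, `C ≠ 0` (bb OMEGA 21267, helper85)

`StarTwo V U T M H B b t w Φ` : a member `B` of order 4, `H = ⟨b⟩ × S₃`, `C_V(H) = ⟨w⟩`, `V = Φ ⊕ ⟨w⟩`, `t` a
2-element normalising `B`, moving `b` and `w`.  Output: `N_Y(B) = ⟨B, t⟩` of order 8 is the Sylow 2-subgroup `T` of `Y`,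
and `Φ` is invariant under `⟨H, T⟩`.
-/

set_option autoImplicit false
set_option linter.unusedSectionVars false

namespace Cfsg.Agent.Omega.NO1.TH

open Subgroup Cfsg.Agent.Omega.NO1.AB
open scoped Pointwise

universe u

variable {Y : Type u} [Group Y] {V : Type u} [AddCommGroup V] [DistribMulAction Y V]

namespace S2

section four

variable (h2 : ∀ v : V, v + v = 0) {b c : Y} (hb : b * b = 1) (hc : c * c = 1) (hbc : b * c = c * b)

/-- the norm of the four-group `⟨b, c⟩` -/
def nn (b c : Y) (v : V) : V := v + b • v + c • v + (b * c) • v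

/-- membership in the four-group -/
def In4 (b c x : Y) : Prop := x = 1 ∨ x = b ∨ x = c ∨ x = b * c

include hb hc hbc

theorem a1 (v : V) : b • b • v = v := by rw [← mul_smul, hb, one_smul]
theorem a2 (v : V) : b • c • v = (b * c) • v := by rw [← mul_smul]
theorem a3 (v : V) : b • (b * c) • v = c • v := by rw [← mul_smul, ← mul_assoc, hb, one_mul]
theorem a4 (v : V) : c • b • v = (b * c) • v := by rw [← mul_smul, hbc]
theorem a5 (v : V) : c • c • v = v := by rw [← mul_smul, hc, one_smul]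
theorem a6 (v : V) : c • (b * c) • v = b • v := by
  rw [← mul_smul, hbc, ← mul_assoc, hc, one_mul]
theorem a7 (v : V) : (b * c) • b • v = c • v := by
  rw [← mul_smul, hbc, mul_assoc, hb, mul_one]
theorem a8 (v : V) : (b * c) • c • v = b • v := by
  rw [← mul_smul, mul_assoc, hc, mul_one]
theorem a9 (v : V) : (b * c) • (b * c) • v = v := by
  have e : b * c * (b * c) = 1 := by
    rw [hbc, mul_assoc, ← mul_assoc b c b, hbc, mul_assoc c b b, hb, mul_one, hc]
  rw [← mul_smul, e, one_smul]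

include h2

theorem fld (x g : Y) (hx : In4 b c x) (hg : In4 b c g) (v : V) :
    x • (g • v + v) + (g • v + v) = 0 ∨ x • (g • v + v) + (g • v + v) = nn b c v := by
  have hz : ∀ u : V, (2 : ℤ) • u = 0 := fun u => by rw [two_zsmul, h2]
  rcases hx with rfl | rfl | rfl | rfl <;> rcases hg with rfl | rfl | rfl | rfl
  all_goals
    simp only [nn, smul_add, one_smul, a1 hb hc hbc, a2 hb hc hbc, a3 hb hc hbc, a4 hb hc hbc, a5 hb hc hbc,
      a6 hb hc hbc, a7 hb hc hbc, a8 hb hc hbc, a9 hb hc hbc]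
  all_goals first
    | (left; simp only [h2])
    | (left; abel_nf; simp only [hz, add_zero])
    | (right; abel)

end four

/-- a set with four elements -/
theorem eq_of_four {α : Type*} {s : Set α} (hs : Nat.card s = 4) {a b c d x : α} (ha : a ∈ s) (hb : b ∈ s)
    (hc : c ∈ s) (hd : d ∈ s) (hab : a ≠ b) (hac : a ≠ c) (had : a ≠ d) (hbc : b ≠ c) (hbd : b ≠ d) (hcd : c ≠ d)
    (hx : x ∈ s) : x = a ∨ x = b ∨ x = c ∨ x = d := by
  classical
  by_contra hcon
  push Not at hcon
  obtain ⟨h1, h2, h3, h4⟩ := hcon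
  have hfin : s.Finite := Set.finite_of_ncard_ne_zero (by rw [← Nat.card_coe_set_eq, hs]; norm_num)
  have h5 : ({x, a, b, c, d} : Set α) ⊆ s := by
    intro y hy
    simp only [Set.mem_insert_iff, Set.mem_singleton_iff] at hy
    rcases hy with rfl | rfl | rfl | rfl | rfl <;> assumption
  have h6 := Set.ncard_le_ncard h5 hfin
  rw [← Nat.card_coe_set_eq s, hs] at h6
  have h7 : ({x, a, b, c, d} : Set α).ncard = 5 := by
    rw [Set.ncard_insert_of_notMem (by simp [h1, h2, h3, h4]), Set.ncard_insert_of_notMem (by simp [hab, hac, had]),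
      Set.ncard_insert_of_notMem (by simp [hbc, hbd]), Set.ncard_insert_of_notMem (by simp [hcd]),
      Set.ncard_singleton]
  omega

end S2

/-- The configuration `(*)` of bb OMEGA 21267. -/
structure StarTwo (V : Type u) [AddCommGroup V] [DistribMulAction Y V] (U : Set (Subgroup Y)) (T : Sylow 2 Y)
    (M H B : Subgroup Y) (b t : Y) (w : V) (Φ : AddSubgroup V) : Prop where
  mem : B ∈ U
  card : Nat.card B = 4
  ind : (Ee V B).index = 2
  cardF : Nat.card (fx V B) = 4
  BT : B ≤ (T : Subgroup Y)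
  BH : B ≤ H
  bB : b ∈ B
  /-- `B ∩ O₂(H) ≤ ⟨b⟩` -/
  core : ∀ N : Subgroup Y, N ≤ H → IsPGroup 2 N → (∀ x ∈ H, ∀ n ∈ N, x * n * x⁻¹ ∈ N) →
    ∀ n ∈ N, n ∈ B → n = 1 ∨ n = b
  w0 : w ≠ 0
  wH : ∀ x ∈ H, x • w = w
  tT : t ∈ T
  tB : ∀ x ∈ B, t * x * t⁻¹ ∈ B
  tb : t * b * t⁻¹ ≠ b
  tw : t • w ≠ w
  ΦH : ∀ x ∈ H, ∀ p ∈ Φ, x • p ∈ Φ
  Φw : w ∉ Φ
  ΦE : ¬ Φ ≤ Ee V B
  HM : ¬ H ≤ M

/-- the distinguished vector of `F_B` -/
structure Zd (V : Type u) [AddCommGroup V] [DistribMulAction Y V] (B : Subgroup Y) (b c : Y) (z : V) : Prop where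
  ne : z ≠ 0
  mem : z ∈ fx V B
  dich : ∀ x ∈ B, ∀ e ∈ Ee V B, x • e + e = 0 ∨ x • e + e = z
  ex : ∃ x ∈ B, ∃ e ∈ Ee V B, x • e + e = z
  nn : ∀ v, v ∉ Ee V B → S2.nn b c v = z

theorem sw (h2 : ∀ v : V, v + v = 0) {p q r s : V} (h : p + q = r + s) : q + s = p + r := by
  have e : q + s = p + (p + q) + s := by rw [← add_assoc p p, h2, zero_add]
  rw [e, h, add_assoc p, add_assoc r, h2, add_zero]

theorem smulF_of_norm {B : Subgroup Y} {y : Y} (hy : y ∈ normalizer (B : Set Y)) {f : V} (hf : f ∈ fx V B) :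
    y • f ∈ fx V B := by
  intro x hx
  have h1 : y⁻¹ * x * y ∈ B := by
    have := (mem_normalizer_iff.1 (inv_mem hy) x).1 hx
    rwa [inv_inv] at this
  have h2 := hf _ h1
  rw [mul_smul, mul_smul, inv_smul_eq_iff] at h2
  exact h2

theorem smulE_of_norm {B : Subgroup Y} {y : Y} (hy : y ∈ normalizer (B : Set Y)) {e : V} (he : e ∈ Ee V B) :
    y • e ∈ Ee V B := by
  intro x hx
  have h1 : y⁻¹ * x * y ∈ B := by
    have := (mem_normalizer_iff.1 (inv_mem hy) x).1 hx
    rwa [inv_inv] at this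
  have h2 := smulF_of_norm hy (he _ h1)
  rw [smul_add, ← mul_smul, ← mul_assoc, ← mul_assoc, mul_inv_cancel, one_mul, mul_smul] at h2
  exact h2

theorem smulE_iff {B : Subgroup Y} {y : Y} (hy : y ∈ normalizer (B : Set Y)) {e : V} :
    y • e ∈ Ee V B ↔ e ∈ Ee V B := by
  refine ⟨fun h => ?_, smulE_of_norm hy⟩
  have := smulE_of_norm (inv_mem hy) h
  rwa [inv_smul_smul] at this

theorem add_mem_of_index {E : AddSubgroup V} (h : E.index = 2) {x y : V} (hx : x ∉ E) (hy : y ∉ E) : x + y ∈ E :=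
  (AddSubgroup.add_mem_iff_of_index_two h).2 (by simp [hx, hy])

/-- the standing hypotheses on the top world -/
structure Hyp2 (V : Type u) [AddCommGroup V] [DistribMulAction Y V] (U : Set (Subgroup Y)) : Prop where
  faith : ∀ y : Y, (∀ v : V, y • v = v) → y = 1
  noff : ∀ A : Subgroup Y, (∀ x ∈ A, ∀ y ∈ A, x * y = y * x) → (∀ x ∈ A, x * x = 1) → A ≠ ⊥ →
    Nat.card A < (fx V A).index
  soc : ∀ B ∈ U, ∀ X : Subgroup Y, B ≤ X → (∃ v : V, v ≠ 0 ∧ ∀ x ∈ X, x • v = v) → B ⊓ ZN.o2 X ≠ ⊥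

namespace StarTwo

variable [Finite Y] [Finite V] {U : Set (Subgroup Y)} {T : Sylow 2 Y} {M H B : Subgroup Y} {b t : Y} {w : V}
  {Φ : AddSubgroup V} (s : StarTwo V U T M H B b t w Φ) (hc : Cls V U)
include s hc

theorem hm : Mem B (Ee V B) (fx V B) := hc.mem B s.mem

theorem b1 : b ≠ 1 := by
  rintro rfl
  apply s.tb
  rw [mul_one, mul_inv_cancel]

theorem c1 : t * b * t⁻¹ ≠ 1 := by
  intro h1
  apply s.b1 hc
  have e : b = t⁻¹ * (t * b * t⁻¹) * t := by group
  rw [e, h1, mul_one, inv_mul_cancel]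

theorem cB : t * b * t⁻¹ ∈ B := s.tB b s.bB

theorem bb : b * b = 1 := (s.hm hc).sq b s.bB

theorem cc : (t * b * t⁻¹) * (t * b * t⁻¹) = 1 := (s.hm hc).sq _ (s.cB hc)

theorem bc : b * (t * b * t⁻¹) = (t * b * t⁻¹) * b := (s.hm hc).comm _ s.bB _ (s.cB hc)

theorem in4 {x : Y} (hx : x ∈ B) : S2.In4 b (t * b * t⁻¹) x := by
  have h1 : b * (t * b * t⁻¹) ∈ B := B.mul_mem s.bB (s.cB hc)
  refine S2.eq_of_four (s := (B : Set Y)) s.card B.one_mem s.bB (s.cB hc) h1 (Ne.symm (s.b1 hc)) (Ne.symm (s.c1 hc))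
    ?_ (Ne.symm s.tb) ?_ ?_ hx
  · intro h2
    apply s.tb
    have h3 := congrArg (b * ·) h2
    simp only [mul_one] at h3
    rw [← mul_assoc, s.bb hc, one_mul] at h3
    exact h3.symm
  · intro h2
    exact s.c1 hc (left_eq_mul.1 h2)
  · intro h2
    exact s.b1 hc (right_eq_mul.1 h2)

theorem exists_z : ∃ z : V, Zd V B b (t * b * t⁻¹) z := by
  have hm := s.hm hc
  have h2 := hc.two
  obtain ⟨v0, hv0⟩ := hm.ne
  set c := t * b * t⁻¹ with hcdef
  have hbb := s.bb hc
  have hcc := s.cc hc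
  have hbc := s.bc hc
  rw [← hcdef] at hcc hbc
  have fixF : ∀ f : V, b • f = f → c • f = f → f ∈ fx V B := by
    intro f h3 h4 x hx
    rcases s.in4 hc hx with rfl | rfl | rfl | rfl
    · exact one_smul _ _
    · exact h3
    · exact h4
    · rw [mul_smul, h4, h3]
  have hnn : ∀ v : V, S2.nn b c v = (c • v + v) + b • (c • v + v) := by
    intro v
    rw [S2.nn, smul_add, S2.a2 hbb hcc hbc]
    abel
  have hE0 : ∀ e ∈ Ee V B, S2.nn b c e = 0 := by
    intro e he
    rw [hnn, hm.FB b s.bB _ (hm.EB c (s.cB hc) e he), h2]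
  refine ⟨S2.nn b c v0, ?_, ?_, ?_, ?_, ?_⟩
  · intro h3
    rw [hnn] at h3
    have h4 : b • (c • v0 + v0) = c • v0 + v0 := ((HE.add_eq_zero' h2).1 h3).symm
    have h5 : c • (c • v0 + v0) = c • v0 + v0 := by
      rw [smul_add, S2.a5 hbb hcc hbc, add_comm]
    exact s.c1 hc (hm.inj v0 hv0 c (s.cB hc) (fixF _ h4 h5))
  · apply fixF
    · simp only [S2.nn, smul_add, S2.a1 hbb hcc hbc, S2.a2 hbb hcc hbc, S2.a3 hbb hcc hbc]
      abel
    · simp only [S2.nn, smul_add, S2.a4 hbb hcc hbc, S2.a5 hbb hcc hbc, S2.a6 hbb hcc hbc]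
      abel
  · intro x hx e he
    obtain ⟨g, hg, hf⟩ := hm.surj v0 hv0 e he
    have h3 := hm.FB x hx _ hf
    rw [smul_add] at h3
    have h4 := sw h2 h3
    rw [h4]
    exact S2.fld h2 hbb hcc hbc x g (s.in4 hc hx) (s.in4 hc hg) v0
  · refine ⟨b, s.bB, c • v0 + v0, hm.VB c (s.cB hc) v0, ?_⟩
    rw [hnn, add_comm]
  · intro v hv
    have h3 := hE0 _ (add_mem_of_index s.ind hv hv0)
    have h4 : S2.nn b c (v + v0) = S2.nn b c v + S2.nn b c v0 := by
      simp only [S2.nn, smul_add]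
      abel
    rw [h4] at h3
    exact (HE.add_eq_zero' h2).1 h3

theorem t_norm : t ∈ normalizer (B : Set Y) := mem_normalizer_fintype (fun n hn => s.tB n hn)

theorem smul_z {z : V} (hz : Zd V B b (t * b * t⁻¹) z) {y : Y} (hy : y ∈ normalizer (B : Set Y)) : y • z = z := by
  obtain ⟨x, hx, e, he, h3⟩ := hz.ex
  have h4 : y • z = (y * x * y⁻¹) • (y • e) + y • e := by
    rw [← h3, smul_add, ← mul_smul (y * x * y⁻¹), mul_assoc (y * x), inv_mul_cancel, mul_one, mul_smul]
  rcases hz.dich _ ((mem_normalizer_iff.1 hy x).1 hx) _ (smulE_of_norm hy he) with h5 | h5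
  · exfalso
    rw [← h4] at h5
    exact hz.ne ((smul_eq_zero_iff_eq y).1 h5)
  · rw [h4, h5]

theorem wF : w ∈ fx V B := fun x hx => s.wH x (s.BH hx)

theorem cases {z : V} (hz : Zd V B b (t * b * t⁻¹) z) {f : V} (hf : f ∈ fx V B) :
    f = 0 ∨ f = z ∨ f = w ∨ f = w + z := by
  have h1 : w ≠ z := by
    rintro rfl
    exact s.tw (s.smul_z hc hz (s.t_norm hc))
  refine S2.eq_of_four (s := (fx V B : Set V)) s.cardF (zero_mem _) hz.mem (s.wF hc)
    (add_mem (s.wF hc) hz.mem) (Ne.symm hz.ne) (Ne.symm s.w0) ?_ (Ne.symm h1) ?_ ?_ hf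
  · intro h3
    exact h1 ((HE.add_eq_zero' hc.two).1 h3.symm)
  · intro h3
    exact s.w0 (right_eq_add.1 h3)
  · intro h3
    exact hz.ne (left_eq_add.1 h3)

theorem tw' {z : V} (hz : Zd V B b (t * b * t⁻¹) z) : t • w = w + z := by
  rcases s.cases hc hz (smulF_of_norm (s.t_norm hc) (s.wF hc)) with h1 | h1 | h1 | h1
  · exact absurd ((smul_eq_zero_iff_eq t).1 h1) s.w0
  · exfalso
    have h2 := s.smul_z hc hz (s.t_norm hc)
    have h3 : w = z := smul_left_cancel t (h1.trans h2.symm)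
    rw [h3] at h1
    exact s.tw (by rw [h3, h1])
  · exact absurd h1 s.tw
  · exact h1

/-! ### (2), (3): `N_Y(B) ∩ C_Y(w) = B` -/

section soc

variable (hsoc : ∀ B ∈ U, ∀ X : Subgroup Y, B ≤ X → (∃ v : V, v ≠ 0 ∧ ∀ x ∈ X, x • v = v) → B ⊓ ZN.o2 X ≠ ⊥)
include hsoc

theorem comm_b {y : Y} (hy : y ∈ normalizer (B : Set Y)) (hw : y • w = w) : y * b = b * y := by
  have hHX : H ≤ MulAction.stabilizer Y w := fun x hx => s.wH x hx
  have hN : ∀ n ∈ B ⊓ ZN.o2 (MulAction.stabilizer Y w), n = 1 ∨ n = b := by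
    intro n hn
    exact s.core (ZN.o2 (MulAction.stabilizer Y w) ⊓ H) inf_le_right ((ZN.Block.o2_isPGroup _).to_le inf_le_left)
      (fun x hx n hn => ⟨ZN.Block.o2_conj (hHX hx) hn.1, H.mul_mem (H.mul_mem hx hn.2) (H.inv_mem hx)⟩)
      n ⟨hn.2, s.BH hn.1⟩ hn.1
  have hb : b ∈ ZN.o2 (MulAction.stabilizer Y w) := by
    by_contra hcon
    apply hsoc B s.mem _ (s.BH.trans hHX) ⟨w, s.w0, fun x hx => hx⟩
    rw [eq_bot_iff]
    intro n hn
    rcases hN n hn with rfl | rfl
    · exact one_mem _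
    · exact absurd hn.2 hcon
  have h1 : y * b * y⁻¹ ∈ B ⊓ ZN.o2 (MulAction.stabilizer Y w) :=
    ⟨(mem_normalizer_iff.1 hy b).1 s.bB, ZN.Block.o2_conj hw hb⟩
  rcases hN _ h1 with h2 | h2
  · exfalso
    apply s.b1 hc
    have e : b = y⁻¹ * (y * b * y⁻¹) * y := by group
    rw [e, h2, mul_one, inv_mul_cancel]
  · exact mul_inv_eq_iff_eq_mul.1 h2

theorem comm_c {z : V} (hz : Zd V B b (t * b * t⁻¹) z) {y : Y} (hy : y ∈ normalizer (B : Set Y)) (hw : y • w = w) :
    y * (t * b * t⁻¹) = (t * b * t⁻¹) * y := by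
  have ht := s.t_norm hc
  have h1 : t⁻¹ * y * t ∈ normalizer (B : Set Y) := mul_mem (mul_mem (inv_mem ht) hy) ht
  have h2 : (t⁻¹ * y * t) • w = w := by
    rw [mul_smul, mul_smul, s.tw' hc hz, smul_add, hw, s.smul_z hc hz hy, inv_smul_eq_iff, s.tw' hc hz]
  have h3 := s.comm_b hc hsoc h1 h2
  have e1 : y * (t * b * t⁻¹) = t * (t⁻¹ * y * t * b) * t⁻¹ := by group
  have e2 : (t * b * t⁻¹) * y = t * (b * (t⁻¹ * y * t)) * t⁻¹ := by group
  rw [e1, e2, h3]

theorem comm_all {z : V} (hz : Zd V B b (t * b * t⁻¹) z) {y : Y} (hy : y ∈ normalizer (B : Set Y)) (hw : y • w = w)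
    {x : Y} (hx : x ∈ B) : y * x = x * y := by
  have h1 := s.comm_b hc hsoc hy hw
  have h2 := s.comm_c hc hsoc hz hy hw
  rcases s.in4 hc hx with rfl | rfl | rfl | rfl
  · rw [mul_one, one_mul]
  · exact h1
  · exact h2
  · rw [← mul_assoc, h1, mul_assoc, h2, ← mul_assoc]

omit hsoc in
theorem fixF {z : V} (hz : Zd V B b (t * b * t⁻¹) z) {y : Y} (hy : y ∈ normalizer (B : Set Y)) (hw : y • w = w)
    {f : V} (hf : f ∈ fx V B) : y • f = f := by
  rcases s.cases hc hz hf with rfl | rfl | rfl | rfl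
  · exact smul_zero _
  · exact s.smul_z hc hz hy
  · exact hw
  · rw [smul_add, hw, s.smul_z hc hz hy]

theorem sq_of {z : V} (hz : Zd V B b (t * b * t⁻¹) z) (hfaith : ∀ y : Y, (∀ v : V, y • v = v) → y = 1)
    {y : Y} (hy : y ∈ normalizer (B : Set Y)) (hw : y • w = w) : y * y = 1 := by
  have hm := s.hm hc
  have h2 := hc.two
  have key : ∀ v : V, v ∉ Ee V B → y • y • v = v := by
    intro v hv
    have h3 : y • v ∉ Ee V B := fun h => hv ((smulE_iff hy).1 h)
    obtain ⟨g, hg, hf⟩ := hm.surj v hv _ (add_mem_of_index s.ind h3 hv)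
    set f := g • v + v + (y • v + v) with hfdef
    have e1 : y • v = f + g • v := by
      have e : f + g • v = (g • v + g • v) + (v + v) + y • v := by rw [hfdef]; abel
      rw [e, h2, h2, zero_add, zero_add]
    have e2 : y • g • v = g • y • v := by
      rw [← mul_smul, ← mul_smul, s.comm_all hc hsoc hz hy hw hg]
    rw [e1, smul_add, s.fixF hc hz hy hw hf, e2, e1, smul_add, hm.FB g hg f hf, ← mul_smul, hm.sq g hg, one_smul,
      ← add_assoc, h2, zero_add]
  apply hfaith
  intro v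
  rw [mul_smul]
  by_cases hv : v ∈ Ee V B
  · obtain ⟨v0, hv0⟩ := hm.ne
    have h3 : v + v0 ∉ Ee V B := fun h => hv0 (by
      have := (Ee V B).sub_mem h hv
      rwa [add_sub_cancel_left] at this)
    have h4 := key _ h3
    rw [smul_add, smul_add, key v0 hv0] at h4
    exact add_right_cancel h4
  · exact key v hv

theorem mem_of {z : V} (hz : Zd V B b (t * b * t⁻¹) z) (hfaith : ∀ y : Y, (∀ v : V, y • v = v) → y = 1)
    (hnoff : ∀ A : Subgroup Y, (∀ x ∈ A, ∀ y ∈ A, x * y = y * x) → (∀ x ∈ A, x * x = 1) → A ≠ ⊥ →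
      Nat.card A < (fx V A).index)
    {y : Y} (hy : y ∈ normalizer (B : Set Y)) (hw : y • w = w) : y ∈ B := by
  set R : Subgroup Y := normalizer (B : Set Y) ⊓ MulAction.stabilizer Y w with hR
  have hsq : ∀ x ∈ R, x * x = 1 := fun x hx => s.sq_of hc hsoc hz hfaith hx.1 hx.2
  have hBR : B ≤ R := le_inf le_normalizer fun x hx => s.wF hc x hx
  have hcomm : ∀ x ∈ R, ∀ y ∈ R, x * y = y * x := by
    intro x hx y hy
    have h1 := hsq _ (R.mul_mem hx hy)
    have h3 : x * y = (x * y)⁻¹ := eq_inv_of_mul_eq_one_left h1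
    rw [h3, mul_inv_rev, inv_eq_of_mul_eq_one_left (hsq x hx), inv_eq_of_mul_eq_one_left (hsq y hy)]
  have h1 := hnoff R hcomm hsq (fun h => by
    have := hBR s.bB
    rw [h, mem_bot] at this
    exact s.b1 hc this)
  have hE : Nat.card (Ee V B) = Nat.card (fx V B) * Nat.card B := (s.hm hc).card_E hc.two
  have h3 := (Ee V B).card_mul_index
  have h4 := (fx V R).card_mul_index
  rw [hE, s.cardF, s.card, s.ind] at h3
  have h5 : 4 ≤ Nat.card (fx V R) := by
    rw [← s.cardF]
    apply Nat.card_le_card_of_injective (AddSubgroup.inclusion (fun f hf x hx => s.fixF hc hz hx.1 hx.2 hf : fx V B ≤ fx V R))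
    exact AddSubgroup.inclusion_injective _
  have h6 : Nat.card R < 8 := by
    refine lt_of_lt_of_le h1 ?_
    by_contra h7
    have h8 : 4 * 9 ≤ Nat.card (fx V R) * (fx V R).index := Nat.mul_le_mul h5 (by omega)
    omega
  have h7 : Nat.card B ∣ Nat.card R := Subgroup.card_dvd_of_le hBR
  rw [s.card] at h7
  have h8 : Nat.card R ≤ Nat.card B := by
    rw [s.card]
    omega
  rw [eq_of_le_of_card_ge hBR h8]
  exact ⟨hy, hw⟩

theorem norm_cases {z : V} (hz : Zd V B b (t * b * t⁻¹) z) (hfaith : ∀ y : Y, (∀ v : V, y • v = v) → y = 1)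
    (hnoff : ∀ A : Subgroup Y, (∀ x ∈ A, ∀ y ∈ A, x * y = y * x) → (∀ x ∈ A, x * x = 1) → A ≠ ⊥ →
      Nat.card A < (fx V A).index)
    {y : Y} (hy : y ∈ normalizer (B : Set Y)) : y ∈ B ∨ t⁻¹ * y ∈ B := by
  rcases s.cases hc hz (smulF_of_norm hy (s.wF hc)) with h1 | h1 | h1 | h1
  · exact absurd ((smul_eq_zero_iff_eq y).1 h1) s.w0
  · exfalso
    have h2 := s.smul_z hc hz hy
    have h3 : w = z := smul_left_cancel y (h1.trans h2.symm)
    have h4 := s.smul_z hc hz (s.t_norm hc)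
    rw [← h3] at h4
    exact s.tw h4
  · exact Or.inl (s.mem_of hc hsoc hz hfaith hnoff hy h1)
  · right
    apply s.mem_of hc hsoc hz hfaith hnoff (mul_mem (inv_mem (s.t_norm hc)) hy)
    rw [mul_smul, h1, inv_smul_eq_iff, s.tw' hc hz]

end soc

/-! ### the involutions of `tB` -/

/-- an involution of `tB` moves a vector outside `E_B` in a controlled way -/
theorem inv_act {z : V} (hz : Zd V B b (t * b * t⁻¹) z) {x : Y} (hx : t⁻¹ * x ∈ B) (hxx : x * x = 1) {v : V}
    (hv : v ∉ Ee V B) : ∃ f : V, (f = 0 ∨ f = z) ∧ (x • v = v + f ∨ x • v = (b * (t * b * t⁻¹)) • v + f) := by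
  have hm := s.hm hc
  have h2 := hc.two
  have hcB := s.cB hc
  have hbb := s.bb hc
  have hcc := s.cc hc
  have hbc := s.bc hc
  have hxN : x ∈ normalizer (B : Set Y) := by
    have e : x = t * (t⁻¹ * x) := by group
    rw [e]
    exact mul_mem (s.t_norm hc) (le_normalizer hx)
  have h3 : x • v ∉ Ee V B := fun h => hv ((smulE_iff hxN).1 h)
  obtain ⟨g, hg, hf⟩ := hm.surj v hv _ (add_mem_of_index s.ind h3 hv)
  set f := g • v + v + (x • v + v) with hfdef
  have e1 : x • v = g • v + f := by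
    have e : g • v + f = (g • v + g • v) + (v + v) + x • v := by rw [hfdef]; abel
    rw [e, h2, h2, zero_add, zero_add]
  have hxg : x * g * x⁻¹ ∈ B := (mem_normalizer_iff.1 hxN g).1 hg
  have hxf : x • f ∈ fx V B := smulF_of_norm hxN hf
  -- `x² v = v`
  have e2 : v = (x * g * x⁻¹ * g) • v + (f + x • f) := by
    have e3 : x • x • v = v := by rw [← mul_smul, hxx, one_smul]
    have e4 : x • g • v = (x * g * x⁻¹) • x • v := by rw [← mul_smul, ← mul_smul, inv_mul_cancel_right]
    have e5 : x • x • v = (x * g * x⁻¹ * g) • v + (f + x • f) := by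
      conv_lhs => rw [e1]
      rw [smul_add, e4, e1, smul_add, hm.FB _ hxg f hf, mul_smul _ g v]
      abel
    rw [e3] at e5
    exact e5
  have h4 : (x * g * x⁻¹ * g) • v + v = f + x • f := by
    have h5 : (x * g * x⁻¹ * g) • v + v = (x * g * x⁻¹ * g) • v + ((x * g * x⁻¹ * g) • v + (f + x • f)) :=
      congrArg (fun u => (x * g * x⁻¹ * g) • v + u) e2
    rw [h5, ← add_assoc, h2, zero_add]
  have h5 : x * g * x⁻¹ * g = 1 := by
    apply hm.inj v hv _ (B.mul_mem hxg hg)
    rw [h4]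
    exact add_mem hf hxf
  have h6 : f + x • f = 0 := by rw [← h4, h5, one_smul, h2]
  have h7 : x • f = f := ((HE.add_eq_zero' h2).1 h6).symm
  -- `x • w = w + z`
  have hxw : x • w = w + z := by
    have e : x = t * (t⁻¹ * x) := by group
    rw [e, mul_smul, s.wF hc _ hx, s.tw' hc hz]
  have hxz : x • z = z := s.smul_z hc hz hxN
  have hxb : x * b * x⁻¹ = t * b * t⁻¹ := by
    have h8 := hm.comm _ hx b s.bB
    have e : x * b * x⁻¹ = t * ((t⁻¹ * x) * b) * x⁻¹ := by group
    rw [e, h8]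
    group
  have hxi : x⁻¹ = x := inv_eq_of_mul_eq_one_left hxx
  have hxc : x * (t * b * t⁻¹) * x⁻¹ = b := by
    rw [← hxb]
    have e : x * (x * b * x⁻¹) * x⁻¹ = (x * x) * b * (x * x)⁻¹ := by group
    rw [e, hxx, inv_one, one_mul, mul_one]
  have hff : f = 0 ∨ f = z := by
    rcases s.cases hc hz hf with h8 | h8 | h8 | h8
    · exact Or.inl h8
    · exact Or.inr h8
    · exfalso
      rw [h8, hxw] at h7
      exact hz.ne (add_eq_left.1 h7)
    · exfalso
      rw [h8, smul_add, hxw, hxz] at h7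
      have h9 := add_right_cancel h7
      exact hz.ne (add_eq_left.1 h9)
  refine ⟨f, hff, ?_⟩
  rcases s.in4 hc hg with rfl | rfl | rfl | rfl
  · left
    rw [e1, one_smul]
  · exfalso
    rw [hxb] at h5
    -- `c b = 1`
    apply s.tb
    exact mul_right_cancel (h5.trans hbb.symm)
  · exfalso
    rw [hxc] at h5
    apply s.tb
    exact (mul_right_cancel (h5.trans hcc.symm)).symm
  · right
    exact e1

/-- there is an involution in `tB` -/
theorem exists_inv (htt : t * t ∈ B) : ∃ x : Y, t⁻¹ * x ∈ B ∧ x * x = 1 := by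
  have hbb := s.bb hc
  have hcc := s.cc hc
  have hbc := s.bc hc
  have e0 : t * (t * t) * t⁻¹ = t * t := by group
  rcases s.in4 hc htt with h | h | h | h
  · exact ⟨t, by rw [inv_mul_cancel]; exact one_mem _, h⟩
  · exfalso
    rw [h] at e0
    exact s.tb e0
  · exfalso
    apply s.tb
    have e : b = t⁻¹ * (t * t) * t := by rw [h]; group
    rw [← h]
    conv_rhs => rw [e]
    group
  · refine ⟨t * b, by rw [inv_mul_cancel_left]; exact s.bB, ?_⟩
    have e : t * b * (t * b) = (t * b * t⁻¹) * (t * t) * b := by group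
    rw [e, h, ← mul_assoc, ← hbc, mul_assoc b, hcc, mul_one, hbb]

theorem out_fix {z : V} (hz : Zd V B b (t * b * t⁻¹) z) {x : Y} (hx : t⁻¹ * x ∈ B) (hxx : x * x = 1) :
    ∃ v : V, v ∉ Ee V B ∧ x • v = v := by
  have hm := s.hm hc
  have h2 := hc.two
  have hbb := s.bb hc
  have hcc := s.cc hc
  have hbc := s.bc hc
  have hxN : x ∈ normalizer (B : Set Y) := by
    have e : x = t * (t⁻¹ * x) := by group
    rw [e]
    exact mul_mem (s.t_norm hc) (le_normalizer hx)
  have hxw : x • w = w + z := by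
    have e : x = t * (t⁻¹ * x) := by group
    rw [e, mul_smul, s.wF hc _ hx, s.tw' hc hz]
  have hxb : x * b = (t * b * t⁻¹) * x := by
    have h8 := hm.comm _ hx b s.bB
    have e : x * b = t * ((t⁻¹ * x) * b) := by group
    rw [e, h8]
    group
  obtain ⟨v0, hv0⟩ := hm.ne
  have hwE : w ∈ Ee V B := hm.FE (s.wF hc)
  have hbv : b • v0 ∉ Ee V B := fun h => hv0 ((smulE_iff (le_normalizer s.bB)).1 h)
  have hadd : ∀ v : V, v ∉ Ee V B → v + w ∉ Ee V B := fun v hv h => hv (by
    have := (Ee V B).sub_mem h hwE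
    rwa [add_sub_cancel_right] at this)
  have hzz : z + (w + z) = w := by
    have e : z + (w + z) = w + (z + z) := by abel
    rw [e, h2, add_zero]
  obtain ⟨f, hf, h1 | h1⟩ := s.inv_act hc hz hx hxx hv0
  · rcases hf with rfl | rfl
    · exact ⟨v0, hv0, by rw [h1, add_zero]⟩
    · exact ⟨v0 + w, hadd _ hv0, by rw [smul_add, h1, hxw, add_assoc, hzz]⟩
  · have h3 : x • b • v0 = b • v0 + (t * b * t⁻¹) • f := by
      rw [← mul_smul, hxb, mul_smul, h1, smul_add, S2.a6 hbb hcc hbc]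
    rcases hf with rfl | rfl
    · exact ⟨b • v0, hbv, by rw [h3, smul_zero, add_zero]⟩
    · refine ⟨b • v0 + w, hadd _ hbv, ?_⟩
      rw [smul_add, h3, hxw, hz.mem _ (s.cB hc), add_assoc, hzz]

/-! ### (5), (6): `T = N_Y(B)` -/

/-- **(5)** `B` is the only member in `N_Y(B)`. -/
theorem only (ht : Hyp2 V U) {A : Subgroup Y} (hA : A ∈ U) (hAN : A ≤ normalizer (B : Set Y)) : A = B := by
  obtain ⟨z, hz⟩ := s.exists_z hc
  have hm := s.hm hc
  have hmA : Mem A (Ee V A) (fx V A) := hc.mem A hA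
  have h2 := hc.two
  have hbb := s.bb hc
  have hcc := s.cc hc
  have hbc := s.bc hc
  have hNc := fun y hy => s.norm_cases hc ht.soc hz ht.faith ht.noff (y := y) hy
  have hcard : Nat.card A = 4 := by
    obtain ⟨y, hy⟩ := hc.eq A hA B s.mem
    rw [← s.card, hy]
    exact (conj_card y A).symm
  by_contra hne
  have hnle : ¬ A ≤ B := fun h => hne (eq_of_le_of_card_ge h (by rw [hcard, s.card]))
  obtain ⟨x, hxA, hxB⟩ := SetLike.not_le_iff_exists.1 hnle
  have hx : t⁻¹ * x ∈ B := (hNc x (hAN hxA)).resolve_left hxB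
  have hxx : x * x = 1 := hmA.sq x hxA
  have hxN := hAN hxA
  have hx1 : x ≠ 1 := by
    rintro rfl
    exact hxB (one_mem _)
  -- `A ∩ B ≠ 1`
  obtain ⟨a, haA, haB, ha1⟩ : ∃ a ∈ A, a ∈ B ∧ a ≠ 1 := by
    obtain ⟨y, hyA, hy1, hyx⟩ : ∃ y ∈ A, y ≠ 1 ∧ y ≠ x := by
      by_contra hcon
      push Not at hcon
      have h3 : (A : Set Y) ⊆ {1, x} := by
        intro y hy
        by_cases h : y = 1
        · exact Or.inl h
        · exact Or.inr (hcon y hy h)
      have h4 := Set.ncard_le_ncard h3 (Set.toFinite _)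
      have h5 : (A : Set Y).ncard = 4 := by rw [← Nat.card_coe_set_eq]; exact hcard
      have h6 := Set.ncard_insert_le (1 : Y) {x}
      rw [Set.ncard_singleton] at h6
      omega
    rcases hNc y (hAN hyA) with h3 | h3
    · exact ⟨y, hyA, h3, hy1⟩
    · refine ⟨x⁻¹ * y, A.mul_mem (A.inv_mem hxA) hyA, ?_, ?_⟩
      · have e : x⁻¹ * y = (t⁻¹ * x)⁻¹ * (t⁻¹ * y) := by group
        rw [e]
        exact B.mul_mem (B.inv_mem hx) h3
      · intro h4
        exact hyx (inv_mul_eq_one.1 h4).symm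
  have hxb : x * b * x⁻¹ = t * b * t⁻¹ := by
    have h8 := hm.comm _ hx b s.bB
    have e : x * b * x⁻¹ = t * ((t⁻¹ * x) * b) * x⁻¹ := by group
    rw [e, h8]
    group
  have hxi : x⁻¹ = x := inv_eq_of_mul_eq_one_left hxx
  have hxc : x * (t * b * t⁻¹) * x⁻¹ = b := by
    rw [← hxb]
    have e : x * (x * b * x⁻¹) * x⁻¹ = (x * x) * b * (x * x)⁻¹ := by group
    rw [e, hxx, inv_one, one_mul, mul_one]
  have hxa : x * a * x⁻¹ = a := by
    rw [hmA.comm x hxA a haA, mul_inv_cancel_right]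
  have hab : a = b * (t * b * t⁻¹) := by
    rcases s.in4 hc haB with h | h | h | h
    · exact absurd h ha1
    · exfalso
      rw [h, hxb] at hxa
      exact s.tb hxa
    · exfalso
      rw [h, hxc] at hxa
      exact s.tb hxa.symm
    · exact h
  -- `b` normalises `A`
  have hbA : b ∈ normalizer (A : Set Y) := by
    apply mem_normalizer_fintype
    intro y hy
    have hbi : b⁻¹ = b := inv_eq_of_mul_eq_one_left hbb
    rcases hNc y (hAN hy) with h3 | h3
    · rw [hm.comm b s.bB y h3, mul_inv_cancel_right]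
      exact hy
    · have h4 : x⁻¹ * y ∈ B := by
        have e : x⁻¹ * y = (t⁻¹ * x)⁻¹ * (t⁻¹ * y) := by group
        rw [e]
        exact B.mul_mem (B.inv_mem hx) h3
      have h5 : b * x = x * (t * b * t⁻¹) := by
        rw [← hxb, hxi, ← mul_assoc, ← mul_assoc, hxx, one_mul]
      have e : b * y * b⁻¹ = x * a * (x⁻¹ * y) := by
        rw [hbi, hab]
        have e1 : b * y * b = (b * x) * ((x⁻¹ * y) * b) := by group
        rw [e1, h5, hm.comm _ h4 b s.bB, hbc]
        group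
      rw [e]
      exact A.mul_mem (A.mul_mem hxA haA) (A.mul_mem (A.inv_mem hxA) hy)
  have hbE : ∀ v ∈ Ee V A, b • v ∈ Ee V A := fun v hv => smulE_of_norm hbA hv
  have haE : ∀ v ∈ Ee V A, (b * (t * b * t⁻¹)) • v ∈ Ee V A := fun v hv => by
    rw [← hab]
    exact hmA.nm a haA v hv
  have hcE : ∀ v ∈ Ee V A, (t * b * t⁻¹) • v ∈ Ee V A := fun v hv => by
    have h3 := haE _ (hbE v hv)
    rwa [S2.a7 hbb hcc hbc] at h3
  have hwA : w ∈ Ee V A := hmA.mem_of_fix h2 haA ha1 (s.wF hc a haB)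
  obtain ⟨v1, hv1, hxv⟩ := s.out_fix hc hz hx hxx
  have hvA : v1 ∈ Ee V A := hmA.mem_of_fix h2 hxA hx1 hxv
  have hzA : z ∈ Ee V A := by
    rw [← hz.nn v1 hv1, S2.nn]
    exact add_mem (add_mem (add_mem hvA (hbE _ hvA)) (hcE _ hvA)) (haE _ hvA)
  have hFA : ∀ f ∈ fx V B, f ∈ Ee V A := by
    intro f hf
    rcases s.cases hc hz hf with rfl | rfl | rfl | rfl
    · exact zero_mem _
    · exact hzA
    · exact hwA
    · exact add_mem hwA hzA
  have hgA : ∀ g ∈ B, g • v1 ∈ Ee V A := by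
    intro g hg
    rcases s.in4 hc hg with rfl | rfl | rfl | rfl
    · rwa [one_smul]
    · exact hbE _ hvA
    · exact hcE _ hvA
    · exact haE _ hvA
  have hEA : ∀ e ∈ Ee V B, e ∈ Ee V A := by
    intro e he
    obtain ⟨g, hg, hf⟩ := hm.surj v1 hv1 e he
    have h3 := (Ee V A).sub_mem (hFA _ hf) (add_mem (hgA g hg) hvA)
    rwa [add_sub_cancel_left] at h3
  obtain ⟨v, hv⟩ := hmA.ne
  apply hv
  by_cases hvE : v ∈ Ee V B
  · exact hEA v hvE
  · have h3 := (Ee V A).sub_mem (hEA _ (add_mem_of_index s.ind hvE hv1)) hvA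
    rwa [add_sub_cancel_right] at h3

/-- **(6)** `T = N_Y(B)` -/
theorem T_eq (ht : Hyp2 V U) : (T : Subgroup Y) = normalizer (B : Set Y) := by
  obtain ⟨z, hz⟩ := s.exists_z hc
  have hle : normalizer (B : Set Y) ≤ (T : Subgroup Y) := by
    intro y hy
    rcases s.norm_cases hc ht.soc hz ht.faith ht.noff hy with h | h
    · exact s.BT h
    · have e : y = t * (t⁻¹ * y) := by group
      rw [e]
      exact mul_mem s.tT (s.BT h)
  by_contra hne
  have hlt : normalizer (B : Set Y) < (T : Subgroup Y) := lt_of_le_of_ne hle (Ne.symm hne)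
  obtain ⟨y, hy, hyN⟩ := SetLike.exists_of_lt (Amb.lt_norm T.2 hlt)
  apply hyN
  have h1 : MulAut.conj y • B ∈ U := hc.conj B s.mem y
  have h3 : MulAut.conj y • B ≤ normalizer (B : Set Y) := by
    intro x hx
    rw [mem_conj] at hx
    have h4 := (mem_normalizer_iff.1 hy.2 (y⁻¹ * x * y)).1 (le_normalizer hx)
    have e : y * (y⁻¹ * x * y) * y⁻¹ = x := by group
    rwa [e] at h4
  have h4 := s.only hc ht h1 h3
  apply mem_normalizer_fintype
  intro n hn
  have h5 : y * n * y⁻¹ ∈ MulAut.conj y • B := conj_mem_conj hn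
  rw [h4] at h5
  exact h5

/-- a subgroup containing `B` and `t` contains `T` -/
theorem T_le (ht : Hyp2 V U) {R : Subgroup Y} (hB : B ≤ R) (htR : t ∈ R) : (T : Subgroup Y) ≤ R := by
  obtain ⟨z, hz⟩ := s.exists_z hc
  rw [s.T_eq hc ht]
  intro y hy
  rcases s.norm_cases hc ht.soc hz ht.faith ht.noff hy with h | h
  · exact hB h
  · have e : y = t * (t⁻¹ * y) := by group
    rw [e]
    exact mul_mem htR (hB h)

/-! ### (7) -/

/-- `Φ` is `T`-invariant -/
theorem Φ_T (ht : Hyp2 V U) {y : Y} (hy : y ∈ T) {p : V} (hp : p ∈ Φ) : y • p ∈ Φ := by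
  obtain ⟨z, hz⟩ := s.exists_z hc
  have hm := s.hm hc
  have hBΦ : ∀ g ∈ B, ∀ p ∈ Φ, g • p ∈ Φ := fun g hg => s.ΦH g (s.BH hg)
  obtain ⟨v0, hv0, hv0E⟩ := SetLike.not_le_iff_exists.1 s.ΦE
  have hzΦ : z ∈ Φ := by
    rw [← hz.nn v0 hv0E, S2.nn]
    exact add_mem (add_mem (add_mem hv0 (hBΦ _ s.bB _ hv0)) (hBΦ _ (s.cB hc) _ hv0))
      (hBΦ _ (B.mul_mem s.bB (s.cB hc)) _ hv0)
  have htN := s.t_norm hc
  have htt : t * t ∈ B := by
    apply s.mem_of hc ht.soc hz ht.faith ht.noff (mul_mem htN htN)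
    rw [mul_smul, s.tw' hc hz, smul_add, s.tw' hc hz, s.smul_z hc hz htN, add_assoc, hc.two, add_zero]
  obtain ⟨x, hx, hxx⟩ := s.exists_inv hc htt
  have h1 : ∀ p ∈ Φ, p ∉ Ee V B → x • p ∈ Φ := by
    intro p hp hpE
    obtain ⟨f, hf, h3 | h3⟩ := s.inv_act hc hz hx hxx hpE
    · rw [h3]
      rcases hf with rfl | rfl
      · exact add_mem hp (zero_mem _)
      · exact add_mem hp hzΦ
    · rw [h3]
      have h4 := hBΦ _ (B.mul_mem s.bB (s.cB hc)) _ hp
      rcases hf with rfl | rfl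
      · exact add_mem h4 (zero_mem _)
      · exact add_mem h4 hzΦ
  have h2 : ∀ p ∈ Φ, x • p ∈ Φ := by
    intro p hp
    by_cases hpE : p ∈ Ee V B
    · have h3 : p + v0 ∉ Ee V B := fun h => hv0E (by
        have := (Ee V B).sub_mem h hpE
        rwa [add_sub_cancel_left] at this)
      have h4 := Φ.sub_mem (h1 _ (add_mem hp hv0) h3) (h1 _ hv0 hv0E)
      rwa [← smul_sub, add_sub_cancel_right] at h4
    · exact h1 p hp hpE
  have hy' : y ∈ (T : Subgroup Y) := hy
  rw [s.T_eq hc ht] at hy'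
  rcases s.norm_cases hc ht.soc hz ht.faith ht.noff hy' with h | h
  · exact hBΦ y h p hp
  · have e : y = x * ((t⁻¹ * x)⁻¹ * (t⁻¹ * y)) := by group
    rw [e, mul_smul]
    exact h2 _ (hBΦ _ (B.mul_mem (B.inv_mem hx) h) _ hp)

/-- **(7)** The configuration is impossible at the top: `V` irreducible, `T` in the unique maximal subgroup `M`. -/
theorem false_of (ht : Hyp2 V U) (hmax : ∀ K : Subgroup Y, (T : Subgroup Y) ≤ K → K ≠ ⊤ → K ≤ M)
    (hirr : ∀ W : AddSubgroup V, (∀ y : Y, ∀ w ∈ W, y • w ∈ W) → W = ⊥ ∨ W = ⊤) : False := by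
  have htop : H ⊔ (T : Subgroup Y) = ⊤ := by
    by_contra h
    exact s.HM (le_sup_left.trans (hmax _ le_sup_right h))
  have hinv : ∀ y : Y, ∀ p ∈ Φ, y • p ∈ Φ := by
    have h1 : H ≤ stb Φ := nm_iff.1 fun x hx p hp => s.ΦH x hx p hp
    have h2 : (T : Subgroup Y) ≤ stb Φ := nm_iff.1 fun x hx p hp => s.Φ_T hc ht hx hp
    have h3 : (⊤ : Subgroup Y) ≤ stb Φ := by
      rw [← htop]
      exact sup_le h1 h2
    exact fun y p hp => (h3 (mem_top y) p).2 hp
  rcases hirr Φ hinv with h | h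
  · apply s.ΦE
    rw [h]
    exact bot_le
  · apply s.Φw
    rw [h]
    exact AddSubgroup.mem_top w

end StarTwo

/-- The second alternative of the module theorem for `a = 2`. -/
def Star2 (V : Type u) [AddCommGroup V] [DistribMulAction Y V] (U : Set (Subgroup Y)) (T : Sylow 2 Y)
    (M : Subgroup Y) : Prop :=
  ∃ (H B : Subgroup Y) (b t : Y) (w : V) (Φ : AddSubgroup V), StarTwo V U T M H B b t w Φ

/-! ### passage from a subgroup -/

theorem fx_map_subtype {X : Subgroup Y} (B : Subgroup X) : fx V (B.map X.subtype) = fx V B := by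
  ext v
  constructor
  · intro h b hb
    exact h _ ⟨b, hb, rfl⟩
  · rintro h _ ⟨b, hb, rfl⟩
    exact h b hb

theorem Ee_map_subtype {X : Subgroup Y} (B : Subgroup X) : Ee V (B.map X.subtype) = Ee V B := by
  ext v
  constructor
  · intro h b hb
    rw [← fx_map_subtype]
    exact h _ ⟨b, hb, rfl⟩
  · rintro h _ ⟨b, hb, rfl⟩
    rw [fx_map_subtype]
    exact h b hb

theorem StarTwo.map {U : Set (Subgroup Y)} {T : Sylow 2 Y} {M : Subgroup Y} {X : Subgroup Y} {U' : Set (Subgroup X)}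
    {T' : Sylow 2 X} {M' H' B' : Subgroup X} {b t : X} {w : V} {Φ : AddSubgroup V}
    (s : StarTwo V U' T' M' H' B' b t w Φ) (hU : ∀ C ∈ U', C.map X.subtype ∈ U)
    (hT : (T' : Subgroup X).map X.subtype ≤ (T : Subgroup Y)) (hM : M.subgroupOf X ≤ M') :
    StarTwo V U T M (H'.map X.subtype) (B'.map X.subtype) (b : Y) (t : Y) w Φ where
  mem := hU _ s.mem
  card := by
    rw [← s.card]
    exact (Nat.card_congr (B'.equivMapOfInjective _ X.subtype_injective).toEquiv).symm
  ind := by rw [Ee_map_subtype]; exact s.ind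
  cardF := by rw [fx_map_subtype]; exact s.cardF
  BT := (map_mono s.BT).trans hT
  BH := map_mono s.BH
  bB := ⟨b, s.bB, rfl⟩
  core := by
    intro N hN h2 hn n hnN hnB
    obtain ⟨n', hn', rfl⟩ := hnB
    have h3 := s.core (N.subgroupOf X) (fun x hx => by
      obtain ⟨y, hy, hyx⟩ := hN hx
      have : y = x := Subtype.ext hyx
      rwa [← this]) (h2.comap_of_injective X.subtype X.subtype_injective)
      (fun x hx m hm => hn _ ⟨x, hx, rfl⟩ _ hm) n' hnN hn'
    rcases h3 with rfl | rfl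
    · exact Or.inl rfl
    · exact Or.inr rfl
  w0 := s.w0
  wH := by
    rintro _ ⟨x, hx, rfl⟩
    exact s.wH x hx
  tT := hT ⟨t, s.tT, rfl⟩
  tB := by
    rintro _ ⟨x, hx, rfl⟩
    exact ⟨_, s.tB x hx, rfl⟩
  tb := fun h => s.tb (Subtype.ext h)
  tw := s.tw
  ΦH := by
    rintro _ ⟨x, hx, rfl⟩
    exact s.ΦH x hx
  Φw := s.Φw
  ΦE := by rw [Ee_map_subtype]; exact s.ΦE
  HM := fun h => s.HM fun x hx => hM (h ⟨x, hx, rfl⟩)

/-- `Star2` passes from the world of a subgroup `X` to the world of `Y`. -/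
theorem Star2.of_sub {U : Set (Subgroup Y)} {T : Sylow 2 Y} {M : Subgroup Y} {X : Subgroup Y}
    {U' : Set (Subgroup X)} {T' : Sylow 2 X} {M' : Subgroup X} (h : Star2 V U' T' M')
    (hU : ∀ C ∈ U', C.map X.subtype ∈ U) (hT : (T' : Subgroup X).map X.subtype ≤ (T : Subgroup Y))
    (hM : M.subgroupOf X ≤ M') : Star2 V U T M := by
  obtain ⟨H, B, b, t, w, Φ, s⟩ := h
  exact ⟨_, _, _, _, _, _, s.map hU hT hM⟩

/-- `Star2` never comes from a proper sub-world: `T` lies in every subgroup over `B`, `t`. -/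
theorem Star2.sylow_le [Finite Y] [Finite V] {U : Set (Subgroup Y)} {T : Sylow 2 Y} {M : Subgroup Y}
    (hc : Cls V U) (ht : Hyp2 V U) {X : Subgroup Y} {U' : Set (Subgroup X)} {T' : Sylow 2 X} {M' : Subgroup X}
    (h : Star2 V U' T' M') (hU : ∀ C ∈ U', C.map X.subtype ∈ U)
    (hT : (T' : Subgroup X).map X.subtype ≤ (T : Subgroup Y)) (hM : M.subgroupOf X ≤ M') :
    (T : Subgroup Y) ≤ X := by
  obtain ⟨H, B, b, t, w, Φ, s⟩ := h
  exact (s.map hU hT hM).T_le hc ht (map_subtype_le _) t.2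

/-- `Star2` is impossible at the top (`V` irreducible). -/
theorem Star2.false [Finite Y] [Finite V] {U : Set (Subgroup Y)} {T : Sylow 2 Y} {M : Subgroup Y}
    (h : Star2 V U T M) (hc : Cls V U) (ht : Hyp2 V U)
    (hmax : ∀ K : Subgroup Y, (T : Subgroup Y) ≤ K → K ≠ ⊤ → K ≤ M)
    (hirr : ∀ W : AddSubgroup V, (∀ y : Y, ∀ w ∈ W, y • w ∈ W) → W = ⊥ ∨ W = ⊤) : False := by
  obtain ⟨H, B, b, t, w, Φ, s⟩ := h
  exact s.false_of hc ht hmax hirr

end Cfsg.Agent.Omega.NO1.TH

end

section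


/-!
# N1, one component: the conclusion of the chain

`OutF` : `Fin ∨ Star2`; `sockE`.
-/

set_option autoImplicit false
set_option linter.unusedSectionVars false

namespace Cfsg.Agent.Omega.NO1.TH

open Subgroup Cfsg.Agent.Omega.NO1.AB
open scoped Pointwise

universe u

/-- **The conclusion of the chain.** -/
def OutF : OutT.{u} := fun _ V _ _ _ U T M => Fin V U T M ∨ Star2 V U T M

/-- **no bad subgroup** -/
theorem sockE : SockE OutF.{u} := fun _ _ _ _ _ _ _ _ _ _ _ w hU he => Or.inl (w.fin_of_none hU he)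

end Cfsg.Agent.Omega.NO1.TH

end

section


/-!
# N1, BETA, `a = 2` (FrTwo): the END of the amalgam `(H, H^t)` for `k = 1` (bb OMEGA 20939, helper817)

`|V : E_U| = 2`, `k = 1`, so `c = 2`.  `ET.false_of` : contradiction (any `C = C_V(H)`).
-/

set_option autoImplicit false
set_option linter.unusedSectionVars false

namespace Cfsg.Agent.Omega.NO1.TH.ET

open Subgroup Cfsg.Agent.Omega.NO1.AB
open scoped Pointwise

universe u

variable {Y : Type u} [Group Y] {V : Type u} [AddCommGroup V] [DistribMulAction Y V]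

/-! ### generalities -/

theorem add_swap (h2 : ∀ v : V, v + v = 0) {x y z : V} (h : x + y = z) : x = y + z := by
  rw [← h, add_comm x y, ← add_assoc, h2, zero_add]

theorem add_mem_of [Finite V] {A B : AddSubgroup V} (hAB : A ≤ B) (hc : Nat.card B = 2 * Nat.card A) {x y : V}
    (hx : x ∈ B) (hy : y ∈ B) (hxA : x ∉ A) (hyA : y ∉ A) : x + y ∈ A := by
  have h1 : (A.addSubgroupOf B).index = 2 := by
    have h3 := (A.addSubgroupOf B).card_mul_index
    rw [Nat.card_congr (AddSubgroup.addSubgroupOfEquivOfLe hAB).toEquiv, hc, mul_comm 2] at h3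
    exact Nat.eq_of_mul_eq_mul_left Nat.card_pos h3
  have h2 := (AddSubgroup.add_mem_iff_of_index_two h1 (a := ⟨x, hx⟩) (b := ⟨y, hy⟩)).2
    ⟨fun h => absurd (AddSubgroup.mem_addSubgroupOf.1 h) hxA, fun h => absurd (AddSubgroup.mem_addSubgroupOf.1 h) hyA⟩
  exact AddSubgroup.mem_addSubgroupOf.1 h2

theorem mul_mem_of [Finite Y] {A B : Subgroup Y} (hAB : A ≤ B) (hc : Nat.card B = 2 * Nat.card A) {x y : Y}
    (hx : x ∈ B) (hy : y ∈ B) (hxA : x ∉ A) (hyA : y ∉ A) : x * y ∈ A := by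
  have h1 : (A.subgroupOf B).index = 2 := by
    have h3 := (A.subgroupOf B).card_mul_index
    rw [Nat.card_congr (subgroupOfEquivOfLe hAB).toEquiv, hc, mul_comm 2] at h3
    exact Nat.eq_of_mul_eq_mul_left Nat.card_pos h3
  have h2 := (mul_mem_iff_of_index_two h1 (a := ⟨x, hx⟩) (b := ⟨y, hy⟩)).2
    ⟨fun h => absurd (mem_subgroupOf.1 h) hxA, fun h => absurd (mem_subgroupOf.1 h) hyA⟩
  exact mem_subgroupOf.1 h2

/-- `{0, z}` -/
def tw (h2 : ∀ v : V, v + v = 0) (z : V) : AddSubgroup V where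
  carrier := {v | v = 0 ∨ v = z}
  add_mem' := by
    rintro a b (rfl | rfl) (rfl | rfl)
    · left; simp
    · right; simp
    · right; simp
    · left; exact h2 _
  zero_mem' := Or.inl rfl
  neg_mem' := by
    rintro a (rfl | rfl)
    · left; simp
    · right; exact neg_eq_of_add_eq_zero_left (h2 _)

theorem mem_tw {h2 : ∀ v : V, v + v = 0} {z v : V} : v ∈ tw h2 z ↔ v = 0 ∨ v = z := Iff.rfl

theorem card_tw {h2 : ∀ v : V, v + v = 0} {z : V} : Nat.card (tw h2 z) ≤ 2 := by
  have h3 : ((tw h2 z : AddSubgroup V) : Set V) = {0, z} := by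
    ext v
    exact mem_tw
  change Nat.card ((tw h2 z : AddSubgroup V) : Set V) ≤ 2
  rw [h3]
  exact (Set.ncard_insert_le _ _).trans (by rw [Set.ncard_singleton])

theorem card_sup_le [Finite V] (A B : AddSubgroup V) : Nat.card ↥(A ⊔ B) ≤ Nat.card A * Nat.card B := by
  have h1 := card_sup_as A B
  have h2 : 0 < Nat.card ↥(A ⊓ B) := Nat.card_pos
  nlinarith

/-- no transvections -/
theorem eq_one_of [Finite V] (h2 : ∀ v : V, v + v = 0) (faith : ∀ y : Y, (∀ v : V, y • v = v) → y = 1)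
    (noff : ∀ A : Subgroup Y, (∀ x ∈ A, ∀ y ∈ A, x * y = y * x) → (∀ x ∈ A, x * x = 1) → A ≠ ⊥ →
      Nat.card A < (fx V A).index) {s : Y} {z : V} (hs : ∀ v : V, s • v + v = 0 ∨ s • v + v = z) : s = 1 := by
  by_contra hs1
  -- `s² = 1`
  have hz : s • z = z := by
    rcases hs z with h3 | h3
    · exact (HE.add_eq_zero' h2).1 h3
    · -- `s z = 0`
      have h4 := add_swap h2 h3
      rw [h2] at h4
      rw [smul_eq_zero_iff_eq] at h4
      rw [h4, smul_zero]
  have hss : s * s = 1 := by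
    apply faith
    intro v
    rw [mul_smul]
    rcases hs v with h3 | h3
    · rw [(HE.add_eq_zero' h2).1 h3, (HE.add_eq_zero' h2).1 h3]
    · have h4 := add_swap h2 h3
      rw [h4, smul_add, hz, h4, add_assoc, h2, add_zero]
  have hA : ∀ x ∈ zpowers s, x = 1 ∨ x = s := by
    rintro x ⟨n, rfl⟩
    have h4 : s ^ (2 : ℤ) = 1 := by rw [zpow_two, hss]
    rcases Int.even_or_odd' n with ⟨k, rfl | rfl⟩
    · left
      change s ^ (2 * k) = 1
      rw [zpow_mul, h4, one_zpow]
    · right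
      change s ^ (2 * k + 1) = s
      rw [zpow_add, zpow_mul, h4, one_zpow, one_mul, zpow_one]
  have h3 := noff (zpowers s) (by
    rintro x hx y hy
    rcases hA x hx with rfl | rfl <;> rcases hA y hy with rfl | rfl <;> simp) (by
    intro x hx
    rcases hA x hx with rfl | rfl
    · simp
    · exact hss) (by
    rw [Ne, zpowers_eq_bot]; exact hs1)
  have h4 : Nat.card (zpowers s) = 2 := by
    rw [Nat.card_zpowers]
    exact orderOf_eq_prime (by rw [pow_two, hss]) hs1
  rw [h4] at h3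
  let φ : V →+ V :=
    { toFun := fun v => s • v + v
      map_zero' := by rw [smul_zero, add_zero]
      map_add' := fun a b => by rw [smul_add]; abel }
  have h5 : φ.ker ≤ fx V (zpowers s) := by
    intro v hv x hx
    have h6 : s • v + v = 0 := hv
    rcases hA x hx with rfl | rfl
    · exact one_smul Y v
    · exact (HE.add_eq_zero' h2).1 h6
  have h6 : φ.range ≤ tw h2 z := by
    rintro _ ⟨v, rfl⟩
    exact hs v
  have h7 : φ.ker.index ≤ 2 := by
    rw [AddSubgroup.index_ker]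
    exact (Nat.card_le_card_of_injective _ (AddSubgroup.inclusion_injective h6)).trans card_tw
  have h8 : (fx V (zpowers s)).index ≤ φ.ker.index :=
    Nat.le_of_dvd (Nat.pos_of_ne_zero AddSubgroup.index_ne_zero_of_finite) (AddSubgroup.index_dvd_of_le h5)
  omega

/-- the four-group of two commuting involutions -/
def four (s t : Y) (hs : s * s = 1) (ht : t * t = 1) (hst : s * t = t * s) : Subgroup Y where
  carrier := {x | x = 1 ∨ x = s ∨ x = t ∨ x = s * t}
  one_mem' := Or.inl rfl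
  mul_mem' := by
    have e1 : s * (s * t) = t := by rw [← mul_assoc, hs, one_mul]
    have e2 : t * (s * t) = s := by rw [hst, ← mul_assoc, ht, one_mul]
    have e3 : s * t * s = t := by rw [hst, mul_assoc, hs, mul_one]
    have e4 : s * t * t = s := by rw [mul_assoc, ht, mul_one]
    have e5 : s * t * (s * t) = 1 := by rw [← mul_assoc, e3, ht]
    rintro a b (rfl | rfl | rfl | rfl) (rfl | rfl | rfl | rfl)
    · left; rw [one_mul]
    · right; left; rw [one_mul]
    · right; right; left; rw [one_mul]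
    · right; right; right; rw [one_mul]
    · right; left; rw [mul_one]
    · left; exact hs
    · right; right; right; rfl
    · right; right; left; exact e1
    · right; right; left; rw [mul_one]
    · right; right; right; exact hst.symm
    · left; exact ht
    · right; left; exact e2
    · right; right; right; rw [mul_one]
    · right; right; left; exact e3
    · right; left; exact e4
    · left; exact e5
  inv_mem' := by
    have e5 : s * t * (s * t) = 1 := by
      have e3 : s * t * s = t := by rw [hst, mul_assoc, hs, mul_one]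
      rw [← mul_assoc, e3, ht]
    rintro a (rfl | rfl | rfl | rfl)
    · left; simp
    · right; left; exact inv_eq_of_mul_eq_one_left hs
    · right; right; left; exact inv_eq_of_mul_eq_one_left ht
    · right; right; right; exact inv_eq_of_mul_eq_one_left e5

theorem mem_four {s t : Y} {hs : s * s = 1} {ht : t * t = 1} {hst : s * t = t * s} {x : Y} :
    x ∈ four s t hs ht hst ↔ x = 1 ∨ x = s ∨ x = t ∨ x = s * t := Iff.rfl

theorem comm_four {s t : Y} {hs : s * s = 1} {ht : t * t = 1} {hst : s * t = t * s} {x y : Y}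
    (hx : x ∈ four s t hs ht hst) (hy : y ∈ four s t hs ht hst) : x * y = y * x := by
  have hc : Commute s t := hst
  have h1 : Commute x s := by
    rcases hx with rfl | rfl | rfl | rfl
    · exact Commute.one_left _
    · exact Commute.refl _
    · exact hc.symm
    · exact (Commute.refl s).mul_left hc.symm
  have h2 : Commute x t := by
    rcases hx with rfl | rfl | rfl | rfl
    · exact Commute.one_left _
    · exact hc
    · exact Commute.refl _
    · exact hc.mul_left (Commute.refl t)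
  rcases hy with rfl | rfl | rfl | rfl
  · rw [one_mul, mul_one]
  · exact h1
  · exact h2
  · exact h1.mul_right h2

theorem sq_four {s t : Y} {hs : s * s = 1} {ht : t * t = 1} {hst : s * t = t * s} {x : Y}
    (hx : x ∈ four s t hs ht hst) : x * x = 1 := by
  rcases hx with rfl | rfl | rfl | rfl
  · rw [one_mul]
  · exact hs
  · exact ht
  · have e3 : s * t * s = t := by rw [hst, mul_assoc, hs, mul_one]
    rw [← mul_assoc, e3, ht]

theorem card_four {s t : Y} {hs : s * s = 1} {ht : t * t = 1} {hst : s * t = t * s} (h1 : s ≠ 1) (h2 : t ≠ 1)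
    (h3 : s ≠ t) : Nat.card (four s t hs ht hst) = 4 := by
  have h4 : ((four s t hs ht hst : Subgroup Y) : Set Y) = {1, s, t, s * t} := by
    ext x
    exact mem_four
  change Nat.card ((four s t hs ht hst : Subgroup Y) : Set Y) = 4
  rw [h4, Nat.card_coe_set_eq]
  have h5 : s * t ≠ 1 := by
    intro h6
    apply h3
    have := congrArg (s * ·) h6
    change s * (s * t) = s * 1 at this
    rw [← mul_assoc, hs, one_mul, mul_one] at this
    exact this.symm
  have h6 : s ≠ s * t := fun h7 => h2 (by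
    have := congrArg (s * ·) h7
    change s * s = s * (s * t) at this
    rw [← mul_assoc, hs, one_mul] at this
    exact this.symm)
  have h7 : t ≠ s * t := fun h7 => h1 (by
    have := congrArg (· * t) h7
    change t * t = s * t * t at this
    rw [mul_assoc, ht, mul_one] at this
    exact this.symm)
  rw [Set.ncard_insert_of_notMem, Set.ncard_insert_of_notMem, Set.ncard_pair h7]
  · simp only [Set.mem_insert_iff, Set.mem_singleton_iff]
    rintro (h8 | h8)
    · exact h3 h8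
    · exact h6 h8
  · simp only [Set.mem_insert_iff, Set.mem_singleton_iff]
    rintro (h8 | h8 | h8)
    · exact h1 h8.symm
    · exact h2 h8.symm
    · exact h5 h8.symm

/-! ### the final configuration -/

/-- the last contradiction: `V = ⟨z, n, n', v⟩` -/
theorem last [Finite V] (h2 : ∀ v : V, v + v = 0) (faith : ∀ y : Y, (∀ v : V, y • v = v) → y = 1)
    (noff : ∀ A : Subgroup Y, (∀ x ∈ A, ∀ y ∈ A, x * y = y * x) → (∀ x ∈ A, x * x = 1) → A ≠ ⊥ →
      Nat.card A < (fx V A).index) {b c t : Y} (hb : b * b = 1) (hc : c * c = 1) (hbc : b * c = c * b)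
    (ht : t * t = 1) (htb : t * b = c * t) (htc : t * c = b * t) (ht1 : t ≠ 1) (hbc1 : b * c ≠ 1)
    (hbct : b * c ≠ t) {z n n' v : V}
    (bz : b • z = z) (cz : c • z = z) (tz : t • z = z) (bn : b • n = n) (cn : c • n = n + z) (tn : t • n = n')
    (bn' : b • n' = n' + z) (cn' : c • n' = n')
    (bv : b • v + v = n ∨ b • v + v = n + z) (cv : c • v + v = n' ∨ c • v + v = n' + z)
    (tv : t • v = v ∨ t • v = v + z)
    (z0 : z ≠ 0) (nn0 : n + n' ≠ 0) (nnz : n + n' ≠ z)
    (top : ∀ x : V, x ∈ tw h2 z ⊔ tw h2 n ⊔ tw h2 n' ⊔ tw h2 v) : False := by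
  have tn' : t • n' = n := by rw [← tn, ← mul_smul, ht, one_smul]
  rcases tv with tv | tv
  · -- transvection
    apply ht1
    apply eq_one_of h2 faith noff (z := n + n')
    intro x
    let φ : V →+ V :=
      { toFun := fun v => t • v + v
        map_zero' := by rw [smul_zero, add_zero]
        map_add' := fun a b => by rw [smul_add]; abel }
    have h3 : tw h2 z ⊔ tw h2 n ⊔ tw h2 n' ⊔ tw h2 v ≤ (tw h2 (n + n')).comap φ := by
      refine sup_le (sup_le (sup_le ?_ ?_) ?_) ?_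
      · rintro y (rfl | rfl)
        · exact zero_mem _
        · left
          change t • y + y = 0
          rw [tz, h2]
      · rintro y (rfl | rfl)
        · exact zero_mem _
        · right
          change t • y + y = y + n'
          rw [tn, add_comm]
      · rintro y (rfl | rfl)
        · exact zero_mem _
        · right
          change t • y + y = n + y
          rw [tn']
      · rintro y (rfl | rfl)
        · exact zero_mem _
        · left
          change t • y + y = 0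
          rw [tv, h2]
    exact h3 (top x)
  · -- the four-group `<bc, t>`
    have hs : b * c * (b * c) = 1 := by
      have e1 : b * c * b = c := by rw [hbc, mul_assoc, hb, mul_one]
      rw [← mul_assoc, e1, hc]
    have hst : b * c * t = t * (b * c) := by
      rw [← mul_assoc, htb, mul_assoc c t c, htc, ← mul_assoc, hbc]
    have h3 := noff (four (b * c) t hs ht hst) (fun x hx y hy => comm_four hx hy) (fun x hx => sq_four hx) (by
      intro h4
      have h5 : t ∈ (⊥ : Subgroup Y) := by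
        rw [← h4]
        exact Or.inr (Or.inr (Or.inl rfl))
      rw [mem_bot] at h5
      exact ht1 h5)
    rw [card_four hbc1 ht1 hbct] at h3
    have h4 : Nat.card V ≤ 16 := by
      have h5 : tw h2 z ⊔ tw h2 n ⊔ tw h2 n' ⊔ tw h2 v = ⊤ := by
        rw [eq_top_iff]; exact fun x _ => top x
      rw [← AddSubgroup.card_top (G := V), ← h5]
      have e1 := card_tw (h2 := h2) (z := z)
      have e2 := card_tw (h2 := h2) (z := n)
      have e3 := card_tw (h2 := h2) (z := n')
      have e4 := card_tw (h2 := h2) (z := v)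
      calc _ ≤ Nat.card ↥(tw h2 z ⊔ tw h2 n ⊔ tw h2 n') * Nat.card (tw h2 v) := card_sup_le _ _
        _ ≤ (Nat.card ↥(tw h2 z ⊔ tw h2 n) * Nat.card (tw h2 n')) * 2 :=
            Nat.mul_le_mul (card_sup_le _ _) e4
        _ ≤ ((Nat.card (tw h2 z) * Nat.card (tw h2 n)) * 2) * 2 :=
            Nat.mul_le_mul_right _ (Nat.mul_le_mul (card_sup_le _ _) e3)
        _ ≤ ((2 * 2) * 2) * 2 :=
            Nat.mul_le_mul_right _ (Nat.mul_le_mul_right _ (Nat.mul_le_mul e1 e2))
        _ = 16 := by norm_num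
    have h5 := (fx V (four (b * c) t hs ht hst)).card_mul_index
    have h6 : 4 ≤ Nat.card ↥(fx V (four (b * c) t hs ht hst)) := by
      have hz : z ∈ fx V (four (b * c) t hs ht hst) := by
        rintro x (rfl | rfl | rfl | rfl)
        · exact one_smul Y z
        · rw [mul_smul, cz, bz]
        · exact tz
        · rw [mul_smul, mul_smul, tz, cz, bz]
      have hn : n + n' ∈ fx V (four (b * c) t hs ht hst) := by
        have e1 : t • (n + n') = n + n' := by rw [smul_add, tn, tn', add_comm]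
        have e2 : (b * c) • (n + n') = n + n' := by
          rw [mul_smul, smul_add, cn, cn', smul_add, smul_add, bn, bz, bn']
          have : n + z + (n' + z) = n + n' + (z + z) := by abel
          rw [this, h2, add_zero]
        rintro x (rfl | rfl | rfl | rfl)
        · exact one_smul Y _
        · exact e2
        · exact e1
        · rw [mul_smul, e1, e2]
      have h7 : ({0, z, n + n', z + (n + n')} : Set V) ⊆ (fx V (four (b * c) t hs ht hst) : AddSubgroup V) := by
        rintro x (rfl | rfl | rfl | rfl)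
        · exact zero_mem _
        · exact hz
        · exact hn
        · exact add_mem hz hn
      have h8 : Nat.card ({0, z, n + n', z + (n + n')} : Set V) = 4 := by
        rw [Nat.card_coe_set_eq, Set.ncard_insert_of_notMem, Set.ncard_insert_of_notMem, Set.ncard_pair]
        · intro h9
          apply z0
          have : n + n' + 0 = n + n' + z := by rw [add_zero]; rw [add_comm (n + n') z]; exact h9
          exact (add_left_cancel this).symm
        · simp only [Set.mem_insert_iff, Set.mem_singleton_iff]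
          rintro (h8 | h8)
          · exact nnz h8.symm
          · apply nn0
            have : z + 0 = z + (n + n') := by rw [add_zero]; exact h8
            exact (add_left_cancel this).symm
        · simp only [Set.mem_insert_iff, Set.mem_singleton_iff]
          rintro (h8 | h8 | h8)
          · exact z0 h8.symm
          · exact nn0 h8.symm
          · exact nnz ((HE.add_eq_zero' h2).1 h8.symm).symm
      rw [← h8]
      exact Nat.card_mono (Set.toFinite _) h7
    nlinarith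

/-! ### members of order four -/

theorem four_elts {A : Subgroup Y} [Finite Y] (hc : Nat.card A = 4) {s u : Y} (hs : s ∈ A) (hu : u ∈ A) (hs1 : s ≠ 1)
    (hu1 : u ≠ 1) (hsu : s ≠ u) (hss : s * s = 1) {x : Y} (hx : x ∈ A) : x = 1 ∨ x = s ∨ x = u ∨ x = s * u := by
  have h6 : s ≠ s * u := fun h7 => hu1 (mul_left_cancel (a := s) (by rw [← h7, mul_one]))
  have h7 : u ≠ s * u := fun h7 => hs1 (mul_right_cancel (b := u) (by rw [← h7, one_mul]))
  have h5 : s * u ≠ 1 := by
    intro h6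
    apply hsu
    apply mul_left_cancel (a := s)
    rw [h6, hss]
  have h8 : ({1, s, u, s * u} : Set Y).ncard = 4 := by
    rw [Set.ncard_insert_of_notMem, Set.ncard_insert_of_notMem, Set.ncard_pair h7]
    · simp only [Set.mem_insert_iff, Set.mem_singleton_iff]
      rintro (h8 | h8)
      · exact hsu h8
      · exact h6 h8
    · simp only [Set.mem_insert_iff, Set.mem_singleton_iff]
      rintro (h8 | h8 | h8)
      · exact hs1 h8.symm
      · exact hu1 h8.symm
      · exact h5 h8.symm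
  have h9 : ({1, s, u, s * u} : Set Y) = A := by
    apply Set.eq_of_subset_of_ncard_le _ _ (Set.toFinite _)
    · rintro y (rfl | rfl | rfl | rfl)
      · exact one_mem _
      · exact hs
      · exact hu
      · exact mul_mem hs hu
    · rw [h8]
      exact hc.le
  have h10 : x ∈ (A : Set Y) := hx
  rw [← h9] at h10
  exact h10

/-- `|[E, A]| = 2` for `|A| = 4` -/
theorem beta2 [Finite Y] {A : Subgroup Y} {E F : AddSubgroup V} (hm : Mem A E F) (h2 : ∀ v : V, v + v = 0)
    (hc : Nat.card A = 4) {x : V} {b : Y} (hx : x ∈ E) (hu : b ∈ A) (hne : b • x + x ≠ 0)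
    {e : V} {s : Y} (he : e ∈ E) (hs : s ∈ A) : s • e + e = 0 ∨ s • e + e = b • x + x := by
  obtain ⟨w, hw⟩ := hm.ne
  -- the norm form
  have key : ∀ p ∈ A, ∀ q ∈ A, ∀ y : V, p • w + w + y ∈ F →
      q • y + y = w + p • w + q • w + (p * q) • w := by
    intro p hp q hq y hy
    have h3 := hm.FB q hq _ hy
    rw [smul_add, smul_add, ← mul_smul, hm.comm q hq p hp] at h3
    have h4 : q • y + y + (w + p • w + q • w + (p * q) • w) =
        ((p * q) • w + q • w + q • y) + (p • w + w + y) := by abel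
    rw [h3, h2] at h4
    exact (HE.add_eq_zero' h2).1 h4
  obtain ⟨a, ha, hax⟩ := hm.surj w hw x hx
  obtain ⟨p, hp, hpe⟩ := hm.surj w hw e he
  rw [key a ha _ hu _ hax] at hne ⊢
  rw [key p hp s hs _ hpe]
  have hcom := hm.comm a ha b hu
  have haa := hm.sq a ha
  have hbb := hm.sq b hu
  have ha1 : a ≠ 1 := by
    rintro rfl
    apply hne
    rw [one_smul, one_mul, h2, zero_add, h2]
  have hb1 : b ≠ 1 := by
    intro h3
    apply hne
    rw [h3, one_smul, mul_one]
    have : w + a • w + w + a • w = (w + w) + (a • w + a • w) := by abel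
    rw [this, h2, h2, add_zero]
  have hab : a ≠ b := by
    intro h3
    apply hne
    rw [← h3, haa, one_smul]
    have : w + a • w + a • w + w = (w + w) + (a • w + a • w) := by abel
    rw [this, h2, h2, add_zero]
  have e1 : a * (a * b) = b := by rw [← mul_assoc, haa, one_mul]
  have e2 : b * a = a * b := hcom.symm
  have e3 : b * (a * b) = a := by rw [← mul_assoc, e2, mul_assoc, hbb, mul_one]
  have e4 : a * b * a = b := by rw [hcom, mul_assoc, haa, mul_one]
  have e5 : a * b * b = a := by rw [mul_assoc, hbb, mul_one]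
  have e6 : a * b * (a * b) = 1 := by rw [← mul_assoc, e4, hbb]
  have z0 : ∀ r : V, w + w + r + r = 0 := fun r => by rw [h2, zero_add, h2]
  have z1 : ∀ r : V, w + r + w + r = 0 := fun r => by
    have : w + r + w + r = (w + w) + (r + r) := by abel
    rw [this, h2, h2, add_zero]
  have z2 : ∀ r : V, w + r + r + w = 0 := fun r => by
    have : w + r + r + w = (w + w) + (r + r) := by abel
    rw [this, h2, h2, add_zero]
  rcases four_elts hc ha hu ha1 hb1 hab haa hp with rfl | rfl | rfl | rfl <;>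
    rcases four_elts hc ha hu ha1 hb1 hab haa hs with rfl | rfl | rfl | rfl
  · left; rw [one_smul, one_mul, one_smul]; exact z0 w
  · left; rw [one_smul, one_mul]; exact z0 _
  · left; rw [one_smul, one_mul]; exact z0 _
  · left; rw [one_smul, one_mul]; exact z0 _
  · left; rw [one_smul, mul_one]; exact z1 _
  · left; rw [haa, one_smul]; exact z2 _
  · right; rfl
  · right; rw [e1]; abel
  · left; rw [one_smul, mul_one]; exact z1 _
  · right; rw [e2]; abel
  · left; rw [hbb, one_smul]; exact z2 _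
  · right; rw [e3]; abel
  · left; rw [one_smul, mul_one]; exact z1 _
  · right; rw [e4]; abel
  · right; rw [e5]; abel
  · left; rw [e6, one_smul]; exact z2 _

end Cfsg.Agent.Omega.NO1.TH.ET

end

section


/-!
# N1, BETA, `a = 2` (FrTwo): the END of the amalgam `(H, H^t)` for `k = 1` (bb OMEGA 20939, helper817), main part

`In.false` : contradiction (any `C = C_V(H)`).
-/

set_option autoImplicit false
set_option linter.unusedSectionVars false

namespace Cfsg.Agent.Omega.NO1.TH.ET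

open Subgroup Cfsg.Agent.Omega.NO1.AB
open scoped Pointwise

universe u

variable {Y : Type u} [Group Y] {V : Type u} [AddCommGroup V] [DistribMulAction Y V]

/-- what is used of `One.Out` / `Out8` -/
structure Out2 (A R Q Q' : Subgroup Y) (V₀ W' : AddSubgroup V) : Prop where
  cap : ∀ y ∈ W', y ∈ Ee V A → y ∈ V₀
  inf : A ⊓ Q ⊓ Q' = ⊥
  cB : Nat.card ↥(A ⊓ Q) = 2
  cA : Nat.card A = 2 * 2

/-- `k = 1`, `c = a = 2` -/
structure In (V : Type u) [AddCommGroup V] [DistribMulAction Y V] (U : Set (Subgroup Y)) (T : Sylow 2 Y)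
    (M H R : Subgroup Y) (t : Y) (B : Subgroup Y) (g : Y) : Prop where
  amb : Amb V U T M
  a : Amal U T M H R t
  o : One V H R 2
  we : WE V U H R
  BU : B ∈ U
  BR : B ≤ R
  BQ : ¬ B ≤ QQ H R
  gH : g ∈ H
  gM : ¬ MulAut.conj g • B ≤ M
  out : Out2 (MulAut.conj g • B) R (QQ H R) (MulAut.conj t • QQ H R) (fx V R) (t • WW V H R)
  ind : (Ee V B).index = 2
  noff : ∀ A : Subgroup Y, (∀ x ∈ A, ∀ y ∈ A, x * y = y * x) → (∀ x ∈ A, x * x = 1) → A ≠ ⊥ →
    Nat.card A < (fx V A).index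

namespace In

variable {U : Set (Subgroup Y)} {T : Sylow 2 Y} {M H R : Subgroup Y} {t : Y} {B : Subgroup Y} {g : Y}
variable [Finite Y] [Finite V] (i : In V U T M H R t B g)
include i

theorem AH : MulAut.conj g • B ≤ H := by
  intro y hy
  rw [mem_conj] at hy
  have := H.mul_mem (H.mul_mem i.gH (i.a.RH (i.BR hy))) (H.inv_mem i.gH)
  have e : g * (g⁻¹ * y * g) * g⁻¹ = y := by group
  rwa [e] at this

theorem card_B : Nat.card B = 4 := by
  have := i.out.cA
  rwa [conj_card] at this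

/-- `t² ∈ R` normalises `Q` -/
theorem tQ {y : Y} : t * y * t⁻¹ ∈ QQ H R ↔ t⁻¹ * y * t ∈ QQ H R := by
  have hR := i.a.RH i.a.t_sq
  constructor
  · intro h
    have h1 := conj_mem_QQ (H.inv_mem hR) h
    have e : (t * t)⁻¹ * (t * y * t⁻¹) * (t * t)⁻¹⁻¹ = t⁻¹ * y * t := by group
    rwa [e] at h1
  · intro h
    have h1 := conj_mem_QQ hR h
    have e : (t * t) * (t⁻¹ * y * t) * (t * t)⁻¹ = t * y * t⁻¹ := by group
    rwa [e] at h1

/-- `[W, R] = {0, z}` -/
theorem exists_z : ∃ z : V, z ∈ fx V R ∧ z ∉ fx V H ∧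
    (∀ r ∈ R, ∀ x ∈ WW V H R, r • x + x = 0 ∨ r • x + x = z) ∧
    (∀ r ∈ R, r ∉ QQ H R → ∀ x ∈ WW V H R, x ∉ fx V R → r • x + x = z) ∧
    ∀ b ∈ B, ∀ e ∈ Ee V B, b • e + e = 0 ∨ b • e + e = z := by
  have h2 := i.amb.two
  obtain ⟨u, hu, huQ⟩ := SetLike.not_le_iff_exists.1 i.BQ
  have huR := i.BR hu
  have hx : ∃ x ∈ WW V H R, x ∉ fx V R := by
    by_contra hcon
    push Not at hcon
    have h3 : WW V H R = fx V R := le_antisymm hcon fx_le_WW
    have h4 := i.o.cW
    rw [h3] at h4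
    have h5 : 0 < Nat.card (fx V R) := Nat.card_pos
    omega
  obtain ⟨x₀, hx₀, hx₀R⟩ := hx
  have hm := i.amb.cls.mem B i.BU
  have huu := hm.sq u hu
  have key1 : ∀ r ∈ R, r ∉ QQ H R → ∀ x ∈ WW V H R, r • x = u • x := by
    intro r hr hrQ x hx
    have h3 := mul_mem_of QQ_le i.o.cR huR hr huQ hrQ
    have h4 : r = u * (u * r) := by rw [← mul_assoc, huu, one_mul]
    rw [h4, mul_smul, Amal.QQ_fix i.a i.amb h3 hx]
  have key2 : ∀ x ∈ WW V H R, x ∉ fx V R → u • x + x = u • x₀ + x₀ := by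
    intro x hx hxR
    have h3 := add_mem_of fx_le_WW i.o.cW hx hx₀ hxR hx₀R u huR
    rw [smul_add] at h3
    have h4 : (u • x + x) + (u • x₀ + x₀) = (u • x + u • x₀) + (x + x₀) := by abel
    rw [h3, h2] at h4
    exact (HE.add_eq_zero' h2).1 h4
  have hz : u • x₀ + x₀ ∉ fx V H := fun h3 => huQ (i.o.nat x₀ hx₀ hx₀R u huR h3)
  refine ⟨u • x₀ + x₀, i.o.root x₀ hx₀ u huR, hz, ?_, ?_, ?_⟩
  · intro r hr x hx
    by_cases hxR : x ∈ fx V R
    · left; rw [hxR r hr, h2]
    · by_cases hrQ : r ∈ QQ H R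
      · left; rw [Amal.QQ_fix i.a i.amb hrQ hx, h2]
      · right; rw [key1 r hr hrQ x hx, key2 x hx hxR]
  · intro r hr hrQ x hx hxR
    rw [key1 r hr hrQ x hx, key2 x hx hxR]
  · intro b hb e he
    exact beta2 hm h2 i.card_B (i.we B i.BU i.BR hx₀) hu (fun h3 => hz (by rw [h3]; exact zero_mem _)) he hb

end In

/-- second stage -/
structure Jn (V : Type u) [AddCommGroup V] [DistribMulAction Y V] (U : Set (Subgroup Y)) (T : Sylow 2 Y)
    (M H R : Subgroup Y) (t : Y) (B : Subgroup Y) (g : Y) (z : V) : Prop extends In V U T M H R t B g where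
  zR : z ∈ fx V R
  zH : z ∉ fx V H
  cW : ∀ r ∈ R, ∀ x ∈ WW V H R, r • x + x = 0 ∨ r • x + x = z
  cWz : ∀ r ∈ R, r ∉ QQ H R → ∀ x ∈ WW V H R, x ∉ fx V R → r • x + x = z
  cE : ∀ b ∈ B, ∀ e ∈ Ee V B, b • e + e = 0 ∨ b • e + e = z

namespace Jn

variable {U : Set (Subgroup Y)} {T : Sylow 2 Y} {M H R : Subgroup Y} {t : Y} {B : Subgroup Y} {g : Y} {z : V}
variable [Finite Y] [Finite V] (i : Jn V U T M H R t B g z)
include i

theorem gzW : g • z ∈ WW V H R := smul_mem_WW i.gH (fx_le_WW i.zR)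

theorem gzR : g • z ∉ fx V R := by
  intro h1
  apply i.zH
  have h3 : g • z ∈ fx V (MulAut.conj g • B) := by
    rw [fx_conj]
    exact smul_mem_smul_as (fx_mono i.BR i.zR)
  have h4 : g • z ∈ fx V H := by
    rw [← i.a.fx_inf i.AH i.gM]
    exact ⟨h3, h1⟩
  intro x hx
  have h5 := h4 (g * x * g⁻¹) (H.mul_mem (H.mul_mem i.gH hx) (H.inv_mem i.gH))
  rw [mul_smul, mul_smul, inv_smul_smul, smul_left_cancel_iff] at h5
  exact h5

theorem z0 : z ≠ 0 := by
  intro h
  apply i.zH
  rw [h]; exact zero_mem _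

/-- `[E₁, U₁] = {0, gz}` -/
theorem cE' {b : Y} (hb : b ∈ MulAut.conj g • B) {e : V} (he : e ∈ Ee V (MulAut.conj g • B)) :
    b • e + e = 0 ∨ b • e + e = g • z := by
  rw [mem_conj] at hb
  rw [Ee_conj, mem_smul_as] at he
  have e1 : b • e + e = g • ((g⁻¹ * b * g) • g⁻¹ • e + g⁻¹ • e) := by
    rw [smul_add, smul_inv_smul, ← mul_smul, ← mul_smul]
    congr 2
    group
  rw [e1]
  rcases i.cE _ hb _ he with h3 | h3
  · left; rw [h3, smul_zero]
  · right; rw [h3]

/-- commutators of `W' = tW` -/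
theorem ctW {r : Y} (hr : r ∈ R) {y : V} (hy : y ∈ t • WW V H R) : r • y + y = 0 ∨ r • y + y = t • z := by
  rw [mem_smul_as] at hy
  have e1 : r • y + y = t • ((t⁻¹ * r * t) • t⁻¹ • y + t⁻¹ • y) := by
    rw [smul_add, smul_inv_smul, ← mul_smul, ← mul_smul]
    congr 2
    group
  rw [e1]
  rcases i.cW _ (i.a.symm_smul hr) _ hy with h3 | h3
  · left; rw [h3, smul_zero]
  · right; rw [h3]

theorem ctWz {r : Y} (hr : r ∈ R) (hrQ : r ∉ MulAut.conj t • QQ H R) {y : V} (hy : y ∈ t • WW V H R)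
    (hyR : y ∉ fx V R) : r • y + y = t • z := by
  rw [mem_smul_as] at hy
  have e1 : r • y + y = t • ((t⁻¹ * r * t) • t⁻¹ • y + t⁻¹ • y) := by
    rw [smul_add, smul_inv_smul, ← mul_smul, ← mul_smul]
    congr 2
    group
  rw [e1, i.cWz _ (i.a.symm_smul hr) (fun h3 => hrQ (mem_conj.2 h3)) _ hy (fun h3 => hyR (by
    have := i.a.smul_V0 h3
    rwa [smul_inv_smul] at this))]

/-- a vector of `W'` outside `E₁` -/
theorem tgz : t • g • z ∈ t • WW V H R ∧ t • g • z ∉ fx V R := by
  refine ⟨smul_mem_smul_as i.gzW, fun h1 => i.gzR ?_⟩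
  have := i.a.smul_V0' h1
  rwa [inv_smul_smul] at this

theorem tgzE : t • g • z ∉ Ee V (MulAut.conj g • B) := fun h1 => i.tgz.2 (i.out.cap _ i.tgz.1 h1)

/-- the element `b` -/
theorem exists_b : ∃ b, b ∈ MulAut.conj g • B ∧ b ∈ QQ H R ∧ b ∉ MulAut.conj t • QQ H R ∧ b ≠ 1 := by
  have h1 := i.out.cB
  have h3 : (MulAut.conj g • B ⊓ QQ H R : Subgroup Y) ≠ ⊥ := by
    intro h4
    rw [h4, Subgroup.card_bot] at h1
    omega
  obtain ⟨⟨b, hb⟩, hb1⟩ := Subgroup.ne_bot_iff_exists_ne_one.1 h3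
  have hb1' : b ≠ 1 := fun h4 => hb1 (Subtype.ext h4)
  refine ⟨b, hb.1, hb.2, fun h4 => hb1' ?_, hb1'⟩
  have h5 : b ∈ MulAut.conj g • B ⊓ QQ H R ⊓ MulAut.conj t • QQ H R := ⟨hb, h4⟩
  rwa [i.out.inf, mem_bot] at h5

/-- **(E2)** `t z = z` -/
theorem tz : t • z = z := by
  have h2 := i.amb.two
  obtain ⟨b, hbA, hbQ, hbQ', hb1⟩ := i.exists_b
  have hA := i.amb.cls.conj B i.BU g
  have hm := i.amb.cls.mem _ hA
  have h1 := i.ctWz (QQ_le hbQ) hbQ' i.tgz.1 i.tgz.2
  have h3 : t • z ∉ fx V (MulAut.conj g • B) := by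
    intro h4
    apply hb1
    apply hm.inj _ i.tgzE b hbA
    rw [h1]; exact h4
  have h4 : t • z ∉ fx V H := fun h5 => h3 (fx_mono i.AH h5)
  have h5 := add_mem_of i.a.C_le i.o.cV (i.a.smul_V0 i.zR) i.zR h4 i.zH
  have h6 : t • (t • z + z) = t • z + z := by
    rw [smul_add, i.a.smul_smul_V0 i.zR, add_comm]
  have h7 := Amal.C_inf i.a i.amb h5 (by rw [h6]; exact h5)
  exact (HE.add_eq_zero' h2).1 h7

/-- `N` -/
def N (h2 : ∀ v : V, v + v = 0) (g : Y) (z : V) : AddSubgroup V := tw h2 z ⊔ tw h2 (g • z)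

omit i in
theorem mem_N {h2 : ∀ v : V, v + v = 0} {v : V} : v ∈ N h2 g z ↔ v = 0 ∨ v = z ∨ v = g • z ∨ v = g • z + z := by
  rw [N, AddSubgroup.mem_sup]
  constructor
  · rintro ⟨y, rfl | rfl, x, rfl | rfl, rfl⟩
    · left; rw [add_zero]
    · right; right; left; rw [zero_add]
    · right; left; rw [add_zero]
    · right; right; right; rw [add_comm]
  · rintro (rfl | rfl | rfl | rfl)
    · exact ⟨0, Or.inl rfl, 0, Or.inl rfl, add_zero 0⟩
    · exact ⟨v, Or.inr rfl, 0, Or.inl rfl, add_zero v⟩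
    · exact ⟨0, Or.inl rfl, g • z, Or.inr rfl, zero_add _⟩
    · exact ⟨z, Or.inr rfl, g • z, Or.inr rfl, add_comm _ _⟩

theorem N_le_W : N i.amb.two g z ≤ WW V H R := by
  intro v hv
  rcases mem_N.1 hv with rfl | rfl | rfl | rfl
  · exact zero_mem _
  · exact fx_le_WW i.zR
  · exact i.gzW
  · exact add_mem i.gzW (fx_le_WW i.zR)

/-- `N` is `H`-invariant -/
theorem N_inv {x : Y} (hx : x ∈ H) {v : V} (hv : v ∈ N i.amb.two g z) : x • v ∈ N i.amb.two g z := by
  have h2 := i.amb.two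
  have hA := i.amb.cls.conj B i.BU g
  -- `[N, R] ≤ N`, `[N, U₁] ≤ N`
  have hR : ∀ r ∈ R, ∀ v ∈ N h2 g z, r • v + v ∈ N h2 g z := by
    intro r hr v hv
    rcases i.cW r hr v (i.N_le_W hv) with h3 | h3
    · rw [h3]; exact zero_mem _
    · rw [h3]; exact mem_N.2 (Or.inr (Or.inl rfl))
  have hB : ∀ r ∈ MulAut.conj g • B, ∀ v ∈ N h2 g z, r • v + v ∈ N h2 g z := by
    intro r hr v hv
    have h4 : v ∈ Ee V (MulAut.conj g • B) := by
      have := Amal.WW_le_Ee i.a i.amb i.we hA i.AH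
      exact this (i.N_le_W hv)
    rcases i.cE' hr h4 with h3 | h3
    · rw [h3]; exact zero_mem _
    · rw [h3]; exact mem_N.2 (Or.inr (Or.inr (Or.inl rfl)))
  let K : Subgroup Y :=
    { carrier := {x | ∀ v ∈ N h2 g z, x • v ∈ N h2 g z ∧ x⁻¹ • v ∈ N h2 g z}
      one_mem' := fun v hv => by rw [inv_one, one_smul]; exact ⟨hv, hv⟩
      mul_mem' := fun {x y} hx hy v hv => by
        rw [mul_inv_rev, mul_smul, mul_smul]
        exact ⟨(hx _ (hy v hv).1).1, (hy _ (hx v hv).2).2⟩
      inv_mem' := fun {x} hx v hv => by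
        rw [inv_inv]
        exact ⟨(hx v hv).2, (hx v hv).1⟩ }
  have key : ∀ L : Subgroup Y, (∀ r ∈ L, ∀ v ∈ N h2 g z, r • v + v ∈ N h2 g z) → L ≤ K := by
    intro L hL x hx v hv
    have e1 : ∀ y : Y, y • v = (y • v + v) + v := fun y => by rw [add_assoc, h2, add_zero]
    refine ⟨?_, ?_⟩
    · rw [e1]; exact add_mem (hL x hx v hv) hv
    · rw [e1]; exact add_mem (hL _ (L.inv_mem hx) v hv) hv
  have h3 : H ≤ K := by
    rw [← i.a.gen i.AH i.gM]
    exact sup_le (key _ hR) (key _ hB)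
  exact (h3 hx v hv).1

end Jn

/-- third stage: the element `b` -/
structure Kn (V : Type u) [AddCommGroup V] [DistribMulAction Y V] (U : Set (Subgroup Y)) (T : Sylow 2 Y)
    (M H R : Subgroup Y) (t : Y) (B : Subgroup Y) (g : Y) (z : V) (b : Y) : Prop extends Jn V U T M H R t B g z where
  bA : b ∈ MulAut.conj g • B
  bQ : b ∈ QQ H R
  bQ' : b ∉ MulAut.conj t • QQ H R
  b1 : b ≠ 1

namespace Kn

variable {U : Set (Subgroup Y)} {T : Sylow 2 Y} {M H R : Subgroup Y} {t : Y} {B : Subgroup Y} {g : Y} {z : V} {b : Y}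
variable [Finite Y] [Finite V] (i : Kn V U T M H R t B g z b)
include i

theorem hA : MulAut.conj g • B ∈ U := i.amb.cls.conj B i.BU g

theorem bb : b * b = 1 := (i.amb.cls.mem _ i.hA).sq b i.bA

/-- commutators of `b` -/
theorem cb (v : V) : (v ∈ Ee V (MulAut.conj g • B) → b • v + v = 0 ∨ b • v + v = g • z) ∧
    (v ∉ Ee V (MulAut.conj g • B) → b • v + v = z ∨ b • v + v = g • z + z) := by
  have h2 := i.amb.two
  refine ⟨fun hv => i.cE' i.bA hv, fun hv => ?_⟩
  have hind : (Ee V (MulAut.conj g • B)).index = 2 := by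
    rw [Ee_conj]
    have h3 := (Ee V B).card_mul_index
    have h4 := (g • Ee V B).card_mul_index
    rw [card_smul_as, ← h3, i.ind] at h4
    exact Nat.eq_of_mul_eq_mul_left Nat.card_pos h4
  have h3 : v + t • g • z ∈ Ee V (MulAut.conj g • B) :=
    (AddSubgroup.add_mem_iff_of_index_two hind).2 ⟨fun h4 => absurd h4 hv, fun h4 => absurd h4 i.tgzE⟩
  have h4 := i.ctWz (QQ_le i.bQ) i.bQ' i.tgz.1 i.tgz.2
  rw [i.tz] at h4
  have h5 : b • v + v = (b • (v + t • g • z) + (v + t • g • z)) + (b • t • g • z + t • g • z) := by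
    rw [smul_add]
    have : b • v + b • t • g • z + (v + t • g • z) + (b • t • g • z + t • g • z) =
        (b • v + v) + ((b • t • g • z + b • t • g • z) + (t • g • z + t • g • z)) := by abel
    rw [this, h2, h2, add_zero, add_zero]
  rw [h5, h4]
  rcases i.cE' i.bA h3 with h6 | h6
  · left; rw [h6, zero_add]
  · right; rw [h6]

theorem cbN (v : V) : b • v + v ∈ Jn.N i.amb.two g z := by
  by_cases hv : v ∈ Ee V (MulAut.conj g • B)
  · rcases (i.cb v).1 hv with h | h
    · rw [h]; exact zero_mem _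
    · rw [h]; exact Jn.mem_N.2 (Or.inr (Or.inr (Or.inl rfl)))
  · rcases (i.cb v).2 hv with h | h
    · rw [h]; exact Jn.mem_N.2 (Or.inr (Or.inl rfl))
    · rw [h]; exact Jn.mem_N.2 (Or.inr (Or.inr (Or.inr rfl)))

/-- `D = {d ∈ Q | [V, d] ≤ N}` -/
def InD (h2 : ∀ v : V, v + v = 0) (H R : Subgroup Y) (g : Y) (z : V) (d : Y) : Prop :=
  d ∈ QQ H R ∧ ∀ v : V, d • v + v ∈ Jn.N h2 g z

theorem D_b : InD i.amb.two H R g z b := ⟨i.bQ, i.cbN⟩

theorem D_fix {d : Y} (hd : InD i.amb.two H R g z d) {v : V} (hv : v ∈ Jn.N i.amb.two g z) : d • v = v :=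
  Amal.QQ_fix i.a i.amb hd.1 (i.N_le_W hv)

theorem D_mul {d e : Y} (hd : InD i.amb.two H R g z d) (he : InD i.amb.two H R g z e) :
    InD i.amb.two H R g z (d * e) := by
  refine ⟨mul_mem hd.1 he.1, fun v => ?_⟩
  have h3 := i.D_fix hd (he.2 v)
  have h4 : (d * e) • v + v = (e • v + v) + (d • v + v) := by
    rw [mul_smul]
    have h5 : d • (e • v + v) = d • e • v + d • v := smul_add _ _ _
    rw [h3] at h5
    -- `d e v = (e v + v) + d v`
    have h6 : d • e • v = (e • v + v) + d • v := by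
      rw [h5, add_assoc, i.amb.two, add_zero]
    rw [h6, add_assoc]
  rw [h4]
  exact add_mem (he.2 v) (hd.2 v)

theorem D_inv {d : Y} (hd : InD i.amb.two H R g z d) : InD i.amb.two H R g z d⁻¹ := by
  refine ⟨inv_mem hd.1, fun v => ?_⟩
  have h3 := hd.2 (d⁻¹ • v)
  rw [smul_inv_smul, add_comm] at h3
  exact h3

theorem D_conj {d : Y} (hd : InD i.amb.two H R g z d) {x : Y} (hx : x ∈ H) :
    InD i.amb.two H R g z (x * d * x⁻¹) := by
  refine ⟨conj_mem_QQ hx hd.1, fun v => ?_⟩
  have h3 := i.N_inv hx (hd.2 (x⁻¹ • v))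
  have e1 : (x * d * x⁻¹) • v + v = x • (d • x⁻¹ • v + x⁻¹ • v) := by
    rw [smul_add, smul_inv_smul, mul_smul, mul_smul]
  rw [e1]; exact h3

/-- **(E3)** `D ∩ D^t = 1` -/
theorem D_inf {y : Y} (h1 : InD i.amb.two H R g z y) (h3 : InD i.amb.two H R g z (t⁻¹ * y * t)) : y = 1 := by
  have h2 := i.amb.two
  apply eq_one_of h2 i.amb.faith i.noff (z := z)
  intro v
  have hN := h1.2 v
  have hN' : y • v + v ∈ t • WW V H R := by
    rw [mem_smul_as]
    have h4 := i.N_le_W (h3.2 (t⁻¹ • v))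
    have e1 : (t⁻¹ * y * t) • t⁻¹ • v + t⁻¹ • v = t⁻¹ • (y • v + v) := by
      rw [smul_add, ← mul_smul, ← mul_smul]
      congr 2
      group
    rwa [e1] at h4
  -- `N ∩ W' ≤ {0, z}`
  have h5 : y • v + v ∈ fx V R := by
    apply i.out.cap _ hN'
    exact Amal.WW_le_Ee i.a i.amb i.we i.hA i.AH (i.N_le_W hN)
  rcases Jn.mem_N.1 hN with h6 | h6 | h6 | h6
  · exact Or.inl h6
  · exact Or.inr h6
  · exfalso
    rw [h6] at h5
    exact i.gzR h5
  · exfalso
    rw [h6] at h5
    apply i.gzR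
    have h7 := add_mem h5 i.zR
    rwa [add_assoc, h2, add_zero] at h7

/-- `[D, D^t] = 1` -/
theorem D_comm {d e : Y} (hd : InD i.amb.two H R g z d) (he : InD i.amb.two H R g z e) :
    d * (t * e * t⁻¹) = (t * e * t⁻¹) * d := by
  have heR : t * e * t⁻¹ ∈ R := i.a.t_norm _ (QQ_le he.1)
  have hdR : t⁻¹ * d * t ∈ R := i.a.symm_smul (QQ_le hd.1)
  have h1 : InD i.amb.two H R g z (d * ((t * e * t⁻¹) * d⁻¹ * (t * e * t⁻¹)⁻¹)) :=
    i.D_mul hd (i.D_conj (i.D_inv hd) (i.a.RH heR))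
  have h3 : InD i.amb.two H R g z (((t⁻¹ * d * t) * e * (t⁻¹ * d * t)⁻¹) * e⁻¹) :=
    i.D_mul (i.D_conj he (i.a.RH hdR)) (i.D_inv he)
  have e1 : t⁻¹ * (d * ((t * e * t⁻¹) * d⁻¹ * (t * e * t⁻¹)⁻¹)) * t =
      ((t⁻¹ * d * t) * e * (t⁻¹ * d * t)⁻¹) * e⁻¹ := by group
  have h4 := i.D_inf h1 (by rw [e1]; exact h3)
  have h5 : d * (t * e * t⁻¹) = (d * ((t * e * t⁻¹) * d⁻¹ * (t * e * t⁻¹)⁻¹)) * ((t * e * t⁻¹) * d) := by group
  rw [h5, h4, one_mul]

/-- **(E4)** `C_D(U₁) = ⟨b⟩` -/
theorem D_cen {d : Y} (hd : InD i.amb.two H R g z d) (hc : ∀ u ∈ MulAut.conj g • B, d * u = u * d) :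
    d = 1 ∨ d = b := by
  have h2 := i.amb.two
  have hm := i.amb.cls.mem _ i.hA
  obtain ⟨v, hv⟩ := hm.ne
  -- `C_D(U₁)`-elements with `[v, d] ∈ {0, gz}` are trivial
  have key : ∀ d : Y, InD i.amb.two H R g z d → (∀ u ∈ MulAut.conj g • B, d * u = u * d) →
      (d • v + v = 0 ∨ d • v + v = g • z) → d = 1 := by
    intro d hd hc hdv
    have hgz : g • z ∈ fx V (MulAut.conj g • B) := by
      rw [fx_conj]
      exact smul_mem_smul_as (fx_mono i.BR i.zR)
    apply eq_one_of h2 i.amb.faith i.noff (z := g • z)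
    -- on `F₁`
    have hF : ∀ f ∈ fx V (MulAut.conj g • B), d • f + f = 0 ∨ d • f + f = g • z := by
      intro f hf
      have h3 : d • f + f ∈ fx V (MulAut.conj g • B) := by
        refine add_mem (fun u hu => ?_) hf
        rw [← mul_smul, ← hc u hu, mul_smul, hf u hu]
      rcases Jn.mem_N.1 (hd.2 f) with h6 | h6 | h6 | h6
      · exact Or.inl h6
      · exfalso
        rw [h6] at h3
        apply i.zH
        rw [← i.a.fx_inf i.AH i.gM]
        exact ⟨h3, i.zR⟩
      · exact Or.inr h6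
      · exfalso
        rw [h6] at h3
        apply i.zH
        rw [← i.a.fx_inf i.AH i.gM]
        refine ⟨?_, i.zR⟩
        have h7 := add_mem h3 hgz
        have e1 : g • z + z + g • z = z + (g • z + g • z) := by abel
        rwa [e1, h2, add_zero] at h7
    -- on `[v, U₁]`
    have hU : ∀ u ∈ MulAut.conj g • B, d • (u • v + v) = u • v + v := by
      intro u hu
      have h3 : d • v = v ∨ d • v = g • z + v := by
        rcases hdv with h | h
        · left; exact (HE.add_eq_zero' h2).1 h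
        · right
          rw [← h, add_assoc, h2, add_zero]
      rw [smul_add, ← mul_smul, hc u hu, mul_smul]
      rcases h3 with h3 | h3
      · rw [h3]
      · rw [h3, smul_add, hgz u hu]
        have e1 : g • z + u • v + (g • z + v) = (g • z + g • z) + (u • v + v) := by abel
        rw [e1, h2, zero_add]
    -- on `E₁`
    have hE : ∀ e ∈ Ee V (MulAut.conj g • B), d • e + e = 0 ∨ d • e + e = g • z := by
      intro e he
      obtain ⟨u, hu, h3⟩ := hm.surj v hv e he
      have h4 : e = (u • v + v) + (u • v + v + e) := by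
        rw [← add_assoc, h2, zero_add]
      have h5 : d • e + e = d • (u • v + v + e) + (u • v + v + e) := by
        have h6 : d • e = (u • v + v) + d • (u • v + v + e) := by
          conv_lhs => rw [h4, smul_add, hU u hu]
        rw [h6]; abel
      rw [h5]
      exact hF _ h3
    intro x
    by_cases hx : x ∈ Ee V (MulAut.conj g • B)
    · exact hE x hx
    · have hind : (Ee V (MulAut.conj g • B)).index = 2 := by
        rw [Ee_conj]
        have h3 := (Ee V B).card_mul_index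
        have h4 := (g • Ee V B).card_mul_index
        rw [card_smul_as, ← h3, i.ind] at h4
        exact Nat.eq_of_mul_eq_mul_left Nat.card_pos h4
      have h3 : x + v ∈ Ee V (MulAut.conj g • B) :=
        (AddSubgroup.add_mem_iff_of_index_two hind).2 ⟨fun h4 => absurd h4 hx, fun h4 => absurd h4 hv⟩
      have h5 : d • x + x = (d • (x + v) + (x + v)) + (d • v + v) := by
        rw [smul_add]
        have : d • x + d • v + (x + v) + (d • v + v) = (d • x + x) + ((d • v + d • v) + (v + v)) := by abel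
        rw [this, h2, h2, add_zero, add_zero]
      rw [h5]
      rcases hE _ h3 with h6 | h6 <;> rcases hdv with h7 | h7 <;> rw [h6, h7]
      · left; rw [add_zero]
      · right; rw [zero_add]
      · right; rw [add_zero]
      · left; exact h2 _
  have hbc : ∀ u ∈ MulAut.conj g • B, b * u = u * b := fun u hu => hm.comm b i.bA u hu
  by_cases h3 : d • v + v = 0 ∨ d • v + v = g • z
  · exact Or.inl (key d hd hc h3)
  · right
    have h4 : d • v + v = z ∨ d • v + v = g • z + z := by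
      rcases Jn.mem_N.1 (hd.2 v) with h6 | h6 | h6 | h6
      · exact absurd (Or.inl h6) h3
      · exact Or.inl h6
      · exact absurd (Or.inr h6) h3
      · exact Or.inr h6
    have h5 := (i.cb v).2 hv
    have h6 : (d * b) • v + v = (b • v + v) + (d • v + v) := by
      rw [mul_smul]
      have h5 : d • (b • v + v) = d • b • v + d • v := smul_add _ _ _
      rw [i.D_fix hd (i.cbN v)] at h5
      have h6 : d • b • v = (b • v + v) + d • v := by
        rw [h5, add_assoc, i.amb.two, add_zero]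
      rw [h6, add_assoc]
    have h7 : (d * b) • v + v = 0 ∨ (d * b) • v + v = g • z := by
      rw [h6]
      rcases h4 with h4 | h4 <;> rcases h5 with h5 | h5 <;> rw [h4, h5]
      · left; exact h2 z
      · right; rw [add_assoc, h2, add_zero]
      · right
        have : z + (g • z + z) = g • z + (z + z) := by abel
        rw [this, h2, add_zero]
      · left; exact h2 _
    have h8 := key (d * b) (i.D_mul hd i.D_b) (fun u hu => by
      rw [mul_assoc, hbc u hu, ← mul_assoc, hc u hu, mul_assoc]) h7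
    have h9 : d * b * b = b := by rw [h8, one_mul]
    rwa [mul_assoc, i.bb, mul_one] at h9

end Kn

end Cfsg.Agent.Omega.NO1.TH.ET

end

end
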