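import Cfsg.Agent.Mrg.Omega.NO1.TH.OfFr
import Cfsg.Agent.Mrg.Omega.NO1.TH.PlusFin
import Cfsg.Agent.Mrg.Omega.NO1.Alpha.PlusOfFin
import Cfsg.Agent.Mrg.Omega.NO1.Field.KOne
import Cfsg.Agent.Mrg.Omega.NO1.Field.NoSz
import Cfsg.Agent.Mrg.Omega.NO1.B0.Seven
import Cfsg.Agent.Mrg.Omega.NO1.B0.OutTwo
import Cfsg.Agent.Mrg.Omega.NO1.TH.FrOut

section


/-!
# N1, `FrTwo` from the module theorem (`|V_P : V_P ∩ E_F| = 2`, any number of components)

* `ModTwo` : the module theorem for `a = 2`: every `World V U T M 2` with a member gives `Fin` or `Star2`;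
* `modTwo_of_socks` : from the sockets of `TH/Chain.lean`;
* `frTwo_of : NNOne → K1All → SL2Spr → NoSz → ModTwo → FrTwo`.
-/

set_option autoImplicit false
set_option linter.unusedSectionVars false

namespace Cfsg.Agent.Omega.NO1.TH

open Subgroup Cfsg Cfsg.Agent.ZN Cfsg.Agent.Omega.MinPar Cfsg.Agent.Omega.Frame
open Cfsg.Agent.Omega.NO1.AB
open Cfsg.Agent.Omega.NO1.WRF.Irr
open scoped Pointwise

universe u

/-- **The module theorem for `a = 2`.** -/
def ModTwo : Prop :=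
  ∀ (Y V : Type u) [Group Y] [Finite Y] [AddCommGroup V] [Finite V] [DistribMulAction Y V] (U : Set (Subgroup Y))
    (T : Sylow 2 Y) (M : Subgroup Y), World V U T M 2 → (∃ B, B ∈ U) → Fin V U T M ∨ Star2 V U T M

section world

variable {Y V : Type u} [Group Y] [Finite Y] [AddCommGroup V] [Finite V] [DistribMulAction Y V]
  {U : Set (Subgroup Y)} {T : Sylow 2 Y} {M : Subgroup Y} {a : ℕ}

theorem World.hyp2 (w : World V U T M a) : Hyp2 V U where
  faith := w.faith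
  noff := w.noff
  soc := w.soc

/-- no offender, for elementary abelian 2-subgroups -/
theorem World.off (w : World V U T M a) (B : Subgroup Y) (hB : ∀ b ∈ B, b * b = 1) (hne : B ≠ ⊥) :
    Nat.card B * Nat.card ↥(fx V B) < Nat.card V := by
  have hc : ∀ x ∈ B, ∀ y ∈ B, x * y = y * x := by
    intro x hx y hy
    have h1 := hB _ (B.mul_mem hx hy)
    have h2 : x * y = (x * y)⁻¹ := eq_inv_of_mul_eq_one_left h1
    rw [h2, mul_inv_rev, eq_comm]
    rw [← eq_inv_of_mul_eq_one_left (hB y hy), ← eq_inv_of_mul_eq_one_left (hB x hx)]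
  have h1 := w.noff B hc hB hne
  rw [← (fx V B).card_mul_index, mul_comm]
  exact Nat.mul_lt_mul_of_pos_left h1 Nat.card_pos

/-- (BETA) is impossible for `a = 2` -/
theorem World.false_two (w : World V U T M 2)
    (hirr : ∀ W : AddSubgroup V, (∀ y : Y, ∀ w ∈ W, y • w ∈ W) → W = ⊥ ∨ W = ⊤) {L A : Subgroup Y}
    {Q : Subgroup L} {R : Sylow 2 L} (hA : A ∈ U) (hLM : ¬ L ≤ M)
    (hRT : (R : Subgroup L).map L.subtype ≤ (T : Subgroup Y))
    (h0 : Loc0 (A.subgroupOf L) (Ee V A) (fx V A) Q (M.subgroupOf L) R) (hC : fx V L = ⊥)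
    (hne : A.subgroupOf L ⊓ Q ≠ ⊥) : False := by
  obtain ⟨T', z, t, o⟩ := B0.exists_out_of hLM hRT h0 hC hne w.faith (fun W hW hWE => by
    rcases hirr W hW with h1 | h1
    · exact h1
    · exfalso
      obtain ⟨v, hv⟩ := h0.mem.ne
      exact hv (hWE (h1 ▸ AddSubgroup.mem_top v))) w.off w.TM w.Mne w.max
  exact o.false_two (w.ind A hA)

end world

/-- `SC` for every index -/
theorem sc_of_fr {G : Type u} [Group G] [Finite G] {S : Sylow 2 G} {P M F : Subgroup G} (h : Fr S P M F)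
    (h1 : Field.SL2Spr.{u}) (h5 : Field.NoSz.{u}) : Alpha.SC (zl (S : Subgroup G) M) F := by
  by_cases h2 : (NOne.Flat.EE (zl (S : Subgroup G) M) F).relIndex (zl (S : Subgroup G) M) = 2
  · exact Alpha.sc_two h.hyp h2
  apply Field.sc_of h1 h5 h.hypF
  have hne1 : (NOne.Flat.EE (zl (S : Subgroup G) M) F).relIndex (zl (S : Subgroup G) M) ≠ 1 := by
    intro h2
    rw [relIndex_eq_one] at h2
    obtain ⟨w, hw, hwE⟩ := h.hyp.exists_not_mem
    exact hwE (h2 hw)
  have : Fact (Nat.Prime 2) := ⟨Nat.prime_two⟩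
  have h3 : (NOne.Flat.EE (zl (S : Subgroup G) M) F).relIndex (zl (S : Subgroup G) M) ∣
      Nat.card (zl (S : Subgroup G) M) :=
    Dvd.intro_left _ (NOne.Flat.card_mul_relIndex' NOne.Flat.Hyp.E_le_V)
  obtain ⟨n, hn⟩ := IsPGroup.iff_card.1 h.hyp.V_isPGroup
  rw [hn] at h3
  obtain ⟨k, -, hk⟩ := (Nat.dvd_prime_pow Nat.prime_two).1 h3
  rw [hk] at hne1 h2 ⊢
  rcases k with _ | _ | k
  · exact absurd rfl hne1
  · exact absurd rfl h2
  · rw [pow_succ, pow_succ]
    have : 0 < 2 ^ k := Nat.pos_of_ne_zero (by positivity)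
    omega

/-- **`FrTwo` from the module theorem.** -/
theorem frTwo_of (hNN : Field.NNOne.{u}) (hK : Field.K1All.{u}) (h1 : Field.SL2Spr.{u}) (h5 : Field.NoSz.{u})
    (hM : ModTwo.{u}) : FrTwo.{u} := by
  intro G _ _ S P M₀ F h hp h2 _
  exfalso
  obtain ⟨Y, V, _, _, _, _, _, T, Mx, ⟨R⟩⟩ := Comp.RepOne.exists_rep1 h.fdat
  have hW := world_of' h R hNN hK
  have h2' : (V1 S P ⊓ NOne.Flat.EE (zl (S : Subgroup G) M₀) F).relIndex (V1 S P) = 2 := by
    rw [hyp_index_V1 h.hyp h.cfg h.VP_le h.W_le_S h.not_le, inf_relIndex_left]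
    exact h2
  rw [h2'] at hW
  have hirr := Comp.RepOne.irred h.fdat R
  rcases hM Y V _ T Mx hW ⟨_, 1, rfl⟩ with hF | hS
  · obtain ⟨L, A, Q, Q', hA, hAL, hAT, hLM, hQT, hloc, hfx, hne⟩ :=
      Alpha.plusAt_of_fin h R (Alpha.nn_of_fr h) (sc_of_fr h h1 h5) hF hp
    exact hW.false_two hirr hA hLM hQT hloc hfx hne
  · exact hS.false hW.cls hW.hyp2 hW.max hirr

/-- the module theorem from the sockets -/
theorem modTwo_of_socks (hE : SockE.{u} fun _ V _ _ _ U T M => Fin V U T M ∨ Star2 V U T M)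
    (hA : SockA.{u} fun _ V _ _ _ U T M => Fin V U T M ∨ Star2 V U T M)
    (h1 : SockOne.{u} fun _ V _ _ _ U T M => Fin V U T M ∨ Star2 V U T M)
    (hN : SockNat.{u} fun _ V _ _ _ U T M => Fin V U T M ∨ Star2 V U T M)
    (hS : SockSym.{u} fun _ V _ _ _ U T M => Fin V U T M ∨ Star2 V U T M) : ModTwo.{u} := by
  intro Y V _ _ _ _ _ U T M w hU
  exact out_of_socks hE hA h1 hN hS _ Y V U T M 2 rfl w hU

end Cfsg.Agent.Omega.NO1.TH

end

section


/-!
# N1, `FrTwo` from the output of the chain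
-/

set_option autoImplicit false

namespace Cfsg.Agent.Omega.NO1.TH

universe u

/-- **`FrTwo` from the chain.** -/
theorem frTwo_of_out (h1 : Field.SL2Spr.{u}) (h5 : Field.NoSz.{u}) (hout : AllOut.{u}) : FrTwo.{u} :=
  frTwo_of Field.nNOne (Field.k1All_of h1 h5) h1 h5 fun Y V _ _ _ _ _ U T M w hU => hout Y V U T M 2 w hU

end Cfsg.Agent.Omega.NO1.TH

end
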